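import Mathlib

/-!
# Lower bounds for orders from stabiliser chains
-/

set_option autoImplicit false

namespace Cfsg.Lib.J4Real

open MulAction

variable {α : Type*} [Finite α]

/-- A stabiliser chain with transversals. -/
def IsChain (S : Subgroup (Equiv.Perm α)) : List (α × List (Equiv.Perm α)) → List α → Prop
  | [], _ => True
  | (b, T) :: L, prev => (∀ t ∈ T, t ∈ S ∧ ∀ c ∈ prev, t c = c) ∧ (T.map fun t => t b).Nodup ∧
      IsChain S L (b :: prev)

/-- The product of the lengths of the transversals. -/
def chainSize {β : Type*} : List (α × List β) → ℕ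
  | [] => 1
  | (_, T) :: L => T.length * chainSize L

omit [Finite α] in
/-- The subgroup fixing a list of points. -/
def fixList (S : Subgroup (Equiv.Perm α)) (prev : List α) : Subgroup (Equiv.Perm α) where
  carrier := {g | g ∈ S ∧ ∀ c ∈ prev, g c = c}
  one_mem' := ⟨one_mem S, fun _ _ => rfl⟩
  mul_mem' := fun {a b} ha hb => ⟨mul_mem ha.1 hb.1, fun c hc => by
    rw [Equiv.Perm.mul_apply, hb.2 c hc, ha.2 c hc]⟩
  inv_mem' := fun {a} ha => ⟨inv_mem ha.1, fun c hc => by
    conv_lhs => rw [← ha.2 c hc]
    simp⟩

theorem chainSize_le (S : Subgroup (Equiv.Perm α)) : ∀ (L : List (α × List (Equiv.Perm α)))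
    (prev : List α), IsChain S L prev → chainSize L ≤ Nat.card (fixList S prev)
  | [], prev, _ => Nat.card_pos
  | (b, T) :: L, prev, h => by
    obtain ⟨h1, h2, h3⟩ := h
    have ih := chainSize_le S L (b :: prev) h3
    let f : Fin T.length × fixList S (b :: prev) → fixList S prev := fun p =>
      ⟨T[p.1] * p.2.1, mul_mem (h1 _ (List.getElem_mem p.1.2))
        ⟨p.2.2.1, fun c hc => p.2.2.2 c (List.mem_cons_of_mem _ hc)⟩⟩
    have hf : Function.Injective f := by
      rintro ⟨i, s⟩ ⟨j, t⟩ e
      have e' : T[i] * s.1 = T[j] * t.1 := congrArg Subtype.val e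
      have hb := congrArg (fun g : Equiv.Perm α => g b) e'
      simp only [Equiv.Perm.mul_apply, s.2.2 b (by simp), t.2.2 b (by simp)] at hb
      have hij : i = j := Fin.ext ((List.Nodup.getElem_inj_iff h2 (hi := by simp) (hj := by simp)).1
        (by simpa using hb))
      subst hij
      exact Prod.ext rfl (Subtype.ext (mul_left_cancel e'))
    have := Nat.card_le_card_of_injective f hf
    rw [Nat.card_prod, Nat.card_eq_fintype_card (α := Fin T.length), Fintype.card_fin] at this
    exact (Nat.mul_le_mul_left _ ih).trans this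

theorem chainSize_le_card {S : Subgroup (Equiv.Perm α)} {L : List (α × List (Equiv.Perm α))}
    (h : IsChain S L []) : chainSize L ≤ Nat.card S := by
  refine (chainSize_le S L [] h).trans ?_
  exact Nat.card_le_card_of_injective (fun g => (⟨g.1, g.2.1⟩ : S))
    fun a b e => Subtype.ext (Subtype.mk.injEq .. ▸ e)

end Cfsg.Lib.J4Real
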