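import Cfsg.Agent.Lib.J4Real.Mgrp
import Cfsg.Agent.Lib.J4Real.Chain

/-!
# The intersections of `2^11:M24` with its seven conjugates
-/

set_option autoImplicit false
set_option maxRecDepth 20000

namespace Cfsg.Lib.J4Real

open Cfsg.Lib.CosetEnum
open Cfsg.Lib.J4Pres
open Cfsg.Lib.Concrete

/-- The element of a mask and a word. -/
noncomputable def pW (p : ℕ × List ℕ) : Equiv.Perm Vec := eW p.1 * wp p.2

/-- The letters of a mask and a word. -/
def pL (p : ℕ × List ℕ) : List ℕ := eL p.1 ++ p.2

theorem wp_pL (p : ℕ × List ℕ) : wp (pL p) = pW p := wp_append _ _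

/-- The generators of one of the subgroups. -/
def gensOf (j : ℕ) : List (ℕ × List ℕ) := hGens.getD j []

/-- The representative of a double coset. -/
noncomputable def gRep (j : ℕ) : Equiv.Perm Vec := wp (gWords.getD j [])

/-- The subgroup of `2^11:M24` belonging to a double coset. -/
noncomputable def Hj (j : ℕ) : Subgroup (Equiv.Perm Vec) :=
  Subgroup.closure {x | ∃ p ∈ gensOf j, pW p = x}

/-- The image of a position under a word in the complement. -/
def walkW (w : List ℕ) (i : ℕ) : ℕ :=
  w.foldr (fun g x => pget (letterPerms.getD (pLetter g) 0) x) i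

/-- The image of a position under a word in packed generators. -/
def walkP (ps : List ℕ) (t : List ℕ) (i : ℕ) : ℕ :=
  t.foldr (fun k x => pget (ps.getD k 0) x) i

/-- No entry twice. -/
def nodupN : List ℕ → Bool
  | [] => true
  | a :: L => (L.all fun b => !(Nat.beq a b)) && nodupN L

/-- A chain certificate is in order. -/
def chainB (ps : List ℕ) : List ℕ → List (ℕ × List (List ℕ)) → Bool
  | _, [] => true
  | prev, (b, T) :: L => Nat.blt b 24 &&
      (T.all fun t => (t.all fun k => Nat.blt k ps.length) &&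
        prev.all fun c => Nat.beq (walkP ps t c) c) &&
      nodupN (T.map fun t => walkP ps t b) && chainB ps (b :: prev) L

theorem perms_ok : ((List.range 4).all fun g => bits24.all fun i =>
    Nat.blt (pget (letterPerms.getD g 0) i) 24) = true := by decide +kernel

theorem rep_letter {g : ℕ} (hg : g < 4) : Rep (gPerm g) (letterPerms.getD g 0) := by
  intro x
  have h := List.all_eq_true.1 (List.all_eq_true.1 perms_ok g (List.mem_range.2 hg)) (gidx x).val
    (mem_bits24.2 (gidx x).isLt)
  rw [Nat.blt_eq] at h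
  rw [gPerm, dif_pos hg]
  show (gidx (letterFun g x)).val = _
  rw [letterFun, gidx_gpt, Fin.val_ofNat, Nat.mod_eq_of_lt h]

theorem walkW_spec : ∀ {w : List ℕ}, kOK w = true → ∀ x : GolayPt,
    (gidx (((w.map pLetter).map gPerm).prod x)).val = walkW w (gidx x).val
  | [], _, _ => rfl
  | g :: w, h, x => by
    simp only [kOK, List.all_cons, Bool.and_eq_true, Bool.or_eq_true, Nat.beq_eq] at h
    have ih := walkW_spec (w := w) (by simpa [kOK] using h.2) x
    rw [List.map_cons, List.map_cons, List.prod_cons, Equiv.Perm.mul_apply,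
      rep_letter (kLetter_pLetter (by omega)).1, ih]
    rfl

/-- The certificate of one subgroup. -/
noncomputable def hCheck (j : ℕ) : Bool :=
  ((List.range (gensOf j).length).all fun i =>
    let p := (gensOf j).getD i (0, [])
    let q := (hConj.getD j []).getD i (0, [])
    kOK p.2 && kOK q.2 && sameW (pL p ++ gWords.getD j []) (gWords.getD j [] ++ pL q)) &&
  low (gWords.getD j []) &&
  ((List.range (hPacks.getD j []).length).all fun i => Nat.blt i (gensOf j).length &&
    bits24.all fun k => Nat.beq (pget ((hPacks.getD j []).getD i 0) k)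
      (walkW ((gensOf j).getD i (0, [])).2 k)) &&
  ((hSpans.getD j []).all fun b => (gensOf j).any fun p => Nat.beq p.1 b && p.2.isEmpty) &&
  chainB (hPacks.getD j []) [] (hChains.getD j [])

theorem hCheck_ok : ((List.range 7).all fun j => hCheck j) = true := by decide +kernel

/-- The elements of a span. -/
def spanList : List ℕ → List ℕ
  | [] => [0]
  | b :: L => spanList L ++ (spanList L).map fun a => b ^^^ a

/-- No entry twice, for masks. -/
def nodupMasks (L : List ℕ) : Bool :=
  (L.foldl (fun p a => (p.1 ||| 2 ^ a, p.2 && !(p.1.testBit a) && Nat.blt a 2048)) (0, true)).2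

theorem foldl_false (L : List ℕ) (s : ℕ) :
    (L.foldl (fun p a => (p.1 ||| 2 ^ a, p.2 && !(p.1.testBit a) && Nat.blt a 2048)) (s, false)).2
      = false := by
  induction L generalizing s with
  | nil => rfl
  | cons a L ih => simp [ih]

theorem nodupMasks_spec : ∀ (L : List ℕ) (s : ℕ),
    (L.foldl (fun p a => (p.1 ||| 2 ^ a, p.2 && !(p.1.testBit a) && Nat.blt a 2048)) (s, true)).2
      = true → L.Nodup ∧ ∀ a ∈ L, a < 2048 ∧ s.testBit a = false
  | [], _, _ => ⟨List.nodup_nil, by simp⟩
  | a :: L, s, h => by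
    rw [List.foldl_cons] at h
    cases hc : (true && !(s.testBit a) && Nat.blt a 2048) with
    | false => rw [hc, foldl_false] at h; exact absurd h Bool.false_ne_true
    | true =>
      rw [hc] at h
      obtain ⟨hn, hL⟩ := nodupMasks_spec L _ h
      simp only [Bool.true_and, Bool.and_eq_true, Bool.not_eq_true', Nat.blt_eq] at hc
      refine ⟨List.nodup_cons.2 ⟨fun hm => ?_, hn⟩, ?_⟩
      · have := (hL a hm).2
        simp at this
      · intro b hb
        rcases List.mem_cons.1 hb with rfl | hb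
        · exact ⟨hc.2, hc.1⟩
        · have := hL b hb
          simp only [Nat.testBit_or, Bool.or_eq_false_iff] at this
          exact ⟨this.1, this.2.1⟩

theorem nodupN_spec : ∀ {L : List ℕ}, nodupN L = true → L.Nodup
  | [], _ => List.nodup_nil
  | a :: L, h => by
    simp only [nodupN, Bool.and_eq_true, List.all_eq_true, Bool.not_eq_true'] at h
    exact List.nodup_cons.2 ⟨fun hm => by simpa [Nat.beq_refl] using h.1 a hm, nodupN_spec h.2⟩

/-- The indices of the double cosets with their sizes. -/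
def cosetNum : List ℕ := [1, 15180, 28336, 3400320, 32643072, 54405120, 82575360]

theorem size_ok : ((List.range 7).all fun j =>
    nodupMasks (spanList (hSpans.getD j [])) &&
    (Nat.beq j 0 || Nat.beq (cosetNum.getD j 0 * ((spanList (hSpans.getD j [])).length *
      chainSize (hChains.getD j []))) 501397585920)) = true := by decide +kernel

variable {j : ℕ}

theorem hCheck_parts (hj : j < 7) :
    (∀ i < (gensOf j).length, kOK ((gensOf j).getD i (0, [])).2 = true ∧
      kOK ((hConj.getD j []).getD i (0, [])).2 = true ∧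
      wp (pL ((gensOf j).getD i (0, [])) ++ gWords.getD j []) =
        wp (gWords.getD j [] ++ pL ((hConj.getD j []).getD i (0, [])))) ∧
    low (gWords.getD j []) = true ∧
    (∀ i < (hPacks.getD j []).length, i < (gensOf j).length ∧ ∀ k < 24,
      pget ((hPacks.getD j []).getD i 0) k = walkW ((gensOf j).getD i (0, [])).2 k) ∧
    (∀ b ∈ hSpans.getD j [], ∃ p ∈ gensOf j, p.1 = b ∧ p.2 = []) ∧
    chainB (hPacks.getD j []) [] (hChains.getD j []) = true := by
  have h := List.all_eq_true.1 hCheck_ok j (List.mem_range.2 hj)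
  simp only [hCheck, Bool.and_eq_true, List.all_eq_true, List.mem_range, List.any_eq_true,
    Nat.blt_eq, Nat.beq_eq, List.isEmpty_iff, mem_bits24] at h
  obtain ⟨⟨⟨⟨h1, h2⟩, h3⟩, h4⟩, h5⟩ := h
  exact ⟨fun i hi => ⟨(h1 i hi).1.1, (h1 i hi).1.2, sameW_wp (h1 i hi).2⟩, h2, h3, h4, h5⟩

theorem pW_gen_mem {i : ℕ} (hi : i < (gensOf j).length) :
    pW ((gensOf j).getD i (0, [])) ∈ Hj j := by
  refine Subgroup.subset_closure ⟨_, ?_, rfl⟩
  rw [List.getD_eq_getElem _ _ hi]
  exact List.getElem_mem hi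

theorem Hj_le_M (hj : j < 7) : Hj j ≤ Msub := by
  rw [Hj, Subgroup.closure_le]
  rintro _ ⟨p, hp, rfl⟩
  obtain ⟨i, hi, rfl⟩ := List.getElem_of_mem hp
  have h := ((hCheck_parts hj).1 i hi).1
  rw [List.getD_eq_getElem _ _ hi] at h
  exact pair_mem h

theorem conj_Hj (hj : j < 7) {h : Equiv.Perm Vec} (hh : h ∈ Hj j) :
    (gRep j)⁻¹ * h * gRep j ∈ Msub := by
  have hle : Hj j ≤ Msub.comap (MulAut.conj (gRep j)⁻¹).toMonoidHom := by
    rw [Hj, Subgroup.closure_le]
    rintro _ ⟨p, hp, rfl⟩
    obtain ⟨i, hi, rfl⟩ := List.getElem_of_mem hp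
    obtain ⟨-, h2, h3⟩ := (hCheck_parts hj).1 i hi
    rw [List.getD_eq_getElem _ _ hi, wp_append, wp_append, wp_pL, wp_pL] at h3
    simp only [SetLike.mem_coe, Subgroup.mem_comap, MulEquiv.coe_toMonoidHom, MulAut.conj_apply,
      inv_inv]
    rw [mul_assoc, gRep, h3, inv_mul_cancel_left]
    exact pair_mem h2
  simpa using hle hh

/-- The image of one of the subgroups on 24 points. -/
noncomputable def Sj (j : ℕ) : Subgroup (Equiv.Perm GolayPt) :=
  ((Hj j).subgroupOf Msub).map psi

theorem psi_mem_Sj {x : Msub} (h : x.1 ∈ Hj j) : psi x ∈ Sj j := ⟨x, h, rfl⟩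

theorem gen_perm (hj : j < 7) {i : ℕ} (hi : i < (hPacks.getD j []).length) :
    ∃ g ∈ Sj j, Rep g ((hPacks.getD j []).getD i 0) := by
  obtain ⟨hi', hk⟩ := (hCheck_parts hj).2.2.1 i hi
  have h := ((hCheck_parts hj).1 i hi').1
  refine ⟨_, psi_mem_Sj (x := ⟨_, pair_mem (m := ((gensOf j).getD i (0, [])).1) h⟩)
    (pW_gen_mem hi'), fun x => ?_⟩
  rw [psi_pair h, walkW_spec h, hk _ (gidx x).isLt]

theorem walkP_perm (hj : j < 7) : ∀ {t : List ℕ},
    (∀ k ∈ t, k < (hPacks.getD j []).length) → ∃ g ∈ Sj j, ∀ x : GolayPt,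
      (gidx (g x)).val = walkP (hPacks.getD j []) t (gidx x).val
  | [], _ => ⟨1, one_mem _, fun _ => rfl⟩
  | k :: t, h => by
    obtain ⟨g, hg, hgw⟩ := walkP_perm hj (t := t) fun a ha => h a (List.mem_cons_of_mem _ ha)
    obtain ⟨a, ha, haw⟩ := gen_perm hj (h k (by simp))
    refine ⟨a * g, mul_mem ha hg, fun x => ?_⟩
    rw [Equiv.Perm.mul_apply, haw, hgw]
    rfl

theorem chainB_spec (hj : j < 7) : ∀ (L : List (ℕ × List (List ℕ))) (prev : List ℕ)
    (_ : ∀ c ∈ prev, c < 24), chainB (hPacks.getD j []) prev L = true →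
    ∃ L' : List (GolayPt × List (Equiv.Perm GolayPt)), chainSize L' = chainSize L ∧
      IsChain (Sj j) L' (prev.map fun c => gpt (Fin.ofNat 24 c))
  | [], _, _, _ => ⟨[], rfl, trivial⟩
  | (b, T) :: L, prev, hp, h => by
    simp only [chainB, Bool.and_eq_true, List.all_eq_true, Nat.blt_eq, Nat.beq_eq] at h
    obtain ⟨⟨⟨hb, hT⟩, hn⟩, hL⟩ := h
    obtain ⟨L', hs, hc⟩ := chainB_spec hj L (b :: prev)
      (by simpa [hb] using hp) hL
    have hperm : ∀ t ∈ T, ∃ g ∈ Sj j, ∀ x : GolayPt,
        (gidx (g x)).val = walkP (hPacks.getD j []) t (gidx x).val :=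
      fun t ht => walkP_perm hj (hT t ht).1
    choose! F hF1 hF2 using hperm
    refine ⟨(gpt (Fin.ofNat 24 b), T.map F) :: L', by simp [chainSize, hs], ?_, ?_, hc⟩
    · intro g hg
      obtain ⟨t, ht, rfl⟩ := List.mem_map.1 hg
      refine ⟨hF1 t ht, fun c hc => ?_⟩
      obtain ⟨c', hc', rfl⟩ := List.mem_map.1 hc
      refine gidx_injective (Fin.ext ?_)
      rw [hF2 t ht, gidx_gpt, Fin.val_ofNat, Nat.mod_eq_of_lt (hp c' hc'), (hT t ht).2 c' hc']
    · rw [List.map_map]
      refine List.Nodup.of_map (fun x : GolayPt => (gidx x).val) ?_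
      rw [List.map_map]
      convert nodupN_spec hn using 1
      refine List.map_congr_left fun t ht => ?_
      simp only [Function.comp_apply, hF2 t ht, gidx_gpt, Fin.val_ofNat, Nat.mod_eq_of_lt hb]

theorem card_Sj (hj : j < 7) : chainSize (hChains.getD j []) ≤ Nat.card (Sj j) := by
  obtain ⟨L, hs, hc⟩ := chainB_spec hj (hChains.getD j []) [] (by simp) (hCheck_parts hj).2.2.2.2
  exact hs ▸ chainSize_le_card hc

theorem span_mem (hj : j < 7) : ∀ {B : List ℕ}, (∀ b ∈ B, b ∈ hSpans.getD j []) →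
    ∀ a ∈ spanList B, eW a ∈ Hj j
  | [], _, a, ha => by
    simp [spanList] at ha
    rw [ha, eW_zero]
    exact one_mem _
  | b :: B, hB, a, ha => by
    have ih := span_mem hj (B := B) fun c hc => hB c (List.mem_cons_of_mem _ hc)
    rcases List.mem_append.1 ha with ha | ha
    · exact ih a ha
    · obtain ⟨c, hc, rfl⟩ := List.mem_map.1 ha
      rw [← eW_mul]
      refine mul_mem ?_ (ih c hc)
      obtain ⟨p, hp, h1, h2⟩ := (hCheck_parts hj).2.2.2.1 b (hB b (by simp))
      refine Subgroup.subset_closure ⟨p, hp, ?_⟩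
      rw [pW, h1, h2, wp_nil, mul_one]

theorem card_Hj_lower (hj : j < 7) :
    (spanList (hSpans.getD j [])).length * chainSize (hChains.getD j []) ≤ Nat.card (Hj j) := by
  refine (Nat.mul_le_mul_left _ (card_Sj hj)).trans ?_
  have h := List.all_eq_true.1 size_ok j (List.mem_range.2 hj)
  rw [Bool.and_eq_true] at h
  obtain ⟨hn, hlt⟩ := nodupMasks_spec _ 0 h.1
  have hpre : ∀ s : Sj j, ∃ x : Msub, x.1 ∈ Hj j ∧ psi x = s.1 := fun s => by
    obtain ⟨x, hx, e⟩ := s.2
    exact ⟨x, hx, e⟩
  choose P hP1 hP2 using hpre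
  let f : Fin (spanList (hSpans.getD j [])).length × Sj j → Hj j := fun p =>
    ⟨eW (spanList (hSpans.getD j []))[p.1] * (P p.2).1,
      mul_mem (span_mem hj (fun _ h => h) _ (List.getElem_mem p.1.2)) (hP1 p.2)⟩
  have hf : Function.Injective f := by
    rintro ⟨a, s⟩ ⟨b, t⟩ e
    have e' : (⟨eW (spanList (hSpans.getD j []))[a], eW_mem_M _⟩ : Msub) * P s =
        ⟨eW (spanList (hSpans.getD j []))[b], eW_mem_M _⟩ * P t :=
      Subtype.ext (by simpa [f] using e)
    have hone : ∀ m : ℕ, psi ⟨eW m, eW_mem_M m⟩ = 1 := fun m =>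
      (psi_eq (m := m) (a := 1) (by simp)).trans (map_one _)
    have hs := congrArg psi e'
    rw [map_mul, map_mul, hone, hone, one_mul, one_mul, hP2, hP2] at hs
    have hst : s = t := Subtype.ext hs
    subst hst
    have hab := congrArg Subtype.val (mul_right_cancel e')
    have hab' := eW_inj (hlt _ (List.getElem_mem a.2)).1 (hlt _ (List.getElem_mem b.2)).1 hab
    exact Prod.ext (Fin.ext ((List.Nodup.getElem_inj_iff hn).1 hab')) rfl
  have := Nat.card_le_card_of_injective f hf
  rwa [Nat.card_prod, Nat.card_eq_fintype_card (α := Fin _), Fintype.card_fin] at this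

end Cfsg.Lib.J4Real
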