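import Cfsg.Agent.Lib.J4Real.Mgrp
import Cfsg.Agent.Lib.J4Real.Hsub
import Cfsg.Agent.Lib.J4Real.DataCent
import Cfsg.Agent.Lib.J4Real.DataCentRows

/-!
# Twenty-seven elements commuting with the involution, given by their rows
-/

set_option autoImplicit false
set_option maxRecDepth 20000

namespace Cfsg.Lib.J4Real

open Cfsg.Lib.CosetEnum
open Cfsg.Lib.J4Pres

/-- The word of one of the twenty-seven elements. -/
def centWord (k : ℕ) : List ℕ :=
  if k < 14 then centGens.getD k [] else if k < 26 then pL (qGens.getD (k - 14) (0, [])) else eL zMask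

/-- The element. -/
noncomputable def cEl (k : ℕ) : Equiv.Perm Vec := wp (centWord k)

/-- The product of some of them. -/
noncomputable def cProd (s : List ℕ) : Equiv.Perm Vec := (s.map cEl).prod

theorem centRows_ok : (centRows.all fun M =>
    Nat.ble M.length 112 && M.all fun r => Nat.blt r (2 ^ 112)) = true ∧
    ((List.range 27).all fun k => inRange (centWord k)) = true :=
  ⟨by decide +kernel, by decide +kernel⟩

theorem centRows_len : ∀ R ∈ centRows, R.length ≤ 112 := fun R hR => by
  have h := List.all_eq_true.1 centRows_ok.1 R hR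
  rw [Bool.and_eq_true, Nat.ble_eq] at h
  exact h.1

theorem centRows_lt : ∀ R ∈ centRows, ∀ r ∈ R, r < 2 ^ 112 := fun R hR r hr => by
  have h := List.all_eq_true.1 centRows_ok.1 R hR
  rw [Bool.and_eq_true, List.all_eq_true] at h
  exact Nat.blt_eq.mp (h.2 r hr)

theorem centRows_eq : ((List.range 27).all fun k =>
    force (strideOnes 112 112) fun S =>
      force (packRows 112 ((List.range 112).map fun i => 2 ^ i)) fun V =>
        force (allWord S centRows [k] V) fun x => force (allWord S rows (centWord k) V) fun y =>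
          Nat.beq x y) = true := by
  decide +kernel

theorem centWord_lt {k : ℕ} (hk : k < 27) : ∀ g ∈ centWord k, g < 20 := by
  simpa [inRange, Nat.blt_eq] using List.all_eq_true.1 centRows_ok.2 k (List.mem_range.2 hk)

theorem cEl_apply {k : ℕ} (hk : k < 27) (v : Vec) :
    (cEl k v).1 = applyWord centRows [k] v.1 := by
  rw [cEl, wp_apply _ (centWord_lt hk)]
  refine (units_ext (applyWord_xor centRows [k]) (applyWord_xor rows (centWord k))
    (fun i hi => ?_) v.1 v.2).symm
  have h := List.all_eq_true.1 centRows_eq k (List.mem_range.2 hk)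
  simp only [force_eq, Nat.beq_eq] at h
  have hvs : ∀ v ∈ (List.range 112).map (2 ^ ·), v < 2 ^ 112 := fun v hv => by
    obtain ⟨j, hj, rfl⟩ := List.mem_map.1 hv
    exact Nat.pow_lt_pow_right (by norm_num) (List.mem_range.1 hj)
  obtain ⟨ha, ha'⟩ := allWord_eq centRows_len centRows_lt hvs [k]
  obtain ⟨hb, hb'⟩ := allWord_eq rows_len rows_lt hvs (centWord k)
  have hl : ((List.range 112).map (2 ^ ·)).length = 112 := by simp
  rw [hl] at ha hb
  rw [ha, hb] at h
  have e' := packRows_inj (by simp) (fun x hx => by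
      obtain ⟨v, hv, rfl⟩ := List.mem_map.1 hx; exact ha' v hv)
    (fun x hx => by obtain ⟨v, hv, rfl⟩ := List.mem_map.1 hx; exact hb' v hv) h
  exact List.map_inj_left.1 e' _ (List.mem_map.2 ⟨i, List.mem_range.2 hi, rfl⟩)

theorem cProd_apply : ∀ {s : List ℕ}, (∀ k ∈ s, k < 27) → ∀ v : Vec,
    (cProd s v).1 = applyWord centRows s v.1
  | [], _, _ => rfl
  | k :: s, hs, v => by
    have ih := cProd_apply (s := s) (fun a ha => hs a (List.mem_cons_of_mem _ ha)) v
    rw [cProd, List.map_cons, List.prod_cons, Equiv.Perm.mul_apply, cEl_apply (hs k (by simp)),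
      applyWord_cons, applyWord_cons]
    show applyRows _ (applyWord centRows [] ((cProd s v).1)) = _
    rw [ih]
    rfl

/-- Two products agree on the unit vectors. -/
noncomputable def sameC (a b : List ℕ) : Bool :=
  ((a ++ b).all fun k => Nat.blt k 27) && force (strideOnes 112 112) fun S =>
    force (packRows 112 ((List.range 112).map fun i => 2 ^ i)) fun V =>
      force (allWord S centRows a V) fun x => force (allWord S centRows b V) fun y => Nat.beq x y

theorem sameC_prod {a b : List ℕ} (h : sameC a b = true) : cProd a = cProd b := by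
  simp only [sameC, Bool.and_eq_true, List.all_eq_true, Nat.blt_eq, List.mem_append, force_eq,
    Nat.beq_eq] at h
  refine Equiv.ext fun v => Subtype.ext ?_
  rw [cProd_apply (fun k hk => h.1 k (Or.inl hk)), cProd_apply (fun k hk => h.1 k (Or.inr hk))]
  refine units_ext (applyWord_xor centRows a) (applyWord_xor centRows b) (fun i hi => ?_) v.1 v.2
  have hvs : ∀ v ∈ (List.range 112).map (2 ^ ·), v < 2 ^ 112 := fun v hv => by
    obtain ⟨j, hj, rfl⟩ := List.mem_map.1 hv
    exact Nat.pow_lt_pow_right (by norm_num) (List.mem_range.1 hj)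
  obtain ⟨ha, ha'⟩ := allWord_eq centRows_len centRows_lt hvs a
  obtain ⟨hb, hb'⟩ := allWord_eq centRows_len centRows_lt hvs b
  have hl : ((List.range 112).map (2 ^ ·)).length = 112 := by simp
  rw [hl] at ha hb
  have e := h.2
  rw [ha, hb] at e
  have e' := packRows_inj (by simp) (fun x hx => by
      obtain ⟨v, hv, rfl⟩ := List.mem_map.1 hx; exact ha' v hv)
    (fun x hx => by obtain ⟨v, hv, rfl⟩ := List.mem_map.1 hx; exact hb' v hv) e
  exact List.map_inj_left.1 e' _ (List.mem_map.2 ⟨i, List.mem_range.2 hi, rfl⟩)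

theorem cProd_cons (k : ℕ) (s : List ℕ) : cProd (k :: s) = cEl k * cProd s := by simp [cProd]

theorem cProd_append (a b : List ℕ) : cProd (a ++ b) = cProd a * cProd b := by
  simp [cProd, List.map_append, List.prod_append]

theorem cProd_single (k : ℕ) : cProd [k] = cEl k := by simp [cProd]

theorem comm_z_ok : ((List.range 27).all fun k => sameC [k, 26] [26, k]) = true := by
  decide +kernel

theorem cEl_comm {k : ℕ} (hk : k < 27) : cEl k * eW zMask = eW zMask * cEl k := by
  have h := sameC_prod (List.all_eq_true.1 comm_z_ok k (List.mem_range.2 hk))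
  rw [cProd_cons, cProd_single, cProd_cons, cProd_single] at h
  exact h

/-- The fixed vector and its companions. -/
noncomputable def vecAt (i : ℕ) : Vec :=
  if h : centVecs.getD i 0 < 2 ^ 112 then ⟨centVecs.getD i 0, h⟩ else ⟨0, Nat.two_pow_pos _⟩

theorem vecs_ok : (centVecs.all fun v => Nat.blt v (2 ^ 112)) = true ∧ centVecs.length = 77 ∧
    centVecs.Nodup ∧
    (([0, 1] ++ (List.range 11).map (6 + ·)).all fun g =>
      Nat.beq (applyWord rows [g] (centVecs.getD 0 0)) (centVecs.getD 0 0)) = true :=
  ⟨by decide +kernel, by decide +kernel, by decide +kernel, by decide +kernel⟩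

theorem vecAt_val {i : ℕ} (hi : i < 77) : (vecAt i).1 = centVecs.getD i 0 := by
  have hi' : i < centVecs.length := vecs_ok.2.1.symm ▸ hi
  have h : centVecs.getD i 0 < 2 ^ 112 := by
    rw [List.getD_eq_getElem _ _ hi']
    exact Nat.blt_eq.mp (List.all_eq_true.1 vecs_ok.1 _ (List.getElem_mem hi'))
  rw [vecAt, dif_pos h]

theorem vecAt_inj {i k : ℕ} (hi : i < 77) (hk : k < 77) (h : vecAt i = vecAt k) : i = k := by
  have hi' : i < centVecs.length := vecs_ok.2.1.symm ▸ hi
  have hk' : k < centVecs.length := vecs_ok.2.1.symm ▸ hk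
  have h' := congrArg Subtype.val h
  rw [vecAt_val hi, vecAt_val hk, List.getD_eq_getElem _ _ hi', List.getD_eq_getElem _ _ hk'] at h'
  exact (List.Nodup.getElem_inj_iff vecs_ok.2.2.1).1 h'

/-- The permutation of the vectors by the generators. -/
def centImg (g i : ℕ) : ℕ := (centImgs.getD g []).getD i 0

theorem imgs_ok : (force (strideOnes 112 77) fun S => force (packRows 112 centVecs) fun V =>
    ((List.range 14).all fun g =>
      ((List.range 77).all fun i => Nat.blt (centImg g i) 77) &&
      Nat.beq (allWord S centRows [g] V)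
        (packRows 112 ((List.range 77).map fun i => centVecs.getD (centImg g i) 0))) &&
    (List.range 12).all fun i => Nat.beq (allWord S centRows [14 + i] V) V) = true := by
  decide +kernel

theorem cEl_vecs {g : ℕ} (hg : g < 27) {f : ℕ → ℕ}
    (h : allWord (strideOnes 112 77) centRows [g] (packRows 112 centVecs) =
      packRows 112 ((List.range 77).map fun i => centVecs.getD (f i) 0))
    {i : ℕ} (hi : i < 77) (hf : ∀ i < 77, f i < 77) : cEl g (vecAt i) = vecAt (f i) := by
  have hlen := vecs_ok.2.1
  have hv : ∀ v ∈ centVecs, v < 2 ^ 112 := fun v hv =>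
    Nat.blt_eq.mp (List.all_eq_true.1 vecs_ok.1 v hv)
  obtain ⟨ha, ha'⟩ := allWord_eq centRows_len centRows_lt hv [g]
  rw [hlen, h] at ha
  have e := packRows_inj (by simp [hlen]) (fun x hx => by
      obtain ⟨k, hk, rfl⟩ := List.mem_map.1 hx
      rw [← vecAt_val (hf k (List.mem_range.1 hk))]
      exact (vecAt _).2)
    (fun x hx => by obtain ⟨v, hv, rfl⟩ := List.mem_map.1 hx; exact ha' v hv) ha
  refine Subtype.ext ?_
  rw [cEl_apply hg, vecAt_val hi, vecAt_val (hf i hi)]
  have hi' : i < centVecs.length := hlen.symm ▸ hi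
  have := (List.getElem_of_eq e (i := i) (by simpa using hi))
  simp only [List.getElem_map, List.getElem_range] at this
  rw [this, List.getD_eq_getElem _ _ hi']

theorem centImg_lt {g i : ℕ} (hg : g < 14) (hi : i < 77) : centImg g i < 77 := by
  have h := imgs_ok
  simp only [force_eq, Bool.and_eq_true, List.all_eq_true, List.mem_range, Nat.blt_eq] at h
  exact (h.1 g hg).1 i hi

theorem gen_vec {g i : ℕ} (hg : g < 14) (hi : i < 77) :
    cEl g (vecAt i) = vecAt (centImg g i) := by
  have h := imgs_ok
  simp only [force_eq, Bool.and_eq_true, List.all_eq_true, List.mem_range, Nat.blt_eq,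
    Nat.beq_eq] at h
  exact cEl_vecs (by omega) (h.1 g hg).2 hi fun k hk => centImg_lt hg hk

theorem q_vec {i k : ℕ} (hi : i < 12) (hk : k < 77) : cEl (14 + i) (vecAt k) = vecAt k := by
  have h := imgs_ok
  simp only [force_eq, Bool.and_eq_true, List.all_eq_true, List.mem_range, Nat.blt_eq,
    Nat.beq_eq] at h
  refine cEl_vecs (f := id) (by omega) ?_ hk fun k hk => hk
  rw [h.2 i hi]
  congr 1

end Cfsg.Lib.J4Real
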