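import Cfsg.Agent.Lib.J4Real.CentUpper
import Cfsg.Agent.Lib.J4Real.CentAct

/-!
# The order of the centralizer of the involution
-/

set_option autoImplicit false
set_option maxRecDepth 20000

namespace Cfsg.Lib.J4Real

open Cfsg.Lib.CosetEnum
open Cfsg.Lib.J4Pres
open Cfsg.Lib.Concrete
open scoped Pointwise

/-- The group generated by the fourteen elements. -/
noncomputable def Cgen : Subgroup (Equiv.Perm Vec) :=
  Subgroup.closure {x | ∃ g < 14, cEl g = x}

theorem cEl_mem {g : ℕ} (hg : g < 14) : cEl g ∈ Cgen := Subgroup.subset_closure ⟨g, hg, rfl⟩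

theorem cEl_mem_Cz {k : ℕ} (hk : k < 27) : cEl k ∈ Cz := by
  refine Subgroup.mem_inf.2 ⟨wp_mem_G (centWord_lt hk), ?_⟩
  rw [Subgroup.mem_centralizer_singleton_iff]
  exact cEl_comm hk

theorem Cgen_le : Cgen ≤ Cz := by
  rw [Cgen, Subgroup.closure_le]
  rintro _ ⟨g, hg, rfl⟩
  exact cEl_mem_Cz (by omega)

theorem basis_words_ok : ((List.range 11).all fun n => decide (centWord n = [6 + n])) = true ∧
    ((List.range 2).all fun i => decide (pL (centWords.getD i (0, [])) = centWord (11 + i)) &&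
      kOK (centWords.getD i (0, [])).2 &&
      bits24.all fun k => Nat.beq (pget (kPacks.getD i 0) k)
        (walkW (centWords.getD i (0, [])).2 k)) = true ∧
    kPacks.length = 2 ∧ chainB kPacks [] kChain = true ∧ chainSize kChain = 138240 :=
  ⟨by decide +kernel, by decide +kernel, by decide +kernel, by decide +kernel, by decide +kernel⟩

theorem E_le_Cgen (m : ℕ) : eW m ∈ Cgen := by
  have key : ∀ n ≤ 11, wp (eLn n m) ∈ Cgen := by
    intro n
    induction n with
    | zero => exact fun _ => one_mem _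
    | succ n ih =>
      intro hn
      rw [wp_eLn_succ]
      refine mul_mem (ih (by omega)) ?_
      cases m.testBit n
      · exact one_mem _
      · have h := List.all_eq_true.1 basis_words_ok.1 n (List.mem_range.2 (by omega))
        rw [decide_eq_true_eq] at h
        have := cEl_mem (g := n) (by omega)
        rwa [cEl, h, wp_single] at this
  exact key 11 le_rfl

/-- A chain certificate gives a lower bound for the order. -/
theorem chainB_card {S : Subgroup (Equiv.Perm GolayPt)} {ps : List ℕ}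
    (hgen : ∀ k < ps.length, ∃ g ∈ S, Rep g (ps.getD k 0)) {L : List (ℕ × List (List ℕ))}
    (h : chainB ps [] L = true) : chainSize L ≤ Nat.card S := by
  have hword : ∀ t : List ℕ, (∀ k ∈ t, k < ps.length) → ∃ g ∈ S, ∀ x : GolayPt,
      (gidx (g x)).val = walkP ps t (gidx x).val := by
    intro t
    induction t with
    | nil => exact fun _ => ⟨1, one_mem _, fun _ => rfl⟩
    | cons k t ih =>
      intro ht
      obtain ⟨g, hg, hgw⟩ := ih fun a ha => ht a (List.mem_cons_of_mem _ ha)
      obtain ⟨a, ha, haw⟩ := hgen k (ht k (by simp))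
      refine ⟨a * g, mul_mem ha hg, fun x => ?_⟩
      rw [Equiv.Perm.mul_apply, haw, hgw]
      rfl
  have key : ∀ (L : List (ℕ × List (List ℕ))) (prev : List ℕ), (∀ c ∈ prev, c < 24) →
      chainB ps prev L = true → ∃ L' : List (GolayPt × List (Equiv.Perm GolayPt)),
        chainSize L' = chainSize L ∧ IsChain S L' (prev.map fun c => gpt (Fin.ofNat 24 c)) := by
    intro L
    induction L with
    | nil => exact fun _ _ _ => ⟨[], rfl, trivial⟩
    | cons e L ih =>
      obtain ⟨b, T⟩ := e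
      intro prev hp h
      simp only [chainB, Bool.and_eq_true, List.all_eq_true, Nat.blt_eq, Nat.beq_eq] at h
      obtain ⟨⟨⟨hb, hT⟩, hn⟩, hL⟩ := h
      obtain ⟨L', hs, hc⟩ := ih (b :: prev) (by simpa [hb] using hp) hL
      have hperm : ∀ t ∈ T, ∃ g ∈ S, ∀ x : GolayPt,
          (gidx (g x)).val = walkP ps t (gidx x).val :=
        fun t ht => hword t (hT t ht).1
      choose! F hF1 hF2 using hperm
      refine ⟨(gpt (Fin.ofNat 24 b), T.map F) :: L', by simp [chainSize, hs], ?_, ?_, hc⟩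
      · intro g hg
        obtain ⟨t, ht, rfl⟩ := List.mem_map.1 hg
        refine ⟨hF1 t ht, fun c hc => ?_⟩
        obtain ⟨c', hc', rfl⟩ := List.mem_map.1 hc
        refine gidx_injective (Fin.ext ?_)
        rw [hF2 t ht, gidx_gpt, Fin.val_ofNat, Nat.mod_eq_of_lt (hp c' hc'), (hT t ht).2 c' hc']
      · rw [List.map_map]
        refine List.Nodup.of_map (fun x : GolayPt => (gidx x).val) ?_
        rw [List.map_map]
        convert nodupN_spec hn using 1
        refine List.map_congr_left fun t ht => ?_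
        simp only [Function.comp_apply, hF2 t ht, gidx_gpt, Fin.val_ofNat, Nat.mod_eq_of_lt hb]
  obtain ⟨L', hs, hc⟩ := key L [] (by simp) h
  exact hs ▸ chainSize_le_card hc

theorem stab_ge : 283115520 ≤ Nat.card ↥(Cgen ⊓ Msub) := by
  let S : Subgroup (Equiv.Perm GolayPt) := ((Cgen ⊓ Msub).subgroupOf Msub).map psi
  have hS : 138240 ≤ Nat.card S := by
    rw [← basis_words_ok.2.2.2.2]
    refine chainB_card (fun k hk => ?_) basis_words_ok.2.2.2.1
    rw [basis_words_ok.2.2.1] at hk
    have h := List.all_eq_true.1 basis_words_ok.2.1 k (List.mem_range.2 hk)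
    simp only [Bool.and_eq_true, decide_eq_true_eq, List.all_eq_true, Nat.beq_eq, mem_bits24] at h
    obtain ⟨⟨h1, h2⟩, h3⟩ := h
    have hmem : pW (centWords.getD k (0, [])) ∈ Cgen ⊓ Msub := by
      refine ⟨?_, pair_mem h2⟩
      have := cEl_mem (g := 11 + k) (by omega)
      rwa [cEl, ← h1, wp_pL] at this
    refine ⟨psi ⟨_, pair_mem h2⟩, ⟨⟨_, pair_mem h2⟩, hmem, rfl⟩, fun x => ?_⟩
    rw [psi_pair h2, walkW_spec h2, h3 _ (gidx x).isLt]
  have hpre : ∀ s : S, ∃ x : Msub, x.1 ∈ Cgen ⊓ Msub ∧ psi x = s.1 := fun s => by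
    obtain ⟨x, hx, e⟩ := s.2
    exact ⟨x, hx, e⟩
  choose P hP1 hP2 using hpre
  let f : Fin 2048 × S → ↥(Cgen ⊓ Msub) := fun p =>
    ⟨eW p.1.1 * (P p.2).1, mul_mem ⟨E_le_Cgen _, eW_mem_M _⟩ (hP1 p.2)⟩
  have hf : Function.Injective f := by
    rintro ⟨a, s⟩ ⟨b, t⟩ e
    have e' : (⟨eW a.1, eW_mem_M _⟩ : Msub) * P s = ⟨eW b.1, eW_mem_M _⟩ * P t :=
      Subtype.ext (by simpa [f] using e)
    have hone : ∀ m : ℕ, psi ⟨eW m, eW_mem_M m⟩ = 1 := fun m =>
      (psi_eq (m := m) (a := 1) (by simp)).trans (map_one _)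
    have hs := congrArg psi e'
    rw [map_mul, map_mul, hone, hone, one_mul, one_mul, hP2, hP2] at hs
    have hst : s = t := Subtype.ext hs
    subst hst
    have hab := congrArg Subtype.val (mul_right_cancel e')
    exact Prod.ext (Fin.ext (eW_inj a.2 b.2 hab)) rfl
  have hle := Nat.card_le_card_of_injective f hf
  rw [Nat.card_prod, Nat.card_eq_fintype_card (α := Fin 2048), Fintype.card_fin] at hle
  omega

theorem M_fix_v0 {m : Equiv.Perm Vec} (hm : m ∈ Msub) : m (vecAt 0) = vecAt 0 := by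
  have hgen : ∀ g ∈ [0, 1] ++ (List.range 11).map (6 + ·), jp g (vecAt 0) = vecAt 0 := by
    intro g hg
    have hlt : g < 20 := by
      simp only [List.mem_append, List.mem_cons, List.not_mem_nil, or_false, List.mem_map,
        List.mem_range] at hg
      omega
    have h := List.all_eq_true.1 vecs_ok.2.2.2 g hg
    rw [Nat.beq_eq] at h
    refine Subtype.ext ?_
    rw [jp_apply hlt, vecAt_val (by norm_num), h]
  let F : Subgroup (Equiv.Perm Vec) := MulAction.stabilizer (Equiv.Perm Vec) (vecAt 0)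
  have hmemF : ∀ g ∈ [0, 1] ++ (List.range 11).map (6 + ·), jp g ∈ F :=
    fun g hg => MulAction.mem_stabilizer_iff.2 (hgen g hg)
  have hK : Ksub ≤ F := by
    rw [Ksub, Subgroup.closure_le]
    rintro _ (rfl | rfl)
    · exact hmemF 0 (by simp)
    · exact hmemF 1 (by simp)
  have hE : ∀ a, eW a ∈ F := by
    intro a
    have key : ∀ n ≤ 11, wp (eLn n a) ∈ F := by
      intro n
      induction n with
      | zero => exact fun _ => one_mem _
      | succ n ih =>
        intro hn
        rw [wp_eLn_succ]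
        refine mul_mem (ih (by omega)) ?_
        cases a.testBit n
        · exact one_mem _
        · exact hmemF _ (List.mem_append_right _ (List.mem_map.2 ⟨n, List.mem_range.2 hn, rfl⟩))
    exact key 11 le_rfl
  obtain ⟨a, s, hs, rfl⟩ := hm
  exact MulAction.mem_stabilizer_iff.1 (mul_mem (hE a) (hK hs))

/-- The tree reaches every vector. -/
def treeGo : List (ℕ × ℕ × ℕ) → ℕ → Bool
  | [], d => Nat.beq d (2 ^ 77 - 1)
  | (c, p, g) :: L, d => Nat.blt g 14 && Nat.blt p 77 && d.testBit p && Nat.beq (centImg g p) c &&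
      treeGo L (d ||| 2 ^ c)

theorem tree_ok : treeGo centTree 1 = true := by decide +kernel

theorem orbit_vec {i : ℕ} (hi : i < 77) : ∃ c ∈ Cgen, c (vecAt 0) = vecAt i := by
  have key : ∀ (L : List (ℕ × ℕ × ℕ)) (d : ℕ),
      (∀ i, d.testBit i = true → ∃ c ∈ Cgen, c (vecAt 0) = vecAt i) → treeGo L d = true →
      ∀ i < 77, ∃ c ∈ Cgen, c (vecAt 0) = vecAt i := by
    intro L
    induction L with
    | nil =>
      intro d hd h i hi
      refine hd i ?_
      rw [treeGo, Nat.beq_eq] at h
      rw [h, Nat.testBit_two_pow_sub_one, decide_eq_true hi]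
    | cons e L ih =>
      obtain ⟨c, p, g⟩ := e
      intro d hd h
      simp only [treeGo, Bool.and_eq_true, Nat.blt_eq, Nat.beq_eq] at h
      obtain ⟨⟨⟨⟨hg, hp⟩, hdp⟩, hc⟩, hL⟩ := h
      refine ih _ (fun i hi => ?_) hL
      rw [Nat.testBit_or, Bool.or_eq_true, Nat.testBit_two_pow, decide_eq_true_eq] at hi
      rcases hi with hi | rfl
      · exact hd i hi
      · obtain ⟨a, ha, e⟩ := hd p hdp
        refine ⟨cEl g * a, mul_mem (cEl_mem hg) ha, ?_⟩
        rw [Equiv.Perm.mul_apply, e, gen_vec hg hp, hc]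
  refine key centTree 1 (fun i hi => ?_) tree_ok i hi
  have : i = 0 := by
    by_contra h0
    rw [Nat.testBit_lt_two_pow (Nat.one_lt_two_pow h0)] at hi
    exact Bool.noConfusion hi
  exact this ▸ ⟨1, one_mem _, rfl⟩

theorem card_Cgen_ge : 77 * Nat.card ↥(Cgen ⊓ Msub) ≤ Nat.card Cgen := by
  choose R hR1 hR2 using fun i : Fin 77 => orbit_vec i.2
  let f : Fin 77 × ↥(Cgen ⊓ Msub) → Cgen := fun p => ⟨R p.1 * p.2.1, mul_mem (hR1 p.1) p.2.2.1⟩
  have hf : Function.Injective f := by
    rintro ⟨a, s⟩ ⟨b, t⟩ e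
    have e' : R a * s.1 = R b * t.1 := congrArg Subtype.val e
    have hv := congrArg (fun q : Equiv.Perm Vec => q (vecAt 0)) e'
    simp only [Equiv.Perm.mul_apply, M_fix_v0 s.2.2, M_fix_v0 t.2.2, hR2] at hv
    have hab : a = b := Fin.ext (vecAt_inj a.2 b.2 hv)
    subst hab
    exact Prod.ext rfl (Subtype.ext (mul_left_cancel e'))
  have := Nat.card_le_card_of_injective f hf
  rwa [Nat.card_prod, Nat.card_eq_fintype_card (α := Fin 77), Fintype.card_fin] at this

theorem card_Cz_le : Nat.card Cz ≤ 77 * 283115520 := by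
  have horb : MulAction.orbit Cz base ⊆ {q : Coset | ∃ c ∈ Cz, c • base = q} := by
    rintro _ ⟨c, rfl⟩
    exact ⟨c.1, c.2, rfl⟩
  have h1 : Nat.card (MulAction.orbit Cz base) ≤ 77 := by
    rw [Nat.card_coe_set_eq]
    exact (Set.ncard_le_ncard horb (Set.toFinite _)).trans card_Cz_orbit
  have h2 : Nat.card (MulAction.stabilizer Cz base) ≤ 283115520 := by
    rw [← card_CMz]
    refine Nat.card_le_card_of_injective
      (fun c => (⟨c.1.1, mem_stab_base.1 (MulAction.mem_stabilizer_iff.1 c.2), c.1.2.2⟩ : CMz))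
      fun a b e => ?_
    exact Subtype.ext (Subtype.ext (congrArg (fun x : CMz => x.1) e))
  have h3 := Nat.card_congr (MulAction.orbitProdStabilizerEquivGroup Cz base)
  rw [Nat.card_prod] at h3
  rw [← h3]
  exact Nat.mul_le_mul h1 h2

theorem Cz_eq : Cgen = Cz := by
  refine Subgroup.eq_of_le_of_card_ge Cgen_le (card_Cz_le.trans ?_)
  exact (Nat.mul_le_mul_left _ stab_ge).trans card_Cgen_ge

theorem card_Cz : Nat.card Cz = 21799895040 := by
  refine le_antisymm (card_Cz_le.trans (by norm_num)) ?_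
  rw [← Cz_eq]
  exact le_trans (by norm_num) ((Nat.mul_le_mul_left _ stab_ge).trans card_Cgen_ge)

end Cfsg.Lib.J4Real
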