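import Cfsg.Agent.Lib.J4Real.Upper

/-!
# The order of the group generated by the three letters
-/

set_option autoImplicit false
set_option maxRecDepth 20000

namespace Cfsg.Lib.J4Real

open Cfsg.Lib.CosetEnum
open Cfsg.Lib.J4Pres
open scoped Pointwise

theorem defs_low6 : ((List.range 11).all fun i => (defWords.getD i []).all fun g => Nat.blt g 6) =
    true := by decide +kernel

theorem jp_mem_G {g : ℕ} (hg : g < 20) : jp g ∈ Gsub := by
  have h6 : ∀ g < 6, jp g ∈ Gsub := by
    intro g hg
    have h : ∀ k < 3, jp k ∈ Gsub := fun k hk =>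
      Subgroup.subset_closure (by interval_cases k <;> simp)
    rcases Nat.lt_or_ge g 3 with h' | h'
    · exact h g h'
    · have e : g = flipX (g - 3) := by unfold flipX; rw [if_pos (by omega)]; omega
      rw [e, jp_flip (by omega)]
      exact inv_mem (h _ (by omega))
  have h17 : ∀ g < 17, jp g ∈ Gsub := by
    intro g hg
    rcases Nat.lt_or_ge g 6 with h | h
    · exact h6 g h
    · obtain ⟨i, rfl⟩ : ∃ i, g = 6 + i := ⟨g - 6, by omega⟩
      rw [def_wp (by omega), wp]
      refine Subgroup.list_prod_mem _ fun x hx => ?_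
      obtain ⟨k, hk, rfl⟩ := List.mem_map.1 hx
      have h' := List.all_eq_true.1 defs_low6 i (List.mem_range.2 (by omega))
      rw [List.all_eq_true] at h'
      exact h6 k (Nat.blt_eq.mp (h' k hk))
  rcases Nat.lt_or_ge g 17 with h | h
  · exact h17 g h
  · obtain ⟨i, rfl⟩ : ∃ i, g = 6 + i := ⟨g - 6, by omega⟩
    rw [def_wp (by omega), wp]
    refine Subgroup.list_prod_mem _ fun x hx => ?_
    obtain ⟨k, hk, rfl⟩ := List.mem_map.1 hx
    have h' := List.all_eq_true.1 defs_ok i (List.mem_range.2 (by omega))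
    rw [Bool.and_eq_true, low, List.all_eq_true] at h'
    exact h17 k (Nat.blt_eq.mp (h'.1 k hk))

theorem wp_mem_G : ∀ {w : List ℕ}, (∀ g ∈ w, g < 20) → wp w ∈ Gsub
  | [], _ => one_mem _
  | g :: w, h => by
    rw [wp_cons]
    exact mul_mem (jp_mem_G (h g (by simp))) (wp_mem_G fun a ha => h a (List.mem_cons_of_mem _ ha))

theorem M_le_G : Msub ≤ Gsub := by
  have hE : ∀ n ≤ 11, ∀ m, wp (eLn n m) ∈ Gsub := by
    intro n
    induction n with
    | zero => intro _ m; exact one_mem _
    | succ n ih =>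
      intro hn m
      rw [wp_eLn_succ]
      refine mul_mem (ih (by omega) m) ?_
      cases m.testBit n
      · exact one_mem _
      · exact jp_mem_G (by omega)
  rintro _ ⟨m, s, hs, rfl⟩
  refine mul_mem (hE 11 le_rfl m) ?_
  have hle : Ksub ≤ Gsub := by
    rw [Ksub, Subgroup.closure_le]
    rintro _ (rfl | rfl) <;> exact jp_mem_G (by norm_num)
  exact hle hs

/-- A word is not the identity, as seen on the seed vector. -/
noncomputable def moves (w : List ℕ) : Bool :=
  inRange w && force (applyWord rows w seedVec) fun v => !(Nat.beq v seedVec)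

theorem moves_ne {w : List ℕ} (h : moves w = true) : wp w ≠ 1 := by
  have hs : seedVec < 2 ^ 112 := by
    have := seed_ok
    rw [Bool.and_eq_true, decide_eq_true_eq] at this
    exact this.1
  simp only [moves, inRange, Bool.and_eq_true, force_eq, List.all_eq_true, Nat.blt_eq,
    Bool.not_eq_true'] at h
  intro e
  have h' := congrArg (fun p : Equiv.Perm Vec => (p ⟨seedVec, hs⟩).1) e
  simp only [wp_apply w h.1, Equiv.Perm.one_apply] at h'
  rw [h'] at h
  exact absurd h.2 (by simp)

theorem primes_ok : (primeWords.all fun p => moves p.2 &&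
    sameW (List.replicate p.1 p.2).flatten []) = true := by decide +kernel

theorem wp_replicate (k : ℕ) (w : List ℕ) : wp (List.replicate k w).flatten = wp w ^ k := by
  induction k with
  | zero => simp [wp_nil]
  | succ k ih => rw [List.replicate_succ, List.flatten_cons, wp_append, ih, pow_succ']

theorem prime_dvd {p : ℕ} {w : List ℕ} (hp : p.Prime) (h : (p, w) ∈ primeWords) :
    p ∣ Nat.card Gsub := by
  have h' := List.all_eq_true.1 primes_ok _ h
  rw [Bool.and_eq_true] at h'
  haveI : Fact p.Prime := ⟨hp⟩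
  have ho : orderOf (wp w) = p := orderOf_eq_prime (by rw [← wp_replicate, sameW_wp h'.2, wp_nil])
    (moves_ne h'.1)
  have hr : ∀ g ∈ w, g < 20 := by
    have := h'.1
    simp only [moves, inRange, Bool.and_eq_true, List.all_eq_true, Nat.blt_eq] at this
    exact this.1
  rw [← ho]
  exact Subgroup.orderOf_dvd_natCard _ (wp_mem_G hr)

theorem eleven_ok : (sameW (List.replicate 11 17) [] && sameW (List.replicate 11 18) [] &&
    sameW (List.replicate 11 19) [] && sameW [17, 18] [18, 17] && sameW [19, 18] [18, 19] &&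
    sameW [19, 17] [18, 18, 17, 19] && moves [17] && moves [18] && moves [19] &&
    (List.range 11).all fun i => !(Nat.beq (applyWord rows [18] seedVec)
      (applyWord rows (List.replicate i 17) seedVec))) = true := by decide +kernel

/-- A subgroup extended by an element of prime order normalising it. -/
theorem card_extend {Γ : Type*} [Group Γ] [Finite Γ] {H : Subgroup Γ} {x : Γ} {p : ℕ}
    (hp : p.Prime) (hx : orderOf x = p) (hxH : x ∉ H)
    (hn : ∀ h ∈ H, x * h * x⁻¹ ∈ H) :
    Nat.card (H ⊔ Subgroup.zpowers x : Subgroup Γ) = Nat.card H * p := by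
  have hnorm : x ∈ Subgroup.normalizer (H : Set Γ) := by
    rw [Subgroup.mem_normalizer_iff]
    intro h
    refine ⟨hn h, fun hh => ?_⟩
    have hinj : Function.Injective (fun y : H => (⟨x * y.1 * x⁻¹, hn y.1 y.2⟩ : H)) := by
      intro a b e
      have := congrArg Subtype.val e
      simp only [mul_right_cancel_iff, mul_left_cancel_iff] at this
      exact Subtype.ext this
    obtain ⟨y, hy⟩ := (Finite.injective_iff_surjective.1 hinj) ⟨_, hh⟩
    have := congrArg Subtype.val hy
    simp only [mul_right_cancel_iff, mul_left_cancel_iff] at this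
    exact this ▸ y.2
  have hle : Subgroup.zpowers x ≤ Subgroup.normalizer (H : Set Γ) := by
    rw [Subgroup.zpowers_le]; exact hnorm
  have hbot : ∀ y ∈ Subgroup.zpowers x, y ∈ H → y = 1 := by
    intro y hy hyH
    haveI : Fact (Nat.card (Subgroup.zpowers x)).Prime := ⟨by rw [Nat.card_zpowers, hx]; exact hp⟩
    rcases (H.subgroupOf (Subgroup.zpowers x)).eq_bot_or_eq_top_of_prime_card with h | h
    · have : (⟨y, hy⟩ : Subgroup.zpowers x) ∈ H.subgroupOf (Subgroup.zpowers x) := hyH
      rw [h, Subgroup.mem_bot] at this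
      exact congrArg Subtype.val this
    · exact absurd (Subgroup.subgroupOf_eq_top.1 h (Subgroup.mem_zpowers x)) hxH
  have hcoe := Subgroup.coe_mul_of_right_le_normalizer_left H (Subgroup.zpowers x) hle
  let f : H × Subgroup.zpowers x → (H ⊔ Subgroup.zpowers x : Subgroup Γ) := fun q =>
    ⟨q.1.1 * q.2.1, mul_mem (Subgroup.mem_sup_left q.1.2) (Subgroup.mem_sup_right q.2.2)⟩
  have hf : Function.Bijective f := by
    refine ⟨fun a b e => ?_, fun y => ?_⟩
    · have e' : a.1.1 * a.2.1 = b.1.1 * b.2.1 := congrArg Subtype.val e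
      have h2 : a.2.1 * b.2.1⁻¹ = a.1.1⁻¹ * b.1.1 := by
        rw [eq_inv_mul_iff_mul_eq, ← mul_assoc, e', mul_inv_cancel_right]
      have h1 := hbot _ (mul_mem a.2.2 (inv_mem b.2.2)) (h2 ▸ mul_mem (inv_mem a.1.2) b.1.2)
      have hb : a.2 = b.2 := Subtype.ext (mul_inv_eq_one.1 h1)
      rw [hb] at e'
      exact Prod.ext (Subtype.ext (mul_right_cancel e')) hb
    · have hy : y.1 ∈ ((H : Set Γ) * (Subgroup.zpowers x : Set Γ)) := hcoe ▸ y.2
      obtain ⟨a, ha, b, hb, e⟩ := hy
      exact ⟨(⟨a, ha⟩, ⟨b, hb⟩), Subtype.ext e⟩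
  rw [← Nat.card_congr (Equiv.ofBijective f hf), Nat.card_prod, Nat.card_zpowers, hx]

theorem eleven_cube_dvd : 1331 ∣ Nat.card Gsub := by
  have h := eleven_ok
  simp only [Bool.and_eq_true, List.all_eq_true, List.mem_range, Bool.not_eq_true'] at h
  obtain ⟨⟨⟨⟨⟨⟨⟨⟨⟨hz, hc⟩, hg⟩, hzc⟩, hgc⟩, hgz⟩, mz⟩, mc⟩, mg⟩, hne⟩ := h
  haveI : Fact (Nat.Prime 11) := ⟨by norm_num⟩
  have hord : ∀ k, sameW (List.replicate 11 k) [] = true → moves [k] = true →
      orderOf (jp k) = 11 := by
    intro k h1 h2
    refine orderOf_eq_prime ?_ (by rw [← wp_single]; exact moves_ne h2)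
    rw [← wp_nil, ← sameW_wp h1]
    rw [wp, List.map_replicate, List.prod_replicate]
  have ez := hord 17 hz mz
  have ec := hord 18 hc mc
  have eg := hord 19 hg mg
  have c1 : jp 17 * jp 18 = jp 18 * jp 17 := by simpa [wp_cons, wp_nil] using sameW_wp hzc
  have c2 : jp 19 * jp 18 = jp 18 * jp 19 := by simpa [wp_cons, wp_nil] using sameW_wp hgc
  have c3 : jp 19 * jp 17 = jp 18 * (jp 18 * (jp 17 * jp 19)) := by
    simpa [wp_cons, wp_nil] using sameW_wp hgz
  let Z : Subgroup (Equiv.Perm Vec) := Subgroup.zpowers (jp 17)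
  have hcZ : jp 18 ∉ Z := by
    intro hm
    obtain ⟨i, hi⟩ := ((isOfFinOrder_of_finite (jp 17)).mem_powers_iff_mem_zpowers.2 hm)
    have hs : seedVec < 2 ^ 112 := by
      have := seed_ok
      rw [Bool.and_eq_true, decide_eq_true_eq] at this
      exact this.1
    have hmod : wp (List.replicate (i % 11) 17) = wp [18] := by
      rw [wp_single, ← hi]
      rw [wp, List.map_replicate, List.prod_replicate, ← ez, pow_mod_orderOf]
    have e := congrArg (fun p : Equiv.Perm Vec => (p ⟨seedVec, hs⟩).1) hmod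
    simp only [wp_apply [18] (by simp), wp_apply (List.replicate (i % 11) 17)
      (fun g hg => by rw [List.eq_of_mem_replicate hg]; norm_num)] at e
    have h' := hne (i % 11) (Nat.mod_lt _ (by norm_num))
    rw [e, Nat.beq_refl] at h'
    exact Bool.noConfusion h'
  let A2 : Subgroup (Equiv.Perm Vec) := Z ⊔ Subgroup.zpowers (jp 18)
  have hA2c : Nat.card A2 = 11 * 11 := by
    have := card_extend (H := Z) (x := jp 18) (p := 11) (by norm_num) ec hcZ (fun h hh => by
      obtain ⟨i, rfl⟩ := hh
      have hcm : Commute (jp 18) (jp 17 ^ i) := Commute.zpow_right c1.symm i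
      rw [hcm.eq, mul_inv_cancel_right]
      exact ⟨i, rfl⟩)
    rwa [Nat.card_zpowers, ez] at this
  have h17 : jp 17 ∈ A2 := Subgroup.mem_sup_left (Subgroup.mem_zpowers _)
  have h18 : jp 18 ∈ A2 := Subgroup.mem_sup_right (Subgroup.mem_zpowers _)
  have hgA : jp 19 ∉ A2 := by
    intro hm
    have hle : A2 ≤ Subgroup.centralizer {jp 17} := by
      refine sup_le ?_ ?_ <;> rw [Subgroup.zpowers_le, Subgroup.mem_centralizer_singleton_iff]
      exact c1.symm
    have hab := Subgroup.mem_centralizer_singleton_iff.1 (hle hm)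
    rw [← hab, ← mul_assoc] at c3
    have h1 : jp 18 * jp 18 = 1 := mul_eq_right.1 c3.symm
    have h2 : orderOf (jp 18) ∣ 2 := orderOf_dvd_of_pow_eq_one (by rw [pow_two, h1])
    rw [ec] at h2
    norm_num at h2
  have hn : ∀ h ∈ A2, jp 19 * h * (jp 19)⁻¹ ∈ A2 := by
    intro h hh
    have hle : A2 ≤ A2.comap (MulAut.conj (jp 19)).toMonoidHom := by
      refine sup_le ?_ ?_ <;> rw [Subgroup.zpowers_le] <;>
        simp only [Subgroup.mem_comap, MulEquiv.coe_toMonoidHom, MulAut.conj_apply]
      · rw [c3, ← mul_assoc, ← mul_assoc, mul_inv_cancel_right]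
        exact mul_mem (mul_mem h18 h18) h17
      · rw [c2, mul_inv_cancel_right]
        exact h18
    exact hle hh
  have hcard := card_extend (H := A2) (x := jp 19) (p := 11) (by norm_num) eg hgA hn
  rw [hA2c] at hcard
  have hle : A2 ⊔ Subgroup.zpowers (jp 19) ≤ Gsub :=
    sup_le (sup_le (by rw [Subgroup.zpowers_le]; exact jp_mem_G (by norm_num))
      (by rw [Subgroup.zpowers_le]; exact jp_mem_G (by norm_num)))
      (by rw [Subgroup.zpowers_le]; exact jp_mem_G (by norm_num))
  have := Subgroup.card_dvd_of_le hle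
  rw [hcard] at this
  exact this

theorem card_lower : 86775571046077562880 ∣ Nat.card Gsub := by
  have hM : 501397585920 ∣ Nat.card Gsub := card_Msub ▸ Subgroup.card_dvd_of_le M_le_G
  have h29 : 29 ∣ Nat.card Gsub := by
    obtain ⟨w, hw⟩ : ∃ w, (29, w) ∈ primeWords := ⟨_, List.mem_cons_self ..⟩
    exact prime_dvd (by norm_num) hw
  have h31 : 31 ∣ Nat.card Gsub := by
    obtain ⟨w, hw⟩ : ∃ w, (31, w) ∈ primeWords := ⟨_, List.mem_cons_of_mem _ (List.mem_cons_self ..)⟩
    exact prime_dvd (by norm_num) hw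
  have h37 : 37 ∣ Nat.card Gsub := by
    obtain ⟨w, hw⟩ : ∃ w, (37, w) ∈ primeWords :=
      ⟨_, List.mem_cons_of_mem _ (List.mem_cons_of_mem _ (List.mem_cons_self ..))⟩
    exact prime_dvd (by norm_num) hw
  have h43 : 43 ∣ Nat.card Gsub := by
    obtain ⟨w, hw⟩ : ∃ w, (43, w) ∈ primeWords := ⟨_, List.mem_cons_of_mem _
      (List.mem_cons_of_mem _ (List.mem_cons_of_mem _ (List.mem_cons_self ..)))⟩
    exact prime_dvd (by norm_num) hw
  have h1 : 501397585920 / 11 ∣ Nat.card Gsub := (Dvd.intro 11 (by norm_num)).trans hM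
  have h2 := Nat.Coprime.mul_dvd_of_dvd_of_dvd (by norm_num) h1 eleven_cube_dvd
  have h3 := Nat.Coprime.mul_dvd_of_dvd_of_dvd (by norm_num) h2 h29
  have h4 := Nat.Coprime.mul_dvd_of_dvd_of_dvd (by norm_num) h3 h31
  have h5 := Nat.Coprime.mul_dvd_of_dvd_of_dvd (by norm_num) h4 h37
  have h6 := Nat.Coprime.mul_dvd_of_dvd_of_dvd (by norm_num) h5 h43
  norm_num at h6 ⊢
  exact h6

theorem cosetNum_sum : ∑ j ∈ Finset.range 7, cosetNum.getD j 0 = 173067389 := by decide +kernel

/-- The orbit of the base point. -/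
noncomputable def baseOrbit : Set Coset := MulAction.orbit Gsub base

theorem orbit_sub : baseOrbit ⊆ unionSet := by
  rintro _ ⟨g, rfl⟩
  exact G_smul_union g.2 base_mem

theorem mem_stab_base {g : Equiv.Perm Vec} : g • base = base ↔ g ∈ Msub := by
  show (QuotientGroup.mk (g * 1) : Coset) = QuotientGroup.mk 1 ↔ _
  rw [mul_one, eq_comm, QuotientGroup.eq, inv_one, one_mul]

theorem card_union : unionSet.ncard ≤ 173067389 := by
  have h := card_union_sel fun _ => True
  simpa only [unionSet, true_and, Finset.filter_true, cosetNum_sum] using h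

theorem card_Gsub_eq : Nat.card Gsub = baseOrbit.ncard * 501397585920 := by
  have h := Nat.card_congr (MulAction.orbitProdStabilizerEquivGroup Gsub base)
  rw [Nat.card_prod, Nat.card_coe_set_eq] at h
  rw [← h, baseOrbit]
  congr 1
  rw [← card_Msub]
  refine Nat.card_congr
    { toFun := fun g => ⟨g.1.1, mem_stab_base.1 g.2⟩
      invFun := fun m => ⟨⟨m.1, M_le_G m.2⟩, mem_stab_base.2 m.2⟩
      left_inv := fun g => rfl
      right_inv := fun m => rfl }

theorem orbit_card : baseOrbit.ncard = 173067389 := by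
  refine le_antisymm ((Set.ncard_le_ncard orbit_sub (Set.toFinite _)).trans card_union) ?_
  have h := Nat.le_of_dvd Nat.card_pos card_lower
  rw [card_Gsub_eq] at h
  omega

theorem card_Gsub : Nat.card Gsub = 86775571046077562880 := by
  rw [card_Gsub_eq, orbit_card]

theorem orbit_eq : baseOrbit = unionSet :=
  Set.eq_of_subset_of_ncard_le orbit_sub (orbit_card ▸ card_union) (Set.toFinite _)

end Cfsg.Lib.J4Real
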