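import Cfsg.Agent.Lib.J4Real.Order
import Cfsg.Agent.Lib.J4Real.DataMasks

/-!
# The group generated by the three letters is simple
-/

set_option autoImplicit false
set_option maxRecDepth 20000

namespace Cfsg.Lib.J4Real

open Cfsg.Lib.CosetEnum
open Cfsg.Lib.J4Pres
open scoped Pointwise

/-- Run a certificate for one orbit on the masks. -/
noncomputable def maskGo (root : ℕ) (L : List ℕ) : ℕ → ℕ :=
  List.rec (motive := fun _ => ℕ → ℕ) (fun d => d)
    (fun e _ ih d => force d fun d => force (e % 4096) fun b => force (e / 4096 % 4096) fun a =>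
      force (e / 16777216) fun g =>
        cond (cond (Nat.beq g 9) (Nat.beq b root)
            (Nat.blt g 2 && d.testBit a && Nat.beq (cMask g a) b))
          (force (d ||| 2 ^ b) fun d' => ih d') 0) L

theorem maskGo_cons (root e : ℕ) (L : List ℕ) (d : ℕ) :
    maskGo root (e :: L) d = cond (cond (Nat.beq (e / 16777216) 9) (Nat.beq (e % 4096) root)
      (Nat.blt (e / 16777216) 2 && d.testBit (e / 4096 % 4096) &&
        Nat.beq (cMask (e / 16777216) (e / 4096 % 4096)) (e % 4096)))
      (maskGo root L (d ||| 2 ^ (e % 4096))) 0 := by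
  simp only [maskGo, force_eq]

/-- The two orbits on the masks, as bit sets. -/
noncomputable def maskBits (i : ℕ) : ℕ :=
  maskGo (maskRoots.getD i 0)
    (if i = 0 then maskSteps.flatten.take 1771 else maskSteps.flatten.drop 1771) 0

theorem masks_ok : (force (maskBits 0) fun d0 => force (maskBits 1) fun d1 =>
    Nat.beq (d0 ||| d1) (2 ^ 2048 - 2) && d1.testBit maskPair.1 && d1.testBit maskPair.2 &&
      d0.testBit (maskPair.1 ^^^ maskPair.2) &&
      (List.range 11).all fun i => d0.testBit (2 ^ i)) = true := by decide +kernel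

/-- The word conjugating the third letter in a relator. -/
def cWord : List ℕ := [1, 0, 4, 0, 1, 0, 4, 0]

theorem misc_ok : ((List.range 11).any fun i => !(Nat.beq (cMask 0 (2 ^ i)) (2 ^ i))) = true ∧
    ((List.range 24).any fun i =>
      !(Nat.beq (walkW ((hConj.getD 1 []).getD 6 (0, [])).2 i) i)) = true ∧
    (((gensOf 1).getD 6 (0, [])).2.isEmpty && Nat.blt 6 (gensOf 1).length) = true ∧
    sameW (List.replicate 3 ([1] ++ winv cWord ++ [2] ++ cWord)).flatten [] = true ∧
    sameW [2, 2] [] = true :=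
  ⟨by decide +kernel, by decide +kernel, by decide +kernel, by decide +kernel, by decide +kernel⟩

theorem mem_base_orbit {q : Coset} : q ∈ unionSet → ∃ g ∈ Gsub, g • base = q := by
  rw [← orbit_eq]
  rintro ⟨g, rfl⟩
  exact ⟨g.1, g.2, rfl⟩

/-- An orbit on the masks is inside a union of classes. -/
theorem maskGo_spec {S : Set (Equiv.Perm Vec)} {root : ℕ}
    (hS : ∀ g < 2, ∀ x, x ∈ S → jp g * x * (jp g)⁻¹ ∈ S) (hroot : eW root ∈ S) :
    ∀ (L : List ℕ) (d : ℕ), (∀ i, d.testBit i = true → eW i ∈ S) →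
      ∀ i, (maskGo root L d).testBit i = true → eW i ∈ S
  | [], d, hd, i, hi => hd i hi
  | e :: L, d, hd, i, hi => by
    rw [maskGo_cons] at hi
    cases hc : cond (Nat.beq (e / 16777216) 9) (Nat.beq (e % 4096) root)
        (Nat.blt (e / 16777216) 2 && d.testBit (e / 4096 % 4096) &&
          Nat.beq (cMask (e / 16777216) (e / 4096 % 4096)) (e % 4096)) with
    | false => rw [hc, cond_false] at hi; simp at hi
    | true =>
      rw [hc, cond_true] at hi
      refine maskGo_spec hS hroot L _ (fun k hk => ?_) i hi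
      rw [Nat.testBit_or, Bool.or_eq_true] at hk
      rcases hk with hk | hk
      · exact hd k hk
      · have hk' : e % 4096 = k := by simpa [Nat.testBit_two_pow] using hk
        subst hk'
        cases he : Nat.beq (e / 16777216) 9 with
        | true =>
          rw [he, cond_true, Nat.beq_eq] at hc
          rw [hc]
          exact hroot
        | false =>
          simp only [he, cond_false, Bool.and_eq_true, Nat.blt_eq, Nat.beq_eq] at hc
          have := hS _ hc.1.1 _ (hd _ hc.1.2)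
          rwa [conj_eW hc.1.1, mul_inv_cancel_right, hc.2] at this

/-- The membership of one mask's element in a normal set decides that of the whole orbit. -/
theorem maskBits_iff {N : Subgroup (Equiv.Perm Vec)}
    (hN : ∀ g < 2, ∀ x, x ∈ N ↔ jp g * x * (jp g)⁻¹ ∈ N) (i : ℕ) {a : ℕ}
    (ha : (maskBits i).testBit a = true) : eW a ∈ N ↔ eW (maskRoots.getD i 0) ∈ N := by
  let S : Set (Equiv.Perm Vec) := {x | x ∈ N ↔ eW (maskRoots.getD i 0) ∈ N}
  exact maskGo_spec (S := S) (fun g hg x hx => (hN g hg x).symm.trans hx) Iff.rfl _ 0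
    (fun _ h => by simp at h) a ha

variable {N : Subgroup (Equiv.Perm Vec)}

theorem E_le_normal (hN : ∀ g ∈ Gsub, ∀ x, x ∈ N ↔ g * x * g⁻¹ ∈ N) {x : Equiv.Perm Vec}
    (hxN : x ∈ N) (hxM : x ∈ Msub) (hx : x ≠ 1) : Esub ≤ N := by
  have hG2 : ∀ g < 2, jp g ∈ Gsub := fun g hg => jp_mem_G (by omega)
  have hN2 : ∀ g < 2, ∀ x, x ∈ N ↔ jp g * x * (jp g)⁻¹ ∈ N := fun g hg => hN _ (hG2 g hg)
  have hsome : ∃ a, 0 < a ∧ a < 2048 ∧ eW a ∈ N := by
    by_contra hno
    push Not at hno
    have hEN : ∀ m, eW m ∈ N → eW m = 1 := by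
      intro m hm
      rw [← eW_mod] at hm ⊢
      rcases Nat.eq_zero_or_pos (m % 2048) with h | h
      · rw [h, eW_zero]
      · exact absurd hm (hno _ h (Nat.mod_lt _ (by norm_num)))
    have hcent : ∀ m, x * eW m = eW m * x := by
      intro m
      obtain ⟨b, s, hs, hxe⟩ := hxM
      obtain ⟨c, -, hc⟩ := mem_Esub (conj_mem_E hs (eW_mem m))
      have h1 : x * eW m * x⁻¹ * eW m ∈ N := by
        rw [mul_assoc, mul_assoc]
        refine mul_mem hxN ?_
        have := (hN (eW m) (M_le_G (eW_mem_M m)) x⁻¹).1 (inv_mem hxN)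
        rwa [eW_inv, mul_assoc] at this
      have h2 : x * eW m * x⁻¹ * eW m = eW (b ^^^ c ^^^ b ^^^ m) := by
        rw [hxe, mul_inv_rev, eW_inv, ← eW_mul, ← eW_mul, ← eW_mul, hc]
        group
      rw [h2] at h1
      have h3 := hEN _ h1
      rw [← h2, mul_eq_one_iff_eq_inv, eW_inv] at h3
      calc x * eW m = x * eW m * x⁻¹ * x := by group
        _ = eW m * x := by rw [h3]
    obtain ⟨b, s, hs, rfl⟩ := hxM
    have hsc : ∀ m, s * eW m = eW m * s := by
      intro m
      have h := hcent m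
      rw [mul_assoc, ← mul_assoc (eW m), eW_mul, Nat.xor_comm, ← eW_mul, mul_assoc] at h
      exact mul_left_cancel h
    obtain ⟨a, rfl⟩ := mem_Ksub hs
    let C : Subgroup TwoGroup := (Subgroup.centralizer (Set.range eW)).comap kEmb
    haveI : C.Normal := ⟨fun c hc d => by
      simp only [C, Subgroup.mem_comap, Subgroup.mem_centralizer_iff, map_mul, map_inv] at hc ⊢
      rintro _ ⟨m, rfl⟩
      obtain ⟨m', -, hm'⟩ := mem_Esub (conj_mem_E (inv_mem (kEmb_mem d)) (eW_mem m))
      have := hc _ ⟨m', rfl⟩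
      rw [hm', inv_inv] at this
      calc eW m * (kEmb d * kEmb c * (kEmb d)⁻¹)
          = kEmb d * ((kEmb d)⁻¹ * eW m * kEmb d * kEmb c) * (kEmb d)⁻¹ := by group
        _ = kEmb d * (kEmb c * ((kEmb d)⁻¹ * eW m * kEmb d)) * (kEmb d)⁻¹ := by rw [this]
        _ = _ := by group⟩
    obtain ⟨φ⟩ := twoGroup_iso
    haveI : IsSimpleGroup M24 := Cfsg.Lib.Concrete.isSimple_M24
    haveI : Nontrivial TwoGroup := φ.toEquiv.nontrivial
    haveI : IsSimpleGroup TwoGroup := IsSimpleGroup.isSimpleGroup_of_surjective φ.symm.toMonoidHom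
      φ.symm.surjective
    have haC : a ∈ C := by
      simp only [C, Subgroup.mem_comap, Subgroup.mem_centralizer_iff]
      rintro _ ⟨m, rfl⟩
      exact (hsc m).symm
    rcases Subgroup.Normal.eq_bot_or_eq_top ‹C.Normal› with h | h
    · rw [h, Subgroup.mem_bot] at haC
      subst haC
      rw [map_one, mul_one] at hxN hx
      exact hx (hEN b hxN)
    · have h0 : twoGen 0 ∈ C := h ▸ Subgroup.mem_top _
      simp only [C, Subgroup.mem_comap, Subgroup.mem_centralizer_iff,
        (kPts_spec.2 0 (by norm_num)).1] at h0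
      have hany := misc_ok.1
      simp only [List.any_eq_true, List.mem_range, Bool.not_eq_true'] at hany
      obtain ⟨i, hi, hne⟩ := hany
      have h' := h0 (eW (2 ^ i)) ⟨_, rfl⟩
      rw [show jp (kLetter 0) = jp 0 from rfl, conj_eW (by norm_num)] at h'
      have hlt : ∀ n ≤ 11, ∀ m, linMask (conjMasks.getD 0 []) n m < 2048 := by
        have hC : ∀ n < 11, (conjMasks.getD 0 []).getD n 0 < 2048 := by decide +kernel
        intro n
        induction n with
        | zero => intro _ m; simp [linMask]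
        | succ n ih =>
          intro hn m
          rw [linMask]
          refine Nat.xor_lt_two_pow (n := 11) (ih (by omega) m) ?_
          cases m.testBit n
          · norm_num
          · exact hC n (by omega)
      have heq := eW_inj (Nat.pow_lt_pow_right (by norm_num) hi) (hlt 11 le_rfl _)
        (mul_right_cancel h')
      rw [show cMask 0 (2 ^ i) = 2 ^ i from heq.symm, Nat.beq_refl] at hne
      exact Bool.noConfusion hne
  obtain ⟨a, ha0, ha, haN⟩ := hsome
  have hm := masks_ok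
  simp only [force_eq, Bool.and_eq_true, Nat.beq_eq, List.all_eq_true, List.mem_range] at hm
  obtain ⟨⟨⟨⟨hfull, hp1⟩, hp2⟩, hpx⟩, hbasis⟩ := hm
  have hor : (maskBits 0).testBit a = true ∨ (maskBits 1).testBit a = true := by
    have h : (maskBits 0 ||| maskBits 1).testBit a = true := by
      rw [hfull, show (2 : ℕ) ^ 2048 - 2 = 2 * (2 ^ 2047 - 1) by
        rw [Nat.mul_sub_one, ← pow_succ']]
      obtain ⟨k, rfl⟩ : ∃ k, a = k + 1 := ⟨a - 1, by omega⟩
      rw [Nat.testBit_succ, Nat.mul_div_cancel_left _ (by norm_num), Nat.testBit_two_pow_sub_one]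
      exact decide_eq_true (by omega)
    rwa [Nat.testBit_or, Bool.or_eq_true] at h
  have h0 : eW (maskRoots.getD 0 0) ∈ N := by
    rcases hor with h | h
    · exact (maskBits_iff hN2 0 h).1 haN
    · have h1 := (maskBits_iff hN2 1 h).1 haN
      have := mul_mem ((maskBits_iff hN2 1 hp1).2 h1) ((maskBits_iff hN2 1 hp2).2 h1)
      rw [eW_mul] at this
      exact (maskBits_iff hN2 0 hpx).1 this
  rintro _ ⟨m, rfl⟩
  have hE : ∀ n ≤ 11, wp (eLn n m) ∈ N := by
    intro n
    induction n with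
    | zero => intro _; exact one_mem _
    | succ n ih =>
      intro hn
      rw [wp_eLn_succ]
      refine mul_mem (ih (by omega)) ?_
      cases m.testBit n
      · exact one_mem _
      · rw [cond_true, ← eW_two_pow (show n < 11 by omega)]
        exact (maskBits_iff hN2 0 (hbasis n (by omega))).2 h0
  exact hE 11 le_rfl

theorem G_le_normal (hNG : N ≤ Gsub) (hN : ∀ g ∈ Gsub, ∀ x, x ∈ N ↔ g * x * g⁻¹ ∈ N)
    (hE : Esub ≤ N) : Gsub ≤ N := by
  obtain ⟨-, hwalk, h6, hrel, htt⟩ := misc_ok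
  rw [Bool.and_eq_true, Nat.blt_eq, List.isEmpty_iff] at h6
  obtain ⟨hk1, hk2, hq⟩ := (hCheck_parts (j := 1) (by norm_num)).1 6 h6.2
  rw [wp_append, wp_append, wp_pL, wp_pL, show wp (gWords.getD 1 []) = jp 2 from gRep_one] at hq
  generalize hp : (hConj.getD 1 []).getD 6 (0, []) = q at hk2 hq hwalk
  have hqN : pW q ∈ N := by
    have h1 : pW ((gensOf 1).getD 6 (0, [])) ∈ N := hE (by
      rw [pW, h6.1, wp_nil, mul_one]; exact eW_mem _)
    have h2 := (hN (jp 2)⁻¹ (inv_mem (jp_mem_G (by norm_num))) _).1 h1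
    rwa [inv_inv, mul_assoc, hq, inv_mul_cancel_left] at h2
  have hwN : wp q.2 ∈ N := by
    have := mul_mem (inv_mem (hE (eW_mem q.1))) hqN
    rwa [pW, inv_mul_cancel_left] at this
  let D : Subgroup TwoGroup := N.comap kEmb
  haveI : D.Normal := ⟨fun c hc d => by
    simp only [D, Subgroup.mem_comap, map_mul, map_inv] at hc ⊢
    exact (hN _ (M_le_G (K_le_M (kEmb_mem d))) _).1 hc⟩
  obtain ⟨φ⟩ := twoGroup_iso
  haveI : IsSimpleGroup M24 := Cfsg.Lib.Concrete.isSimple_M24
  haveI : Nontrivial TwoGroup := φ.toEquiv.nontrivial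
  haveI : IsSimpleGroup TwoGroup := IsSimpleGroup.isSimpleGroup_of_surjective φ.symm.toMonoidHom
    φ.symm.surjective
  obtain ⟨he, hpts⟩ := kEmb_word hk2
  have hK : Ksub ≤ N := by
    rcases Subgroup.Normal.eq_bot_or_eq_top ‹D.Normal› with h | h
    · exfalso
      have hmem : (q.2.map fun g => twoGen (pLetter g)).prod ∈ D := by
        show kEmb _ ∈ N
        rw [he]; exact hwN
      rw [h, Subgroup.mem_bot] at hmem
      rw [hmem, map_one] at hpts
      simp only [List.any_eq_true, List.mem_range, Bool.not_eq_true'] at hwalk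
      obtain ⟨i, hi, hne⟩ := hwalk
      have hw := walkW_spec hk2 (Cfsg.Lib.Concrete.gpt ⟨i, hi⟩)
      rw [← hpts, Equiv.Perm.one_apply, Cfsg.Lib.Concrete.gidx_gpt] at hw
      simp only at hw
      rw [← hw, Nat.beq_refl] at hne
      exact Bool.noConfusion hne
    · intro s hs
      obtain ⟨a, rfl⟩ := mem_Ksub hs
      have : a ∈ D := h ▸ Subgroup.mem_top a
      exact this
  have h0 : jp 0 ∈ N := hK (Subgroup.subset_closure (by simp))
  have h1 : jp 1 ∈ N := hK (Subgroup.subset_closure (by simp))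
  have h2 : jp 2 ∈ N := by
    have hr := sameW_wp hrel
    have hcN : wp cWord ∈ N := hK (kOK_mem (by decide))
    have hlow : low cWord = true := by decide
    have hr' : (jp 1 * (wp cWord)⁻¹ * jp 2 * wp cWord) ^ 3 = 1 := by
      rw [wp_nil, wp_replicate] at hr
      simpa [wp_append, wp_single, wp_cons, wp_winv hlow, mul_assoc] using hr
    have ht2 : jp 2 * jp 2 = 1 := by simpa [wp_cons, wp_nil] using sameW_wp htt
    let N' : Subgroup Gsub := N.subgroupOf Gsub
    haveI : N'.Normal := ⟨fun n hn g => (hN g.1 g.2 n.1).1 hn⟩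
    let π := QuotientGroup.mk' N'
    let y : Gsub := ⟨jp 1, jp_mem_G (by norm_num)⟩
    let t : Gsub := ⟨jp 2, jp_mem_G (by norm_num)⟩
    let c : Gsub := ⟨wp cWord, hNG hcN⟩
    have hy : π y = 1 := (QuotientGroup.eq_one_iff y).2 h1
    have hc : π c = 1 := (QuotientGroup.eq_one_iff c).2 hcN
    have e3 : (y * c⁻¹ * t * c) ^ 3 = 1 := Subtype.ext hr'
    have e2 : t * t = 1 := Subtype.ext ht2
    have e3' := congrArg π e3
    rw [map_pow, map_mul, map_mul, map_mul, map_inv, hy, hc, map_one] at e3'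
    simp only [inv_one, one_mul, mul_one] at e3'
    have e2' : π t * π t = 1 := by rw [← map_mul, e2, map_one]
    have : π t = 1 := by
      rwa [pow_succ, pow_two, e2', one_mul] at e3'
    exact (QuotientGroup.eq_one_iff t).1 this
  rw [Gsub, Subgroup.closure_le]
  rintro _ (rfl | rfl | rfl)
  exacts [h0, h1, h2]

theorem sums_ok : ((List.range 64).all fun b =>
    let s := (List.range 7).foldl (fun r j =>
      r + cond (Nat.blt 0 j && b.testBit (j - 1)) (cosetNum.getD j 0) 0) 0
    (!(Nat.beq (173067389 % (s + 1)) 0) || Nat.beq s 0 || Nat.beq s 173067388) &&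
      (!(Nat.beq (s % 28) 0) || !(Nat.beq ((s + 1) % 29) 0) || Nat.beq s 0)) = true := by
  decide +kernel

/-- A set invariant under `2^11:M24` avoiding the base point has a size among the sums. -/
theorem inv_card {B : Set Coset} (hB : B ⊆ unionSet) (h0 : base ∉ B)
    (hinv : ∀ m ∈ Msub, ∀ q ∈ B, m • q ∈ B) :
    ∃ b < 64, B.ncard = (List.range 7).foldl (fun r j =>
      r + cond (Nat.blt 0 j && b.testBit (j - 1)) (cosetNum.getD j 0) 0) 0 := by
  classical
  let sel : ℕ → Prop := fun j => (QuotientGroup.mk (gRep j) : Coset) ∈ B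
  have hin : ∀ j, sel j → orbitSet j ⊆ B := by
    rintro j hj _ ⟨m, rfl⟩
    have := hinv m.1 m.2 _ hj
    rwa [MulAction.Quotient.smul_mk, smul_eq_mul] at this
  have hout : ∀ j, ∀ q ∈ orbitSet j, q ∈ B → sel j := by
    rintro j _ ⟨m, rfl⟩ hq
    have := hinv m.1⁻¹ (inv_mem m.2) _ hq
    rwa [MulAction.Quotient.smul_mk, smul_eq_mul, inv_mul_cancel_left] at this
  have e1 : B = {q : Coset | ∃ j < 7, sel j ∧ q ∈ orbitSet j} := by
    ext q
    refine ⟨fun hq => ?_, fun ⟨j, _, hs, hqj⟩ => hin j hs hqj⟩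
    obtain ⟨j, hj, hqj⟩ := hB hq
    exact ⟨j, hj, hout j q hqj hq, hqj⟩
  have e2 : unionSet \ B ⊆ {q : Coset | ∃ j < 7, ¬ sel j ∧ q ∈ orbitSet j} := by
    rintro q ⟨⟨j, hj, hqj⟩, hn⟩
    exact ⟨j, hj, fun hs => hn (hin j hs hqj), hqj⟩
  have l1 := card_union_sel sel
  rw [← e1] at l1
  have l2 := (Set.ncard_le_ncard e2 (Set.toFinite _)).trans (card_union_sel fun j => ¬ sel j)
  have l3 : (unionSet \ B).ncard + B.ncard = 173067389 := by
    rw [Set.ncard_sdiff_add_ncard_of_subset hB (Set.toFinite _), ← orbit_eq, orbit_card]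
  have l4 := Finset.sum_filter_add_sum_filter_not (Finset.range 7) sel
    (fun j => cosetNum.getD j 0)
  rw [cosetNum_sum] at l4
  have hs0 : ¬ sel 0 := by
    show ¬ (QuotientGroup.mk (gRep 0) : Coset) ∈ B
    rw [gRep_zero]; exact h0
  let bit : ℕ → ℕ := fun j => if sel j then 2 ^ (j - 1) else 0
  refine ⟨bit 1 + bit 2 + bit 3 + bit 4 + bit 5 + bit 6, ?_, ?_⟩
  · simp only [bit]
    split_ifs <;> norm_num
  · have hval : B.ncard = ∑ j ∈ (Finset.range 7).filter sel, cosetNum.getD j 0 := by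
      rw [Finset.sum_filter] at l1 l2 l4 ⊢
      rw [Finset.sum_filter] at l4
      simp only [ite_not, sel] at l1 l2 l4 ⊢
      omega
    rw [hval, Finset.sum_filter, Finset.sum_range_succ, Finset.sum_range_succ,
      Finset.sum_range_succ, Finset.sum_range_succ, Finset.sum_range_succ, Finset.sum_range_succ,
      Finset.sum_range_succ, Finset.sum_range_zero, if_neg hs0]
    simp only [bit]
    split_ifs <;> rfl

/-- The elements of prime order `p` in a group whose Sylow `p`-subgroups have order `p`. -/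
theorem card_order_eq {A : Type*} [Group A] [Finite A] {p : ℕ} [hp : Fact p.Prime]
    (hP : ∀ P : Sylow p A, Nat.card P = p) :
    ∃ n, n % p = 1 ∧ Nat.card {x : A // orderOf x = p} = n * (p - 1) := by
  classical
  refine ⟨Nat.card (Sylow p A), ?_, ?_⟩
  · have := card_sylow_modEq_one p A
    rw [Nat.ModEq, Nat.mod_eq_of_lt hp.out.one_lt] at this
    exact this
  · have hz : ∀ (P : Sylow p A) (x : A), x ∈ (P : Subgroup A) → x ≠ 1 →
        orderOf x = p ∧ Subgroup.zpowers x = (P : Subgroup A) := by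
      intro P x hx hx1
      have hd : orderOf x ∣ p := by
        have := Subgroup.orderOf_dvd_natCard (P : Subgroup A) hx
        rwa [hP P] at this
      have ho : orderOf x = p := ((Nat.dvd_prime hp.out).1 hd).resolve_left
        (fun h => hx1 (orderOf_eq_one_iff.1 h))
      refine ⟨ho, Subgroup.eq_of_le_of_card_ge (by rwa [Subgroup.zpowers_le]) ?_⟩
      rw [Nat.card_zpowers, ho, hP P]
    let f : (Σ P : Sylow p A, {x : (P : Subgroup A) // x ≠ 1}) → {x : A // orderOf x = p} :=
      fun q => ⟨q.2.1.1, (hz q.1 _ q.2.1.2 fun h => q.2.2 (Subtype.ext h)).1⟩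
    have hf : Function.Bijective f := by
      refine ⟨?_, fun x => ?_⟩
      · rintro ⟨P, ⟨x, hx⟩, hx1⟩ ⟨Q, ⟨y, hy⟩, hy1⟩ e
        obtain rfl : x = y := congrArg Subtype.val e
        have h1 := (hz P x hx fun h => hx1 (Subtype.ext h)).2
        have h2 := (hz Q x hy fun h => hy1 (Subtype.ext h)).2
        obtain rfl : P = Q := Sylow.ext (h1.symm.trans h2)
        rfl
      · have hpg : IsPGroup p (Subgroup.zpowers x.1) :=
          IsPGroup.of_card (n := 1) (by rw [Nat.card_zpowers, x.2, pow_one])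
        obtain ⟨P, hP'⟩ := hpg.exists_le_sylow
        refine ⟨⟨P, ⟨x.1, hP' (Subgroup.mem_zpowers _)⟩, fun h => ?_⟩, rfl⟩
        have h' : x.1 = 1 := congrArg Subtype.val h
        have := x.2
        rw [h', orderOf_one] at this
        exact hp.out.one_lt.ne this
    haveI : Fintype (Sylow p A) := Fintype.ofFinite _
    rw [← Nat.card_congr (Equiv.ofBijective f hf), Nat.card_sigma]
    have hfib : ∀ P : Sylow p A, Nat.card {x : (P : Subgroup A) // x ≠ 1} = p - 1 := by
      intro P
      haveI : Fintype (P : Subgroup A) := Fintype.ofFinite _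
      rw [Nat.card_eq_fintype_card, Fintype.card_subtype_compl, Fintype.card_subtype_eq,
        ← Nat.card_eq_fintype_card, hP P]
    simp [hfib, Nat.card_eq_fintype_card]

theorem isSimple_Gsub : IsSimpleGroup Gsub := by
  haveI : Nontrivial Gsub := Finite.one_lt_card_iff_nontrivial.1 (by rw [card_Gsub]; norm_num)
  refine ⟨fun N₀ hnor => ?_⟩
  let N : Subgroup (Equiv.Perm Vec) := N₀.map Gsub.subtype
  have hNG : N ≤ Gsub := Subgroup.map_subtype_le N₀
  have hN' : ∀ g ∈ Gsub, ∀ x ∈ N, g * x * g⁻¹ ∈ N := by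
    rintro g hg _ ⟨x, hx, rfl⟩
    exact ⟨⟨g, hg⟩ * x * ⟨g, hg⟩⁻¹, hnor.conj_mem x hx ⟨g, hg⟩, rfl⟩
  have hN : ∀ g ∈ Gsub, ∀ x, x ∈ N ↔ g * x * g⁻¹ ∈ N := fun g hg x => by
    refine ⟨hN' g hg x, fun h => ?_⟩
    have := hN' g⁻¹ (inv_mem hg) _ h
    rwa [inv_inv, ← mul_assoc, ← mul_assoc, inv_mul_cancel, one_mul,
      inv_mul_cancel_right] at this
  by_cases hM : ∃ x ∈ N, x ∈ Msub ∧ x ≠ 1
  · obtain ⟨x, hxN, hxM, hx⟩ := hM
    have hle := G_le_normal hNG hN (E_le_normal hN hxN hxM hx)
    refine Or.inr (eq_top_iff.2 fun g _ => ?_)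
    obtain ⟨y, hy, e⟩ := hle g.2
    obtain rfl : y = g := Subtype.ext e
    exact hy
  push Not at hM
  left
  by_contra hne
  have hinj : ∀ a ∈ N, ∀ b ∈ N, a • base = b • base → a = b := by
    intro a ha b hb e
    have h1 : (b⁻¹ * a) • base = base := by rw [mul_smul, e, inv_smul_smul]
    exact (inv_mul_eq_one.1 (hM _ (mul_mem (inv_mem hb) ha) (mem_stab_base.1 h1))).symm
  have hNunion : ∀ a ∈ N, a • base ∈ unionSet := fun a ha => G_smul_union (hNG ha) base_mem
  have key : ∀ A : Set (Equiv.Perm Vec), (∀ a ∈ A, a ∈ N ∧ a ≠ 1) →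
      (∀ m ∈ Msub, ∀ a ∈ A, m * a * m⁻¹ ∈ A) → ∃ b < 64, A.ncard = (List.range 7).foldl (fun r j =>
        r + cond (Nat.blt 0 j && b.testBit (j - 1)) (cosetNum.getD j 0) 0) 0 := by
    intro A hA hinvA
    have hA' : ((fun a : Equiv.Perm Vec => a • base) '' A).ncard = A.ncard :=
      Set.ncard_image_of_injOn fun a ha b hb e => hinj a (hA a ha).1 b (hA b hb).1 e
    rw [← hA']
    refine inv_card ?_ ?_ ?_
    · rintro _ ⟨a, ha, rfl⟩
      exact hNunion a (hA a ha).1
    · rintro ⟨a, ha, e⟩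
      exact (hA a ha).2 (hM a (hA a ha).1 (mem_stab_base.1 e))
    · rintro m hm _ ⟨a, ha, rfl⟩
      refine ⟨m * a * m⁻¹, hinvA m hm a ha, ?_⟩
      show (m * a * m⁻¹) • base = m • a • base
      rw [mul_smul, mul_smul, mem_stab_base.2 (inv_mem hm)]
  have hdvd : Nat.card N ∣ 173067389 := by
    have hcop : ∀ x ∈ N, x ∈ Msub → x = 1 := fun x h1 h2 => hM x h1 h2
    have hle : Msub ≤ Subgroup.normalizer (N : Set (Equiv.Perm Vec)) := fun m hm => by
      rw [Subgroup.mem_normalizer_iff]
      exact fun x => hN m (M_le_G hm) x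
    have hcoe := Subgroup.coe_mul_of_right_le_normalizer_left N Msub hle
    let f : N × Msub → (N ⊔ Msub : Subgroup (Equiv.Perm Vec)) := fun q =>
      ⟨q.1.1 * q.2.1, mul_mem (Subgroup.mem_sup_left q.1.2) (Subgroup.mem_sup_right q.2.2)⟩
    have hf : Function.Bijective f := by
      refine ⟨fun a b e => ?_, fun y => ?_⟩
      · have e' : a.1.1 * a.2.1 = b.1.1 * b.2.1 := congrArg Subtype.val e
        have h2 : b.1.1⁻¹ * a.1.1 = b.2.1 * a.2.1⁻¹ := by
          rw [eq_mul_inv_iff_mul_eq, mul_assoc, e', inv_mul_cancel_left]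
        have h1 := hcop _ (mul_mem (inv_mem b.1.2) a.1.2)
          (h2 ▸ mul_mem b.2.2 (inv_mem a.2.2))
        have hab : a.1 = b.1 := Subtype.ext (inv_mul_eq_one.1 h1).symm
        rw [hab] at e'
        exact Prod.ext hab (Subtype.ext (mul_left_cancel e'))
      · have hy : y.1 ∈ ((N : Set (Equiv.Perm Vec)) * (Msub : Set (Equiv.Perm Vec))) := hcoe ▸ y.2
        obtain ⟨a, ha, b, hb, e⟩ := hy
        exact ⟨(⟨a, ha⟩, ⟨b, hb⟩), Subtype.ext e⟩
    have h := Subgroup.card_dvd_of_le (sup_le hNG M_le_G : N ⊔ Msub ≤ Gsub)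
    rw [← Nat.card_congr (Equiv.ofBijective f hf), Nat.card_prod, card_Msub, card_Gsub,
      show (86775571046077562880 : ℕ) = 173067389 * 501397585920 by norm_num] at h
    exact Nat.dvd_of_mul_dvd_mul_right (by norm_num) h
  obtain ⟨b, hb, hb'⟩ := key {a | a ∈ N ∧ a ≠ 1} (fun a ha => ha) (fun m hm a ha =>
    ⟨(hN m (M_le_G hm) a).1 ha.1, fun h => ha.2 (conj_eq_one_iff.1 h)⟩)
  have hNcard : Nat.card N = {a | a ∈ N ∧ a ≠ 1}.ncard + 1 := by
    have e : {a | a ∈ N ∧ a ≠ 1} = (N : Set (Equiv.Perm Vec)) \ {1} := rfl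
    rw [e, Set.ncard_sdiff_singleton_add_one (one_mem N) (Set.toFinite _), ← Nat.card_coe_set_eq]
    rfl
  have hs := List.all_eq_true.1 sums_ok b (List.mem_range.2 hb)
  simp only [← hb', Bool.and_eq_true, Bool.or_eq_true, Bool.not_eq_true', Nat.beq_eq] at hs
  have hfull : Nat.card N = 173067389 := by
    rcases hs.1 with (h | h) | h
    · rw [← hNcard, Nat.mod_eq_zero_of_dvd hdvd] at h
      simp at h
    · exfalso
      refine hne ((Subgroup.map_eq_bot_iff_of_injective _ Gsub.subtype_injective).1 ?_)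
      exact Subgroup.eq_bot_of_card_eq N (by omega)
    · omega
  haveI : Fact (Nat.Prime 29) := ⟨by norm_num⟩
  have hP : ∀ P : Sylow 29 N, Nat.card P = 29 := fun P => by
    rw [P.card_eq_multiplicity, hfull, Nat.factorization_def _ (by norm_num)]
    have h : padicValNat 29 173067389 = 1 := by
      rw [show (173067389 : ℕ) = 29 ^ 1 * 5967841 by norm_num,
        padicValNat.mul (by norm_num) (by norm_num), padicValNat.prime_pow,
        padicValNat.eq_zero_of_not_dvd (by norm_num)]
    rw [h, pow_one]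
  obtain ⟨n, hn, hc⟩ := card_order_eq hP
  obtain ⟨b', hb'', hcount⟩ := key {a | a ∈ N ∧ orderOf a = 29}
    (fun a ha => ⟨ha.1, fun h => by have := ha.2; rw [h, orderOf_one] at this; norm_num at this⟩)
    (fun m hm a ha => ⟨(hN m (M_le_G hm) a).1 ha.1, by
      rw [← ha.2]
      exact orderOf_injective (MulAut.conj m).toMonoidHom (MulAut.conj m).injective a⟩)
  have hc' : {a | a ∈ N ∧ orderOf a = 29}.ncard = n * 28 := by
    rw [show n * 28 = n * (29 - 1) by rfl, ← hc, ← Nat.card_coe_set_eq]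
    exact Nat.card_congr
      { toFun := fun a => ⟨⟨a.1, a.2.1⟩, by rw [← Subgroup.orderOf_coe]; exact a.2.2⟩
        invFun := fun a => ⟨a.1.1, a.1.2, by rw [Subgroup.orderOf_coe]; exact a.2⟩
        left_inv := fun a => rfl
        right_inv := fun a => rfl }
  have hs2 := List.all_eq_true.1 sums_ok b' (List.mem_range.2 hb'')
  simp only [← hcount, hc', Bool.and_eq_true, Bool.or_eq_true, Bool.not_eq_true'] at hs2
  rcases hs2.2 with (h | h) | h
  · rw [Nat.mul_mod_left, Nat.beq_refl] at h; exact Bool.noConfusion h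
  · rw [show (n * 28 + 1) % 29 = 0 by omega, Nat.beq_refl] at h; exact Bool.noConfusion h
  · rw [Nat.beq_eq] at h
    have : n = 0 := by omega
    omega

end Cfsg.Lib.J4Real
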