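/-! Generated data: words. -/

set_option autoImplicit false
set_option maxRecDepth 20000

namespace Cfsg.Lib.J4Real

/-- The letters' defining words. -/
def defWords : List (List Nat) :=
  [[1, 3, 1, 3, 4, 3, 4, 3, 4, 3, 4, 2, 1, 0, 1, 0, 1, 0, 1, 0, 4, 0, 1, 3, 1, 3, 4, 3, 4, 3, 4, 3, 4, 2, 1, 0, 1, 0, 1, 0, 1, 0, 4, 0, 1, 3, 1, 3, 4, 3, 4, 3, 4, 3, 4, 2, 1, 0, 1, 0, 1, 0, 1, 0, 4, 0],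
    [0, 1, 3, 1, 3, 4, 3, 4, 3, 4, 3, 4, 2, 1, 0, 1, 0, 1, 0, 1, 0, 4, 0, 1, 3, 1, 3, 4, 3, 4, 3, 4, 3, 4, 2, 1, 0, 1, 0, 1, 0, 1, 0, 4, 0, 1, 3, 1, 3, 4, 3, 4, 3, 4, 3, 4, 2, 1, 0, 1, 0, 1, 0, 1, 0, 4, 0, 3],
    [1, 0, 1, 3, 1, 3, 4, 3, 4, 3, 4, 3, 4, 2, 1, 0, 1, 0, 1, 0, 1, 0, 4, 0, 1, 3, 1, 3, 4, 3, 4, 3, 4, 3, 4, 2, 1, 0, 1, 0, 1, 0, 1, 0, 4, 0, 1, 3, 1, 3, 4, 3, 4, 3, 4, 3, 4, 2, 1, 0, 1, 0, 1, 0, 1, 0, 4, 0, 3, 4],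
    [0, 1, 0, 1, 3, 1, 3, 4, 3, 4, 3, 4, 3, 4, 2, 1, 0, 1, 0, 1, 0, 1, 0, 4, 0, 1, 3, 1, 3, 4, 3, 4, 3, 4, 3, 4, 2, 1, 0, 1, 0, 1, 0, 1, 0, 4, 0, 1, 3, 1, 3, 4, 3, 4, 3, 4, 3, 4, 2, 1, 0, 1, 0, 1, 0, 1, 0, 4, 0, 3, 4, 3],
    [1, 1, 0, 1, 3, 1, 3, 4, 3, 4, 3, 4, 3, 4, 2, 1, 0, 1, 0, 1, 0, 1, 0, 4, 0, 1, 3, 1, 3, 4, 3, 4, 3, 4, 3, 4, 2, 1, 0, 1, 0, 1, 0, 1, 0, 4, 0, 1, 3, 1, 3, 4, 3, 4, 3, 4, 3, 4, 2, 1, 0, 1, 0, 1, 0, 1, 0, 4, 0, 3, 4, 4],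
    [1, 0, 1, 0, 1, 3, 1, 3, 4, 3, 4, 3, 4, 3, 4, 2, 1, 0, 1, 0, 1, 0, 1, 0, 4, 0, 1, 3, 1, 3, 4, 3, 4, 3, 4, 3, 4, 2, 1, 0, 1, 0, 1, 0, 1, 0, 4, 0, 1, 3, 1, 3, 4, 3, 4, 3, 4, 3, 4, 2, 1, 0, 1, 0, 1, 0, 1, 0, 4, 0, 3, 4, 3, 4],
    [0, 1, 1, 0, 1, 3, 1, 3, 4, 3, 4, 3, 4, 3, 4, 2, 1, 0, 1, 0, 1, 0, 1, 0, 4, 0, 1, 3, 1, 3, 4, 3, 4, 3, 4, 3, 4, 2, 1, 0, 1, 0, 1, 0, 1, 0, 4, 0, 1, 3, 1, 3, 4, 3, 4, 3, 4, 3, 4, 2, 1, 0, 1, 0, 1, 0, 1, 0, 4, 0, 3, 4, 4, 3],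
    [0, 1, 0, 1, 0, 1, 3, 1, 3, 4, 3, 4, 3, 4, 3, 4, 2, 1, 0, 1, 0, 1, 0, 1, 0, 4, 0, 1, 3, 1, 3, 4, 3, 4, 3, 4, 3, 4, 2, 1, 0, 1, 0, 1, 0, 1, 0, 4, 0, 1, 3, 1, 3, 4, 3, 4, 3, 4, 3, 4, 2, 1, 0, 1, 0, 1, 0, 1, 0, 4, 0, 3, 4, 3, 4, 3],
    [1, 1, 0, 1, 0, 1, 3, 1, 3, 4, 3, 4, 3, 4, 3, 4, 2, 1, 0, 1, 0, 1, 0, 1, 0, 4, 0, 1, 3, 1, 3, 4, 3, 4, 3, 4, 3, 4, 2, 1, 0, 1, 0, 1, 0, 1, 0, 4, 0, 1, 3, 1, 3, 4, 3, 4, 3, 4, 3, 4, 2, 1, 0, 1, 0, 1, 0, 1, 0, 4, 0, 3, 4, 3, 4, 4],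
    [1, 0, 1, 0, 1, 0, 1, 3, 1, 3, 4, 3, 4, 3, 4, 3, 4, 2, 1, 0, 1, 0, 1, 0, 1, 0, 4, 0, 1, 3, 1, 3, 4, 3, 4, 3, 4, 3, 4, 2, 1, 0, 1, 0, 1, 0, 1, 0, 4, 0, 1, 3, 1, 3, 4, 3, 4, 3, 4, 3, 4, 2, 1, 0, 1, 0, 1, 0, 1, 0, 4, 0, 3, 4, 3, 4, 3, 4],
    [0, 1, 1, 0, 1, 0, 1, 3, 1, 3, 4, 3, 4, 3, 4, 3, 4, 2, 1, 0, 1, 0, 1, 0, 1, 0, 4, 0, 1, 3, 1, 3, 4, 3, 4, 3, 4, 3, 4, 2, 1, 0, 1, 0, 1, 0, 1, 0, 4, 0, 1, 3, 1, 3, 4, 3, 4, 3, 4, 3, 4, 2, 1, 0, 1, 0, 1, 0, 1, 0, 4, 0, 3, 4, 3, 4, 4, 3],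
    [6, 8, 10, 15, 1, 0, 4, 0, 4, 0, 4, 0, 4, 0, 1, 0, 4, 0, 4, 0, 4, 0, 4, 0, 4, 0, 1, 0, 4, 0, 4, 0, 1, 0, 4, 0, 4, 0, 4, 0, 4, 0, 1, 0, 4, 0, 4, 0, 4, 0, 1, 0, 1, 0, 4, 0, 1, 0, 4, 0, 4, 0, 4, 0, 1, 0, 4, 0, 1, 0, 4, 0, 4, 0, 1, 0, 4, 0, 4, 0, 4, 0, 4, 0, 1, 0, 1, 0, 4, 0, 1, 0, 1, 0, 1, 0, 1, 0, 4, 0, 4, 0, 1, 0, 1, 0, 4, 0, 4, 0, 4, 0, 4, 0, 4, 0, 1, 0, 1, 0, 1, 0, 1, 0, 4, 0, 4, 0, 4, 0, 4, 0, 1, 0, 4, 0, 1, 0, 4, 0, 4, 0, 4, 0, 4, 0, 4, 0, 1, 0, 4, 0, 1, 0, 4, 0, 1, 0, 1, 0, 1, 0, 4, 0, 1, 0, 1, 0, 4, 0, 4, 0, 4, 0, 1, 0, 4, 0, 1, 0, 4, 0, 4, 0, 4, 0, 1, 0, 4, 0, 1, 0, 1, 0, 4, 0, 1, 0, 1, 0, 4],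
    [2, 7, 11, 13, 0, 4, 0, 1, 0, 1, 0, 4, 0, 4, 0, 1, 0, 4, 0, 4, 0, 1, 0, 4, 0, 1, 0, 4, 2, 8, 10, 11, 13, 14, 15, 0, 1, 0, 1, 0, 4, 0, 4, 0, 1, 0, 4, 0, 1, 0, 4, 0, 4, 0, 4, 0, 4, 0, 4, 2, 6, 8, 13, 0, 4, 0, 4, 0, 1, 0, 4, 0, 4, 0, 4, 0, 4, 0, 1, 0, 1, 0, 1, 0, 1, 0, 1, 0, 4, 0, 1, 0, 4, 0, 1, 0, 1, 0, 1, 0, 4, 0, 4, 0, 4, 0, 4, 0, 4, 0, 1, 0, 4, 0, 1, 0, 1, 0, 1, 0, 1, 0, 4, 0, 4, 0, 4, 0, 4, 0, 4, 0, 1, 0, 4, 0, 1, 0, 1, 0, 1, 0, 4, 0, 4, 0, 4, 0, 1, 0, 1, 0, 4, 0, 1, 0, 1, 0, 1, 0, 1, 0, 1, 0, 4, 0, 1, 0, 1, 0, 4, 0, 1, 0, 4, 0, 1, 0, 1, 0, 4, 0, 4, 0, 4, 0, 1, 0, 4, 0, 1, 0, 4, 0, 1, 0, 1, 0, 1, 0, 4, 0, 1, 0, 1, 0, 4, 0, 4,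 0, 4, 0, 1, 0, 4, 0, 1, 0, 4, 0, 4, 0, 4, 0, 1, 0, 4, 0, 1, 0, 1, 0, 4, 0, 1, 0, 1, 0, 4, 7, 9, 10, 13, 14, 15, 0, 4, 0, 1, 0, 4, 0, 1, 0, 4, 0, 1, 0, 1, 0, 1, 0, 4, 0, 1, 0, 1, 0, 1, 0, 1, 0, 1, 0, 4, 0, 4, 0, 4, 0, 4, 0, 4, 0, 1, 0, 1, 0, 1, 0, 4, 0, 4, 0, 4, 0, 4, 0, 1, 0, 1, 0, 4, 0, 4, 0, 4, 0, 1, 0, 1, 0, 4, 0, 1, 0, 4, 0, 1, 0, 1, 0, 1, 0, 1, 0, 4, 0, 1, 0, 1, 0, 4, 0, 1, 0, 4, 0, 1, 0, 4, 0, 4, 0, 4, 0, 1, 0, 1, 0, 1, 0, 1, 0, 1, 0, 4, 0, 4, 0, 1, 0, 4, 0, 1, 0, 1, 0, 1, 0, 4, 0, 1, 0, 1, 0, 4, 0, 4, 0, 4, 0, 1, 0, 1, 0, 1, 0, 1, 0, 1, 0, 1, 0, 4, 0, 4, 0, 1, 0, 4, 0, 1, 0, 4, 0, 1, 0, 1, 0, 1, 0, 4, 0, 1, 0, 1, 0, 4, 0, 4,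 0, 4, 0, 1, 0, 4, 0, 1, 0, 4, 0, 4, 0, 4, 0, 1, 0, 4, 0, 1, 0, 1, 0, 4, 0, 1, 0, 1, 0, 4, 2, 7, 11, 13, 0, 4, 0, 1, 0, 1, 0, 4, 0, 4, 0, 1, 0, 4, 0, 4, 0, 1, 0, 4, 0, 1, 0, 4, 2, 8, 10, 11, 13, 14, 15, 0, 1, 0, 1, 0, 4, 0, 4, 0, 1, 0, 4, 0, 1, 0, 4, 0, 4, 0, 4, 0, 4, 0, 4, 2, 6, 8, 13, 0, 4, 0, 4, 0, 1, 0, 4, 0, 4, 0, 4, 0, 4, 0, 1, 0, 1, 0, 1, 0, 1, 0, 1, 0, 4, 0, 1, 0, 4, 0, 1, 0, 1, 0, 1, 0, 4, 0, 4, 0, 4, 0, 4, 0, 4, 0, 1, 0, 4, 0, 1, 0, 1, 0, 1, 0, 1, 0, 4, 0, 4, 0, 4, 0, 4, 0, 4, 0, 1, 0, 4, 0, 1, 0, 1, 0, 1, 0, 4, 0, 4, 0, 4, 0, 1, 0, 1, 0, 4, 0, 1, 0, 1, 0, 1, 0, 1, 0, 1, 0, 4, 0, 1, 0, 1, 0, 4, 0, 1, 0, 4, 0, 1, 0, 1, 0, 4,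 0, 4, 0, 4, 0, 1, 0, 4, 0, 1, 0, 4, 0, 1, 0, 1, 0, 1, 0, 4, 0, 1, 0, 1, 0, 4, 0, 4, 0, 4, 0, 1, 0, 4, 0, 1, 0, 4, 0, 4, 0, 4, 0, 1, 0, 4, 0, 1, 0, 1, 0, 4, 0, 1, 0, 1, 0, 4, 7, 11, 13, 14, 16, 2, 7, 11, 13, 0, 4, 0, 1, 0, 1, 0, 4, 0, 4, 0, 1, 0, 4, 0, 4, 0, 1, 0, 4, 0, 1, 0, 4, 2, 8, 10, 11, 13, 14, 15, 0, 1, 0, 1, 0, 4, 0, 4, 0, 1, 0, 4, 0, 1, 0, 4, 0, 4, 0, 4, 0, 4, 0, 4, 2, 6, 8, 13, 0, 4, 0, 4, 0, 1, 0, 4, 0, 4, 0, 4, 0, 4, 0, 1, 0, 1, 0, 1, 0, 1, 0, 1, 0, 4, 0, 1, 0, 4, 0, 1, 0, 1, 0, 1, 0, 4, 0, 4, 0, 4, 0, 4, 0, 4, 0, 1, 0, 4, 0, 1, 0, 1, 0, 1, 0, 1, 0, 4, 0, 4, 0, 4, 0, 4, 0, 4, 0, 1, 0, 4, 0, 1, 0, 1, 0, 1, 0, 4, 0, 4, 0,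 4, 0, 1, 0, 1, 0, 4, 0, 1, 0, 1, 0, 1, 0, 1, 0, 1, 0, 4, 0, 1, 0, 1, 0, 4, 0, 1, 0, 4, 0, 1, 0, 1, 0, 4, 0, 4, 0, 4, 0, 1, 0, 4, 0, 1, 0, 4, 0, 1, 0, 1, 0, 1, 0, 4, 0, 1, 0, 1, 0, 4, 0, 4, 0, 4, 0, 1, 0, 4, 0, 1, 0, 4, 0, 4, 0, 4, 0, 1, 0, 4, 0, 1, 0, 1, 0, 4, 0, 1, 0, 1, 0, 4, 6, 8, 10, 15, 1, 0, 4, 0, 4, 0, 4, 0, 4, 0, 1, 0, 4, 0, 4, 0, 4, 0, 4, 0, 4, 0, 1, 0, 4, 0, 4, 0, 1, 0, 4, 0, 4, 0, 4, 0, 4, 0, 1, 0, 4, 0, 4, 0, 4, 0, 1, 0, 1, 0, 4, 0, 1, 0, 4, 0, 4, 0, 4, 0, 1, 0, 4, 0, 1, 0, 4, 0, 4, 0, 1, 0, 4, 0, 4, 0, 4, 0, 4, 0, 1, 0, 1, 0, 4, 0, 1, 0, 1, 0, 1, 0, 1, 0, 4, 0, 4, 0, 1, 0, 1, 0, 4, 0, 4, 0, 4, 0, 4, 0, 4, 0, 1, 0, 1, 0,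 1, 0, 1, 0, 4, 0, 4, 0, 4, 0, 4, 0, 1, 0, 4, 0, 1, 0, 4, 0, 4, 0, 4, 0, 4, 0, 4, 0, 1, 0, 4, 0, 1, 0, 4, 0, 1, 0, 1, 0, 1, 0, 4, 0, 1, 0, 1, 0, 4, 0, 4, 0, 4, 0, 1, 0, 4, 0, 1, 0, 4, 0, 4, 0, 4, 0, 1, 0, 4, 0, 1, 0, 1, 0, 4, 0, 1, 0, 1, 0, 4, 6, 8, 10, 15, 1, 0, 4, 0, 4, 0, 4, 0, 4, 0, 1, 0, 4, 0, 4, 0, 4, 0, 4, 0, 4, 0, 1, 0, 4, 0, 4, 0, 1, 0, 4, 0, 4, 0, 4, 0, 4, 0, 1, 0, 4, 0, 4, 0, 4, 0, 1, 0, 1, 0, 4, 0, 1, 0, 4, 0, 4, 0, 4, 0, 1, 0, 4, 0, 1, 0, 4, 0, 4, 0, 1, 0, 4, 0, 4, 0, 4, 0, 4, 0, 1, 0, 1, 0, 4, 0, 1, 0, 1, 0, 1, 0, 1, 0, 4, 0, 4, 0, 1, 0, 1, 0, 4, 0, 4, 0, 4, 0, 4, 0, 4, 0, 1, 0, 1, 0, 1, 0, 1, 0, 4, 0, 4, 0, 4, 0, 4, 0,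 1, 0, 4, 0, 1, 0, 4, 0, 4, 0, 4, 0, 4, 0, 4, 0, 1, 0, 4, 0, 1, 0, 4, 0, 1, 0, 1, 0, 1, 0, 4, 0, 1, 0, 1, 0, 4, 0, 4, 0, 4, 0, 1, 0, 4, 0, 1, 0, 4, 0, 4, 0, 4, 0, 1, 0, 4, 0, 1, 0, 1, 0, 4, 0, 1, 0, 1, 0, 4, 6, 8, 10, 15, 1, 0, 4, 0, 4, 0, 4, 0, 4, 0, 1, 0, 4, 0, 4, 0, 4, 0, 4, 0, 4, 0, 1, 0, 4, 0, 4, 0, 1, 0, 4, 0, 4, 0, 4, 0, 4, 0, 1, 0, 4, 0, 4, 0, 4, 0, 1, 0, 1, 0, 4, 0, 1, 0, 4, 0, 4, 0, 4, 0, 1, 0, 4, 0, 1, 0, 4, 0, 4, 0, 1, 0, 4, 0, 4, 0, 4, 0, 4, 0, 1, 0, 1, 0, 4, 0, 1, 0, 1, 0, 1, 0, 1, 0, 4, 0, 4, 0, 1, 0, 1, 0, 4, 0, 4, 0, 4, 0, 4, 0, 4, 0, 1, 0, 1, 0, 1, 0, 1, 0, 4, 0, 4, 0, 4, 0, 4, 0, 1, 0, 4, 0, 1, 0, 4, 0, 4, 0, 4, 0,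 4, 0, 4, 0, 1, 0, 4, 0, 1, 0, 4, 0, 1, 0, 1, 0, 1, 0, 4, 0, 1, 0, 1, 0, 4, 0, 4, 0, 4, 0, 1, 0, 4, 0, 1, 0, 4, 0, 4, 0, 4, 0, 1, 0, 4, 0, 1, 0, 1, 0, 4, 0, 1, 0, 1, 0, 4],
    [7, 9, 10, 11, 12, 13, 14, 15, 16, 1, 0, 1, 0, 4, 0, 4, 0, 1, 0, 4, 0, 4, 0, 1, 0, 1, 0, 1, 0, 1, 0, 4, 0, 4, 0, 4, 0, 4, 0, 4, 0, 1, 0, 4, 0, 1, 0, 1, 0, 4, 0, 1, 0, 4, 2, 1, 0, 4, 0, 1, 0, 4, 0, 4, 0, 1, 0, 4, 0, 1, 0, 1, 0, 4, 2, 6, 7, 8, 12, 13, 14, 1, 0, 4, 0, 1, 0, 4, 0, 1, 0, 1, 0, 4, 0, 4, 0, 4, 0, 1, 0, 4, 0, 4, 0, 4, 0, 4, 0, 1, 0, 1, 0, 4, 0, 4, 0, 4, 0, 4, 0, 4, 0, 4, 0, 1, 0, 1, 0, 4, 0, 4, 0, 4, 0, 4, 0, 1, 0, 4, 0, 4, 0, 1, 0, 1, 0, 1, 0, 1, 0,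 1, 0, 1, 0, 4, 0, 4, 0, 4, 0, 1, 0, 4, 0, 1, 0, 1, 0, 1, 0, 4, 0, 4, 0, 4, 0, 1, 0, 4, 0, 1, 0, 4, 0, 4, 0, 1, 0, 4, 0, 1, 0, 1, 0, 1, 0, 1, 0, 4, 0, 1, 0, 1, 0, 4, 0, 1, 0, 1, 0, 1, 0, 4, 0, 4, 0, 1, 0, 1, 0, 1, 0, 1, 0, 4, 0, 4, 0, 4, 0, 4, 0, 1, 0, 4, 0, 1, 0, 1, 0, 1, 0, 1, 0, 1, 0, 4, 0, 1, 0, 1, 0, 4, 2, 7, 11, 13, 0, 4, 0, 1, 0, 1, 0, 4, 0, 4, 0, 1, 0, 4, 0, 4, 0, 1, 0, 4, 0, 1, 0, 4, 2, 8, 10, 11, 13, 14, 15, 0, 1, 0, 1, 0, 4, 0, 4, 0, 1, 0, 4, 0, 1, 0, 4, 0, 4, 0, 4, 0, 4, 0, 4, 2, 6, 8, 13, 0, 4, 0, 4, 0, 1, 0, 4, 0, 4, 0, 4, 0, 4, 0, 1, 0, 1, 0, 1, 0, 1, 0, 1, 0, 4, 0, 1, 0, 4, 0, 1, 0, 1, 0, 1, 0, 4, 0, 4, 0, 4, 0, 4, 0,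 4, 0, 1, 0, 4, 0, 1, 0, 1, 0, 1, 0, 1, 0, 4, 0, 4, 0, 4, 0, 4, 0, 4, 0, 1, 0, 4, 0, 1, 0, 1, 0, 1, 0, 4, 0, 4, 0, 4, 0, 1, 0, 1, 0, 4, 0, 1, 0, 1, 0, 1, 0, 1, 0, 1, 0, 4, 0, 1, 0, 1, 0, 4, 0, 1, 0, 4, 0, 1, 0, 1, 0, 4, 0, 4, 0, 4, 0, 1, 0, 4, 0, 1, 0, 4, 0, 1, 0, 1, 0, 1, 0, 4, 0, 1, 0, 1, 0, 4, 0, 4, 0, 4, 0, 1, 0, 4, 0, 1, 0, 4, 0, 4, 0, 4, 0, 1, 0, 4, 0, 1, 0, 1, 0, 4, 0, 1, 0, 1, 0, 4, 1, 3, 4, 3, 4, 3, 1, 3, 4, 3, 4, 3, 4, 3, 4, 3, 4, 3, 1, 3, 4, 3, 1, 3, 1, 3, 1, 3, 1, 3, 4, 3, 4, 3, 4, 3, 4, 3, 1, 3, 1, 3, 4, 3, 4, 3, 4, 3, 1, 3, 4, 3, 4, 3, 1, 3, 4, 3, 4, 3, 4, 3, 4, 3, 1, 3, 4, 3, 1, 3, 1, 3, 4, 3, 1, 3, 4, 3, 1, 3, 1, 3,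 1, 3, 4, 3, 4, 3, 4, 3, 1, 3, 4, 3, 1, 3, 1, 3, 1, 3, 4, 3, 4, 3, 4, 3, 4, 3, 4, 3, 4, 3, 1, 3, 1, 3, 4, 3, 1, 3, 1, 3, 1, 3, 1, 3, 4, 3, 4, 3, 1, 3, 1, 3, 1, 3, 1, 3, 1, 3, 1, 3, 4, 3, 4, 3, 1, 3, 1, 3, 1, 3, 1, 3, 4, 3, 1, 3, 1, 3, 1, 3, 4, 3, 4, 3, 1, 3, 4, 3, 1, 3, 4, 6, 7, 8, 12, 13, 14, 5, 1, 3, 4, 3, 4, 3, 1, 3, 4, 3, 1, 3, 1, 3, 4, 3, 1, 3, 4, 5, 1, 3, 4, 3, 1, 3, 4, 3, 4, 3, 1, 3, 4, 3, 1, 3, 1, 3, 1, 3, 1, 3, 1, 3, 4, 3, 4, 3, 4, 3, 4, 3, 1, 3, 1, 3, 4, 3, 1, 3, 1, 3, 4, 3, 4, 7, 9, 10, 11, 12, 13, 14, 15, 16, 1, 3, 4, 3, 4, 3, 1, 3, 4, 3, 4, 3, 1, 3, 4, 3, 1, 3, 1, 3, 1, 3, 4, 3, 1, 3, 4, 3, 1, 3, 1, 3, 1, 3, 4, 3, 4, 3,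 1, 3, 4, 3, 4, 3, 4, 3, 1, 3, 4, 3, 1, 3, 4, 3, 1, 3, 1, 3, 1, 3, 4, 3, 4, 3, 1, 3, 4, 3, 1, 3, 4, 3, 4, 3, 1, 3, 4, 3, 4, 3, 4, 3, 4, 3, 4, 3, 1, 3, 4, 3, 4, 3, 1, 3, 1, 3, 1, 3, 4, 3, 4, 3, 4, 3, 1, 3, 4, 3, 1, 3, 1, 3, 1, 3, 1, 3, 1, 3, 4, 3, 4, 3, 4, 3, 4, 3, 1, 3, 4, 3, 1, 3, 1, 3, 1, 3, 1, 3, 1, 3, 4, 3, 4, 3, 4, 3, 1, 3, 4, 3, 1, 3, 4, 3, 4, 3, 4, 3, 4, 3, 4, 3, 1, 3, 1, 3, 1, 3, 1, 3, 4, 3, 1, 3, 1, 3, 6, 8, 13, 5, 1, 3, 1, 3, 1, 3, 1, 3, 1, 3, 4, 3, 1, 3, 4, 3, 1, 3, 1, 3, 4, 3, 4, 3, 8, 10, 11, 13, 14, 15, 5, 1, 3, 4, 3, 1, 3, 4, 3, 1, 3, 1, 3, 4, 3, 1, 3, 1, 3, 4, 3, 4, 3, 1, 3, 7, 11, 13, 5]]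

/-- Conjugation of the basis of the normal subgroup by the first two letters, as masks. -/
def conjMasks : List (List Nat) :=
  [[2, 1, 8, 4, 64, 128, 16, 32, 1024, 752, 256],
    [1, 4, 16, 32, 2, 256, 346, 512, 8, 1575, 1970]]

/-- A vector moved by every nonidentity element of the normal subgroup. -/
def seedVec : Nat := 0x5ec5914dbb53ddf6612b8b6dc7c1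

/-- The representatives of the double cosets, as words. -/
def gWords : List (List Nat) :=
  [[],
    [2],
    [2, 1, 0, 4, 0, 4, 0, 2, 9, 10, 11, 12, 13, 14, 4, 0, 1, 0, 4, 0, 1, 0, 1, 0, 1, 0, 4, 0, 4, 0, 1, 0, 4, 0, 1, 0, 1, 2],
    [2, 0, 1, 0, 2],
    [2, 1, 0, 4, 0, 1, 0, 4, 0, 4, 0, 1, 0, 4, 0, 1, 0, 1, 0, 4, 2],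
    [2, 0, 4, 0, 4, 0, 1, 0, 4, 0, 4, 0, 4, 2, 0, 4, 0, 1, 0, 1, 0, 4, 0, 1, 0, 4, 0, 1, 0, 4, 0, 4, 0, 1, 0, 1, 0, 2],
    [2, 7, 11, 13, 0, 4, 0, 1, 0, 1, 0, 4, 0, 4, 0, 1, 0, 4, 0, 4, 0, 1, 0, 4, 0, 1, 0, 4, 2, 8, 10, 11, 13, 14, 15, 0, 1, 0, 1, 0, 4, 0, 4, 0, 1, 0, 4, 0, 1, 0, 4, 0, 4, 0, 4, 0, 4, 0, 4, 2]]

/-- Generators of the subgroups, as masks and words. -/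
def hGens : List (List (Nat × List Nat)) :=
  [[(0, [0]), (0, [1]), (0, [4]), (1, []), (2, []), (4, []), (8, []), (16, []), (32, []), (64, []), (128, []), (256, []), (512, []), (1024, [])],
    [(1547, [1, 0, 4, 0, 1, 0, 4, 0, 4, 0, 4, 0, 4, 0, 4, 0, 4, 0, 1, 0, 4, 0, 1, 0, 4, 0, 1, 0, 1, 0, 4, 0, 1, 0, 1, 0, 4, 0, 1, 0, 4]), (1622, []), (38, [4, 0, 1, 0, 4, 0, 1, 0, 4, 0, 4, 0, 1, 0, 4, 0, 4, 0, 1, 0, 1, 0, 1, 0, 4, 0, 4, 0, 4, 0, 1, 0, 1, 0, 4, 0, 1, 0, 1, 0, 4, 0, 1, 0, 4, 0, 1]), (31, [4, 0, 1, 0, 4, 0, 1, 0, 1, 0, 1, 0, 4, 0, 1, 0, 1, 0, 1, 0, 1, 0, 4, 0, 4, 0, 1, 0, 1, 0, 4, 0, 4, 0, 4, 0, 4, 0, 1, 0, 4, 0, 1, 0, 1]), (362, [1,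 0, 4, 0, 4, 0, 1, 0, 1, 0, 4, 0, 1, 0, 4, 0, 4, 0, 4, 0, 1, 0, 4, 0, 1, 0, 1, 0, 4, 0, 4, 0, 1, 0, 4, 0, 1, 0, 4, 0, 1]), (912, [1, 0, 4, 0, 4, 0, 1, 0, 1, 0, 4, 0, 1, 0, 4, 0, 4, 0, 4, 0, 1, 0, 4, 0, 1, 0, 1, 0, 4]), (3, []), (13, []), (17, []), (37, []), (65, []), (132, []), (256, []), (517, []), (1024, [])],
    [(262, []), (331, [1, 0, 4, 0, 1, 0, 4, 0, 1, 0, 1, 0, 1, 0, 4, 0, 1, 0, 1, 0, 1, 0, 1, 0, 4, 0, 1, 0, 1, 0, 1, 0, 4, 0, 4, 0, 4, 0, 1, 0, 1]), (114, [4, 0, 1, 0, 4, 0, 1, 0, 1, 0, 4, 0, 1, 0, 1, 0, 4, 0, 4, 0, 1, 0, 4, 0, 1, 0, 4, 0, 4, 0, 1, 0, 4, 0, 4, 0, 1, 0, 1, 0, 4, 0, 1, 0, 4, 0, 1]), (1791, [4, 0, 4, 0, 4, 0, 4,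 0, 4, 0, 4, 0, 4, 0, 1, 0, 4, 0, 4, 0, 1, 0, 4, 0, 4, 0, 1, 0, 4, 0, 1, 0, 4, 0, 1, 0, 1, 0, 1, 0, 1, 0, 1, 0, 4]), (6, []), (25, []), (105, []), (170, []), (256, []), (552, []), (1032, [])],
    [(1062, []), (218, [1, 0, 1, 0, 1, 0, 4, 0, 1, 0, 4, 0, 4, 0, 1, 0, 1, 0, 4, 0, 1, 0, 4, 0, 1]), (815, [1, 0, 1, 0, 1, 0, 4, 0, 1, 0, 1, 0, 4, 0, 4, 0, 1, 0, 1, 0, 4, 0, 4, 0, 1, 0, 1, 0, 1, 0, 1, 0, 4, 0, 1, 0, 1, 0, 4, 0, 4]), (1212, [4, 0, 1, 0, 4, 0, 1, 0, 4, 0, 4, 0, 1, 0, 4, 0, 4, 0, 1, 0, 1, 0, 4, 0, 1, 0, 1, 0, 1, 0, 4, 0, 1, 0, 1, 0, 4, 0, 4, 0, 1, 0, 1, 0, 1, 0, 1]), (349, []), (1400, []), (336, [4, 0, 1, 0, 4, 0, 1, 0, 1, 0, 1,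 0, 4, 0, 4, 0, 1, 0, 4, 0, 1, 0, 1, 0, 4, 0, 4, 0, 1, 0, 4, 0, 1, 0, 1, 0, 4, 0, 1, 0, 1]), (1061, []), (0, []), (857, [4, 0, 4, 0, 1, 0, 4, 0, 4, 0, 4, 0, 4, 0, 1, 0, 1, 0, 1, 0, 4, 0, 4, 0, 4, 0, 4, 0, 1, 0, 1, 0, 1, 0, 1, 0, 1, 0, 4, 0, 1, 0, 4, 0, 4, 0, 1]), (1159, [4, 0, 1, 0, 1, 0, 1, 0, 4, 0, 1, 0, 1, 0, 4, 0, 4, 0, 1, 0, 4, 0, 1, 0, 1, 0, 1, 0, 1, 0, 1, 0, 4, 0, 4, 0, 4, 0, 4, 0, 4, 0, 1, 0, 1, 0, 1]), (3, []), (172, []), (349, []), (1061, [])],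
    [(1783, [1, 0, 4, 0, 4, 0, 1, 0, 4, 0, 4, 0, 4, 0, 1, 0, 4, 0, 1, 0, 1, 0, 4, 0, 1, 0, 4, 0, 4, 0, 1, 0, 4, 0, 1, 0, 1, 0, 4, 0, 4, 0, 1, 0, 4]), (124, [1, 0, 1, 0, 1, 0, 1, 0, 1, 0, 4, 0, 4, 0, 4, 0, 1, 0, 4, 0, 4, 0, 1, 0, 1, 0, 4, 0, 4, 0, 1, 0, 1, 0, 4, 0, 1, 0, 1, 0, 1, 0, 1, 0, 1]), (1224, [1, 0, 1, 0, 4, 0, 4, 0, 1, 0, 1, 0, 1, 0, 4, 0, 1, 0, 4, 0, 1, 0, 4, 0, 1, 0, 1, 0, 1, 0, 1, 0, 4, 0, 1, 0, 1, 0, 4, 0, 1, 0, 1, 0, 1]), (744, [4, 0, 4, 0, 1, 0, 1, 0, 1, 0, 4, 0, 1, 0, 1, 0, 4, 0, 1, 0, 4, 0, 4, 0, 1, 0, 4, 0, 4, 0, 1, 0, 4, 0, 4, 0, 1, 0, 1, 0, 1, 0, 1, 0, 1]), (744, []), (161, [1, 0, 4, 0, 1, 0, 4, 0, 4, 0, 1, 0, 4,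 0, 4, 0, 1, 0, 4, 0, 1, 0, 1, 0, 1, 0, 4, 0, 4, 0, 4, 0, 1, 0, 4, 0, 4, 0, 4, 0, 1, 0, 1, 0, 1, 0, 4]), (744, [])],
    [(0, []), (0, []), (0, []), (388, [4, 0, 4, 0, 4, 0, 1, 0, 1, 0, 4, 0, 1, 0, 1, 0, 4, 0, 4, 0, 4, 0, 4, 0, 1, 0, 4, 0, 4, 0, 1, 0, 1, 0, 4, 0, 1, 0, 1, 0, 1]), (0, []), (1373, [1, 0, 4, 0, 1, 0, 4, 0, 4, 0, 1, 0, 1, 0, 4, 0, 4, 0, 4, 0, 4, 0, 1, 0, 4, 0, 1, 0, 1, 0, 1, 0, 1, 0, 4, 0, 4, 0, 1, 0, 1, 0, 4, 0, 1, 0, 4]), (1357, [4, 0, 4, 0, 4, 0, 4, 0, 4, 0, 1, 0, 4, 0, 1, 0, 4, 0, 4, 0, 1, 0, 4, 0, 4, 0, 1, 0, 4, 0, 4, 0, 4, 0, 1, 0, 4, 0, 1, 0, 1, 0, 1, 0, 1, 0, 1]), (0, []), (336, [1, 0, 1, 0, 1, 0, 4, 0, 4, 0, 4,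 0, 1, 0, 4, 0, 1, 0, 4, 0, 4, 0, 1, 0, 4, 0, 1, 0, 1, 0, 4, 0, 4, 0, 4, 0, 4, 0, 4, 0, 1, 0, 1, 0, 4, 0, 4]), (1863, [1, 0, 4, 0, 1, 0, 1, 0, 1, 0, 4, 0, 1, 0, 4, 0, 1, 0, 4, 0, 4, 0, 1, 0, 4, 0, 1, 0, 4, 0, 1, 0, 4, 0, 4, 0, 1, 0, 4, 0, 1, 0, 4, 0, 1, 0, 1])],
    [(832, [4, 0, 1, 0, 1, 0, 4, 0, 1, 0, 4, 0, 4, 0, 1, 0, 1, 0, 4, 0, 1, 0, 4, 0, 1, 0, 4, 0, 1, 0, 4, 0, 1, 0, 1, 0, 1, 0, 4, 0, 4]), (0, []), (1139, [1, 0, 4, 0, 1, 0, 4, 0, 1, 0, 1, 0, 1, 0, 4, 0, 4, 0, 1, 0, 4, 0, 4, 0, 4, 0, 1, 0, 4, 0, 4, 0, 1, 0, 1, 0, 4, 0, 4, 0, 4, 0, 1, 0, 1])]]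

/-- The conjugates of the generators. -/
def hConj : List (List (Nat × List Nat)) :=
  [[(0, [0]), (0, [1]), (0, [4]), (1, []), (2, []), (4, []), (8, []), (16, []), (32, []), (64, []), (128, []), (256, []), (512, []), (1024, [])],
    [(1547, [0, 4, 0, 4, 0, 4, 0, 4, 0, 1, 0, 1, 0, 1, 0, 4, 0, 1, 0, 1, 0, 1, 0, 4, 0, 4, 0, 4, 0, 1, 0, 1, 0, 1, 0, 1, 0, 4, 0, 1, 0, 1, 0, 4, 0, 1, 0, 1, 0, 1, 0, 1, 0, 4, 0, 4, 0, 4, 0, 1, 0, 1, 0, 1, 0, 1, 0, 4, 0, 4, 0, 4, 0, 1, 0, 1, 0, 4, 0, 4, 0, 4, 0, 1, 0, 1, 0, 1, 0, 1, 0, 1, 0, 4, 0, 1, 0, 1, 0, 4, 0, 1, 0, 4, 0, 1, 0, 1, 0, 1, 0, 1, 0, 4, 0, 1, 0, 1, 0, 1, 0, 1, 0, 1]), (1622, [4, 0, 4, 0,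 4, 0, 4, 0, 1, 0, 1, 0, 4, 0, 1, 0, 1, 0, 1, 0, 1, 0, 4, 0, 4, 0, 1, 0, 1, 0, 1, 0, 4, 0, 4, 0, 4, 0, 1, 0, 1, 0, 1, 0, 4, 0, 4, 0, 1, 0, 1, 0, 4, 0, 1, 0, 4, 0, 4, 0, 4, 0, 4, 0, 4, 0, 4, 0, 1, 0, 4, 0, 4, 0, 1, 0, 4, 0, 1, 0, 4, 0, 4, 0, 4, 0, 4, 0, 4, 0, 1, 0, 4, 0, 1, 0, 4, 0, 1, 0, 1, 0, 1, 0, 4, 0, 1, 0, 1, 0, 4, 0, 4, 0, 4, 0, 1, 0, 4, 0, 1, 0, 4, 0, 4, 0, 4, 0, 1, 0, 4, 0, 1, 0, 1, 0, 4, 0, 1, 0, 1, 0, 4]), (718, [4, 0, 4, 0, 1, 0, 4, 0, 4, 0, 4, 0, 1, 0, 1, 0, 4, 0, 1, 0, 4, 0, 4, 0, 4, 0, 1, 0, 1, 0, 1, 0, 4, 0, 4, 0, 1, 0, 1, 0, 4, 0, 4, 0, 4, 0, 4, 0, 1, 0, 4, 0, 1, 0, 1, 0, 1, 0, 4, 0, 4, 0, 4, 0, 4, 0, 4, 0, 4, 0, 1,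 0, 4, 0, 1, 0, 1, 0, 4, 0, 4, 0, 4, 0, 1, 0, 4, 0, 1, 0, 4, 0, 4, 0, 4, 0, 4, 0, 1, 0, 1, 0, 4, 0, 4, 0, 4, 0, 1, 0, 1, 0, 4, 0, 4, 0, 1, 0, 4, 0, 1, 0, 4, 0, 4, 0, 1, 0, 4, 0, 1, 0, 1, 0, 4, 0, 1, 0, 4, 0, 1, 0, 4, 0, 4, 0, 1, 0, 1, 0, 4, 0, 4, 0, 4, 0, 1, 0, 4, 0, 1, 0, 4, 0, 1, 0, 1, 0, 1, 0, 4, 0, 1, 0, 1, 0, 4, 0, 4, 0, 4, 0, 1, 0, 4, 0, 1, 0, 4, 0, 4, 0, 4, 0, 1, 0, 4, 0, 1, 0, 1, 0, 4, 0, 1, 0, 1, 0, 4]), (1383, [0, 4, 0, 1, 0, 1, 0, 1, 0, 1, 0, 1, 0, 1, 0, 1, 0, 1, 0, 1, 0, 4, 0, 4, 0, 4, 0, 1, 0, 4, 0, 1, 0, 1, 0, 4, 0, 1, 0, 1, 0, 1, 0, 1, 0, 4, 0, 4, 0, 1, 0, 1, 0, 1, 0, 4, 0, 4, 0, 4, 0, 4, 0, 4, 0, 1, 0, 1, 0, 4, 0, 4,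 0, 1, 0, 1, 0, 1, 0, 1, 0, 1, 0, 1, 0, 1, 0, 1, 0, 4, 0, 4, 0, 4, 0, 4, 0, 1, 0, 4, 0, 1, 0, 1, 0, 1, 0, 1, 0, 4, 0, 4, 0, 1, 0, 4, 0, 1, 0, 4, 0, 1, 0, 4, 0, 4, 0, 1, 0, 1, 0, 1, 0, 1, 0, 4, 0, 4, 0, 4, 0, 1, 0, 4, 0, 1, 0, 4, 0, 1, 0, 1, 0, 1, 0, 1, 0, 4, 0, 4, 0, 4, 0, 1]), (362, [4, 0, 4, 0, 1, 0, 4, 0, 1, 0, 4, 0, 1, 0, 1, 0, 1, 0, 1, 0, 4, 0, 4, 0, 1, 0, 4, 0, 4, 0, 1, 0, 1, 0, 1, 0, 4, 0, 1, 0, 1, 0, 1, 0, 4, 0, 4, 0, 4, 0, 1, 0, 1, 0, 1, 0, 4, 0, 4, 0, 4, 0, 1, 0, 4, 0, 4, 0, 4, 0, 4, 0, 4, 0, 1, 0, 1, 0, 1, 0, 1, 0, 1, 0, 4, 0, 4, 0, 1, 0, 1, 0, 1, 0, 1, 0, 4, 0, 4, 0, 4, 0, 4, 0, 4, 0, 1, 0, 4, 0, 1, 0, 1, 0, 1, 0, 1, 0,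 4, 0, 4, 0, 1, 0, 1, 0, 1, 0, 4, 0, 1, 0, 1, 0, 1, 0, 4, 0, 1, 0, 4, 0, 4, 0, 4]), (828, [1, 0, 4, 0, 1, 0, 4, 0, 4, 0, 1, 0, 1, 0, 4, 0, 1, 0, 1, 0, 1, 0, 1, 0, 4, 0, 4, 0, 1, 0, 4, 0, 1, 0, 4, 0, 1, 0, 4, 0, 4, 0, 1, 0, 1, 0, 1, 0, 1, 0, 1, 0, 4, 0, 4, 0, 4, 0, 4, 0, 4, 0, 1, 0, 4, 0, 1, 0, 4, 0, 4, 0, 4, 0, 1, 0, 4, 0, 4, 0, 1, 0, 4, 0, 1, 0, 4, 0, 1, 0, 4, 0, 1, 0, 1, 0, 1, 0, 4, 0, 4, 0, 4, 0, 4, 0, 4, 0, 4, 0, 4, 0, 1, 0, 4, 0, 4, 0, 4, 0, 1, 0, 1, 0, 4, 0, 1, 0, 4, 0, 4, 0, 4, 0, 4, 0, 1, 0, 1, 0, 1, 0, 4, 0, 1, 0, 4, 0, 4, 0, 4, 0, 4, 0, 4, 0, 1, 0, 4, 0, 1, 0, 4, 0, 1, 0, 1, 0, 1, 0, 4, 0, 1, 0, 1, 0, 4, 0, 4, 0, 4, 0, 1,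 0, 4, 0, 1, 0, 4, 0, 4, 0, 4, 0, 1, 0, 4, 0, 1, 0, 1, 0, 4, 0, 1, 0, 1, 0, 4]), (3, [4, 0, 1, 0, 1, 0, 1, 0, 4, 0, 1, 0, 1, 0, 1, 0, 4, 0, 4, 0, 1, 0, 1, 0, 1, 0, 4, 0, 1, 0, 1, 0, 1, 0, 1, 0, 4, 0, 4, 0, 4, 0, 1, 0, 4, 0, 4, 0, 1, 0, 4, 0, 4, 0, 4, 0, 1, 0, 1, 0, 1, 0, 1, 0, 4, 0, 4, 0, 1, 0, 1, 0, 4, 0, 4, 0, 4, 0, 4, 0, 1, 0, 4, 0, 1, 0, 4, 0, 4, 0, 4]), (161, [1, 0, 1, 0, 1, 0, 1, 0, 1, 0, 1, 0, 4, 0, 1, 0, 1, 0, 4, 0, 1, 0, 1, 0, 1, 0, 4, 0, 4, 0, 1, 0, 1, 0, 1, 0, 1, 0, 4, 0, 1, 0, 4, 0, 1, 0, 1, 0, 4, 0, 4, 0, 4, 0, 4, 0, 1, 0, 4, 0, 4, 0, 1, 0, 1, 0, 4, 0, 4, 0, 1, 0, 1, 0, 1, 0, 1, 0, 4, 0, 4, 0, 1, 0, 1, 0, 4, 0, 4, 0, 4,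 0, 4, 0, 1, 0, 4, 0, 1, 0, 4, 0, 1, 0, 1, 0, 4, 0, 4, 0, 4, 0, 1, 0, 1, 0, 4, 0, 1, 0, 1, 0, 1, 0, 1, 0, 1, 0, 4, 0, 1, 0, 1, 0, 4, 0, 1, 0, 4, 0, 1, 0, 1, 0, 4]), (1837, [1, 0, 1, 0, 4, 0, 4, 0, 4, 0, 1, 0, 4, 0, 4, 0, 4, 0, 1, 0, 1, 0, 1, 0, 1, 0, 1, 0, 4, 0, 1, 0, 1, 0, 1, 0, 4, 0, 1, 0, 1, 0, 1, 0, 1, 0, 4, 0, 1, 0, 1, 0, 4, 0, 1, 0, 4, 0, 1, 0, 4, 0, 1, 0, 1, 0, 1, 0, 1, 0, 4, 0, 4, 0, 4, 0, 1, 0, 4, 0, 1, 0, 1, 0, 1, 0, 4, 0, 4, 0, 4, 0, 1, 0, 4, 0, 1, 0, 4, 0, 4, 0, 1, 0, 4, 0, 1, 0, 1, 0, 1, 0, 1, 0, 4, 0, 1, 0, 1, 0, 4, 0, 1, 0, 1, 0, 1, 0, 4, 0, 4, 0, 1, 0, 1, 0, 1, 0, 1, 0, 4, 0, 4, 0, 4, 0, 4, 0, 1, 0, 4, 0, 1, 0, 1, 0,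 1, 0, 1, 0, 1, 0, 4, 0, 1, 0, 1, 0, 4]), (609, [4, 0, 4, 0, 4, 0, 4, 0, 1, 0, 4, 0, 1, 0, 4, 0, 1, 0, 1, 0, 1, 0, 4, 0, 4, 0, 1, 0, 1, 0, 4, 0, 1, 0, 4, 0, 1, 0, 1, 0, 4, 0, 4, 0, 4, 0, 4, 0, 1, 0, 4, 0, 1, 0, 4, 0, 4, 0, 1, 0, 1, 0, 1, 0, 1, 0, 4, 0, 4, 0, 4, 0, 4, 0, 4, 0, 1, 0, 4, 0, 1, 0, 4, 0, 4, 0, 1, 0, 4, 0, 1, 0, 1, 0, 1, 0, 1, 0, 4, 0, 4, 0, 1, 0, 4, 0, 1, 0, 4, 0, 1, 0, 4, 0, 4, 0, 1, 0, 1, 0, 1, 0, 1, 0, 4, 0, 4, 0, 4, 0, 1, 0, 4, 0, 1, 0, 4, 0, 1, 0, 1, 0, 1, 0, 1, 0, 4, 0, 4, 0, 4, 0, 1]), (681, [1, 0, 4, 0, 1, 0, 4, 0, 1, 0, 1, 0, 4, 0, 4, 0, 4, 0, 1, 0, 1, 0, 1, 0, 1, 0, 4, 0, 4, 0, 4, 0, 4, 0, 4, 0, 1, 0, 1, 0, 1,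 0, 1, 0, 1, 0, 1, 0, 1, 0, 4, 0, 4, 0, 1, 0, 1, 0, 4, 0, 4, 0, 4, 0, 1, 0, 1, 0, 1, 0, 4, 0, 1, 0, 4, 0, 4, 0, 1, 0, 1, 0, 4, 0, 1, 0, 1, 0, 1, 0, 1, 0, 4, 0, 4, 0, 1, 0, 4, 0, 1, 0, 1, 0, 1, 0, 4, 0, 1, 0, 1, 0, 1, 0, 1, 0, 1, 0, 1, 0, 1, 0, 4, 0, 4, 0, 4, 0, 1, 0, 1, 0, 4, 0, 4, 0, 4, 0, 4]), (1812, [4, 0, 1, 0, 4, 0, 1, 0, 1, 0, 4, 0, 4, 0, 1, 0, 1, 0, 4, 0, 1, 0, 1, 0, 1, 0, 1, 0, 4, 0, 4, 0, 1, 0, 1, 0, 1, 0, 4, 0, 4, 0, 4, 0, 1, 0, 1, 0, 1, 0, 4, 0, 4, 0, 1, 0, 1, 0, 4, 0, 1, 0, 4, 0, 4, 0, 4, 0, 4, 0, 4, 0, 4, 0, 1, 0, 4, 0, 4, 0, 1, 0, 4, 0, 1, 0, 4, 0, 4, 0, 4, 0, 4, 0, 4, 0, 1, 0, 4, 0, 1, 0, 4, 0, 1, 0, 1, 0, 1, 0, 4, 0,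 1, 0, 1, 0, 4, 0, 4, 0, 4, 0, 1, 0, 4, 0, 1, 0, 4, 0, 4, 0, 4, 0, 1, 0, 4, 0, 1, 0, 1, 0, 4, 0, 1, 0, 1, 0, 4]), (428, [0, 4, 0, 4, 0, 4, 0, 1, 0, 1, 0, 4, 0, 1, 0, 4, 0, 1, 0, 1, 0, 1, 0, 1, 0, 4, 0, 4, 0, 4, 0, 4, 0, 1, 0, 1, 0, 1, 0, 4, 0, 4, 0, 1, 0, 1, 0, 4, 0, 4, 0, 1, 0, 4, 0, 4, 0, 1, 0, 4, 0, 1, 0, 4, 0, 1, 0, 1, 0, 4, 0, 1, 0, 1, 0, 4, 0, 4, 0, 1, 0, 1, 0, 1, 0, 1, 0, 4, 0, 4, 0, 1, 0, 4, 0, 1, 0, 1, 0, 1, 0, 4, 0, 1, 0, 1, 0, 1, 0, 1, 0, 1, 0, 1, 0, 1, 0, 4, 0, 4, 0, 4, 0, 1, 0, 1, 0, 1, 0, 1, 0, 1, 0, 1, 0, 4, 0, 4, 0, 1, 0, 1, 0, 1, 0, 1, 0, 4, 0, 4, 0, 4, 0, 4, 0, 1, 0, 4, 0, 1, 0, 1, 0, 1, 0, 1, 0, 1, 0, 4, 0, 1, 0,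 1, 0, 4]), (237, [1, 0, 4, 0, 1, 0, 4, 0, 1, 0, 1, 0, 4, 0, 4, 0, 4, 0, 1, 0, 1, 0, 1, 0, 1, 0, 4, 0, 4, 0, 4, 0, 4, 0, 4, 0, 1, 0, 1, 0, 1, 0, 1, 0, 1, 0, 1, 0, 1, 0, 4, 0, 4, 0, 1, 0, 1, 0, 4, 0, 4, 0, 4, 0, 1, 0, 1, 0, 1, 0, 4, 0, 1, 0, 4, 0, 4, 0, 1, 0, 1, 0, 4, 0, 1, 0, 1, 0, 1, 0, 1, 0, 4, 0, 4, 0, 1, 0, 4, 0, 1, 0, 1, 0, 1, 0, 4, 0, 1, 0, 1, 0, 1, 0, 1, 0, 1, 0, 1, 0, 1, 0, 4, 0, 4, 0, 4, 0, 1, 0, 1, 0, 4, 0, 4, 0, 4, 0, 4]), (1196, [0, 1, 0, 1, 0, 4, 0, 4, 0, 4, 0, 1, 0, 1, 0, 4, 0, 1, 0, 4, 0, 1, 0, 4, 0, 4, 0, 4, 0, 4, 0, 4, 0, 4, 0, 4, 0, 4, 0, 4, 0, 4, 0, 1, 0, 1, 0, 4, 0, 4, 0, 1, 0, 1, 0, 4, 0, 1, 0, 4, 0, 4, 0, 4, 0,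 1, 0, 1, 0, 4, 0, 1, 0, 1, 0, 1, 0, 1, 0, 1, 0, 4, 0, 1, 0, 1, 0, 4, 0, 1, 0, 4, 0, 1, 0, 1, 0, 4])],
    [(1367, [0, 1, 0, 1, 0, 1, 0, 1, 0, 4, 0, 4, 0, 4, 0, 4, 0, 1, 0, 1, 0, 4, 0, 4, 0, 4, 0, 4, 0, 4, 0, 4, 0, 4, 0, 1, 0, 1, 0, 4, 0, 4, 0, 4, 0, 4, 0, 1, 0, 4, 0, 1, 0, 4, 0, 4, 0, 1, 0, 4, 0, 4, 0, 4, 0, 4, 0, 1, 0, 4, 0, 1, 0, 4, 0, 4, 0, 1, 0, 1, 0, 1, 0, 4, 0, 4, 0, 4, 0, 1, 0, 4, 0, 4, 0, 4, 0, 4, 0, 4, 0, 1, 0, 1, 0, 1, 0, 1, 0, 1, 0, 4, 0, 4, 0, 4, 0, 4, 0, 4, 0, 4, 0, 4, 0, 1, 0, 1, 0, 1, 0, 1, 0, 4, 0, 4, 0, 4, 0, 4, 0, 4, 0, 1, 0, 1, 0, 1, 0, 1, 0, 1, 0, 1, 0, 1, 0, 1, 0, 4, 0, 4, 0, 1, 0, 4, 0, 4, 0, 4, 0, 1, 0, 4, 0,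 1, 0, 4, 0, 1, 0, 4, 0, 4, 0, 4, 0, 4]), (1096, [0, 4, 0, 1, 0, 4, 0, 1, 0, 4, 0, 1, 0, 1, 0, 1, 0, 4, 0, 1, 0, 1, 0, 4, 0, 4, 0, 1, 0, 1, 0, 4, 0, 4, 0, 1, 0, 1, 0, 1, 0, 1, 0, 1, 0, 1, 0, 4, 0, 4, 0, 4, 0, 1, 0, 4, 0, 4, 0, 1, 0, 4, 0, 4, 0, 4, 0, 1, 0, 1, 0, 1, 0, 1, 0, 1, 0, 1, 0, 1, 0, 4, 0, 4, 0, 4, 0, 4, 0, 1, 0, 4, 0, 1, 0, 1, 0, 4, 0, 1, 0, 4, 0, 1, 0, 1, 0, 4, 0, 1, 0, 1, 0, 1, 0, 1, 0, 4, 0, 4, 0, 1, 0, 1, 0, 4, 0, 4, 0, 4, 0, 4, 0, 4, 0, 1, 0, 1, 0, 1, 0, 1, 0, 4, 0, 4, 0, 4, 0, 4, 0, 4, 0, 1, 0, 4, 0, 4, 0, 1, 0, 1, 0, 1, 0, 1, 0, 4, 0, 4, 0, 4, 0, 4, 0, 1, 0, 4, 0, 1, 0, 1, 0, 1, 0, 1, 0, 1, 0, 4, 0, 1, 0, 1, 0, 4]),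 (175, [1, 0, 1, 0, 1, 0, 4, 0, 4, 0, 1, 0, 1, 0, 1, 0, 4, 0, 4, 0, 1, 0, 1, 0, 4, 0, 4, 0, 4, 0, 4, 0, 1, 0, 4, 0, 4, 0, 4]), (1429, [4, 0, 1, 0, 4, 0, 4, 0, 1, 0, 1, 0, 1, 0, 4, 0, 1, 0, 4, 0, 4, 0, 4, 0, 1, 0, 1, 0, 4, 0, 1, 0, 1, 0, 1, 0, 4, 0, 1, 0, 4, 0, 4, 0, 1, 0, 4, 0, 4, 0, 4, 0, 4, 0, 1, 0, 4, 0, 4, 0, 4, 0, 1, 0, 4, 0, 1, 0, 1, 0, 4, 0, 1, 0, 4, 0, 4, 0, 4, 0, 4, 0, 4, 0, 4, 0, 1, 0, 4, 0, 4, 0, 1, 0, 4, 0, 1, 0, 4, 0, 4, 0, 4, 0, 4, 0, 4, 0, 1, 0, 1, 0, 1, 0, 1, 0, 4, 0, 4, 0, 4, 0, 4, 0, 4, 0, 1, 0, 1, 0, 1, 0, 1, 0, 1, 0, 1, 0, 1, 0, 1, 0, 4, 0, 4, 0, 1, 0, 4, 0, 4, 0, 4, 0, 1, 0, 4, 0, 1, 0, 4, 0, 1, 0, 4, 0, 4, 0, 4,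 0, 4]), (750, [0, 1, 0, 1, 0, 1, 0, 4, 0, 1, 0, 4, 0, 4, 0, 1, 0, 1, 0, 1, 0, 4, 0, 4, 0, 4, 0, 1, 0, 1, 0, 4, 0, 1, 0, 1, 0, 4, 0, 1, 0, 1, 0, 1, 0, 1, 0, 4, 0, 4, 0, 1, 0, 1, 0, 1, 0, 4, 0, 4, 0, 4, 0, 1, 0, 1, 0, 1, 0, 1, 0, 4, 0, 4, 0, 1, 0, 1, 0, 4, 0, 4, 0, 4, 0, 4, 0, 4, 0, 1, 0, 1, 0, 4, 0, 4, 0, 1, 0, 1, 0, 4, 0, 4, 0, 4, 0, 4, 0, 4, 0, 1, 0, 1, 0, 1, 0, 1, 0, 4, 0, 4, 0, 4, 0, 4, 0, 1, 0, 4, 0, 1, 0, 4, 0, 4, 0, 4]), (1489, [1, 0, 4, 0, 1, 0, 1, 0, 4, 0, 1, 0, 4, 0, 4, 0, 4, 0, 4, 0, 4, 0, 1, 0, 1, 0, 4, 0, 4, 0, 4, 0, 4, 0, 4, 0, 1, 0, 1, 0, 4, 0, 4, 0, 4, 0, 4, 0, 1, 0, 4, 0, 4, 0, 1, 0, 4, 0, 4, 0, 1, 0, 4, 0, 4, 0, 4,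 0, 4, 0, 1, 0, 1, 0, 4, 0, 4, 0, 4, 0, 1, 0, 1, 0, 4, 0, 1, 0, 4, 0, 1, 0, 1, 0, 1, 0, 1, 0, 4, 0, 1, 0, 1, 0, 4, 0, 1, 0, 4, 0, 4, 0, 1, 0, 4, 0, 1, 0, 1, 0, 1, 0, 4, 0, 4, 0, 4, 0, 4, 0, 4, 0, 4, 0, 4, 0, 1, 0, 4, 0, 4, 0, 4, 0, 1, 0, 1, 0, 4, 0, 1, 0, 4, 0, 4, 0, 4, 0, 4, 0, 1, 0, 1, 0, 1, 0, 4, 0, 1, 0, 4, 0, 4, 0, 4]), (1152, [0, 1, 0, 1, 0, 4, 0, 1, 0, 4, 0, 1, 0, 4, 0, 4, 0, 1, 0, 1, 0, 4, 0, 4, 0, 4, 0, 4, 0, 1, 0, 1, 0, 4, 0, 4, 0, 4, 0, 1, 0, 1, 0, 1, 0, 4, 0, 1, 0, 1, 0, 1, 0, 1, 0, 4, 0, 4, 0, 1, 0, 1, 0, 1, 0, 4, 0, 1, 0, 1, 0, 1, 0, 1, 0, 4, 0, 4, 0, 4, 0, 1, 0, 1, 0, 4, 0, 4, 0, 4, 0, 1, 0, 1, 0, 1, 0, 4, 0, 1, 0, 4,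 0, 1, 0, 1, 0, 4, 0, 4, 0, 1, 0, 1, 0, 1, 0, 4, 0, 1, 0, 4, 0, 4, 0, 1, 0, 1, 0, 1, 0, 1, 0, 4, 0, 4, 0, 4, 0, 4, 0, 1, 0, 1, 0, 1, 0, 4, 0, 1, 0, 4, 0, 4, 0, 4, 0, 1, 0, 1, 0, 4, 0, 4, 0, 1, 0, 4, 0, 1, 0, 4, 0, 1, 0, 1, 0, 1, 0, 4, 0, 1, 0, 1, 0, 4, 0, 4, 0, 4, 0, 1, 0, 4, 0, 1, 0, 4, 0, 4, 0, 4, 0, 1, 0, 4, 0, 1, 0, 1, 0, 4, 0, 1, 0, 1, 0, 4]), (1489, [1, 0, 4, 0, 1, 0, 1, 0, 4, 0, 1, 0, 1, 0, 1, 0, 4, 0, 1, 0, 1, 0, 1, 0, 4, 0, 4, 0, 4, 0, 4, 0, 4, 0, 4, 0, 1, 0, 1, 0, 1, 0, 1, 0, 1, 0, 1, 0, 4, 0, 4, 0, 4, 0, 1, 0, 4, 0, 1, 0, 1, 0, 4, 0, 4, 0, 1, 0, 1, 0, 4, 0, 4, 0, 1, 0, 4, 0, 4, 0, 4, 0, 4, 0, 1, 0, 1, 0, 4, 0, 4, 0, 4, 0,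 1, 0, 1, 0, 4, 0, 4, 0, 1, 0, 4, 0, 1, 0, 4, 0, 4, 0, 1, 0, 4, 0, 1, 0, 1, 0, 4, 0, 1, 0, 4, 0, 1, 0, 4, 0, 4, 0, 1, 0, 1, 0, 4]), (337, [1, 0, 1, 0, 4, 0, 4, 0, 1, 0, 1, 0, 4, 0, 4, 0, 4, 0, 1, 0, 1, 0, 1, 0, 4, 0, 1, 0, 1, 0, 1, 0, 1, 0, 4, 0, 4, 0, 4, 0, 4, 0, 4, 0, 1, 0, 1, 0, 4, 0, 1, 0, 1, 0, 1, 0, 1, 0, 1, 0, 4, 0, 4, 0, 4, 0, 1, 0, 4, 0, 1, 0, 1, 0, 4, 0, 4, 0, 1, 0, 1, 0, 4, 0, 4, 0, 1, 0, 4, 0, 1, 0, 1, 0, 1, 0, 4, 0, 4, 0, 4, 0, 4, 0, 4, 0, 4, 0, 4, 0, 1, 0, 4, 0, 4, 0, 4, 0, 1, 0, 1, 0, 4, 0, 1, 0, 4, 0, 4, 0, 4, 0, 4, 0, 1, 0, 1, 0, 4, 0, 1, 0, 4, 0, 4, 0, 1, 0, 1, 0, 1, 0, 1, 0, 4, 0, 4, 0, 4, 0, 4, 0, 1, 0, 4, 0, 1,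 0, 1, 0, 1, 0, 1, 0, 1, 0, 4, 0, 1, 0, 1, 0, 4]), (1030, [0, 1, 0, 1, 0, 1, 0, 4, 0, 1, 0, 4, 0, 4, 0, 1, 0, 4, 0, 4, 0, 4, 0, 1, 0, 4, 0, 1, 0, 4, 0, 1, 0, 1, 0, 1, 0, 1, 0, 1, 0, 1, 0, 1, 0, 1, 0, 4, 0, 1, 0, 1, 0, 1, 0, 1, 0, 4, 0, 4, 0, 1, 0, 1, 0, 1, 0, 1, 0, 1, 0, 1, 0, 4, 0, 4, 0, 4, 0, 1, 0, 1, 0, 1, 0, 1, 0, 1, 0, 1, 0, 1, 0, 4, 0, 4, 0, 4, 0, 4, 0, 1, 0, 4, 0, 1, 0, 1, 0, 4, 0, 1, 0, 1, 0, 4, 0, 4, 0, 4, 0, 1, 0, 1, 0, 1, 0, 1, 0, 1, 0, 4, 0, 4, 0, 1, 0, 4, 0, 1, 0, 1, 0, 1, 0, 4, 0, 1, 0, 1, 0, 4, 0, 4, 0, 4, 0, 1, 0, 1, 0, 1, 0, 1, 0, 1, 0, 1]), (2022, [0, 1, 0, 1, 0, 4, 0, 1, 0, 4, 0, 4, 0, 1, 0, 4, 0, 1, 0, 1, 0, 1, 0,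 1, 0, 1, 0, 4, 0, 4, 0, 4, 0, 1, 0, 4, 0, 4, 0, 1, 0, 4, 0, 1, 0, 4, 0, 4, 0, 1, 0, 1, 0, 1, 0, 1, 0, 1, 0, 4, 0, 4, 0, 1, 0, 4, 0, 1, 0, 1, 0, 1, 0, 4, 0, 1, 0, 1, 0, 4, 0, 4, 0, 4, 0, 1, 0, 1, 0, 1, 0, 1, 0, 1, 0, 1, 0, 4, 0, 4, 0, 1, 0, 4, 0, 1, 0, 4, 0, 1, 0, 1, 0, 1, 0, 4, 0, 1, 0, 1, 0, 4, 0, 4, 0, 4, 0, 1, 0, 4, 0, 1, 0, 4, 0, 4, 0, 4, 0, 1, 0, 4, 0, 1, 0, 1, 0, 4, 0, 1, 0, 1, 0, 4])],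
    [(580, [0, 1, 0, 1, 0, 4, 0, 1, 0, 4, 0, 1, 0, 1, 0, 1, 0, 4, 0, 1, 0, 1, 0, 4, 0, 4, 0, 1, 0, 1, 0, 1, 0, 1, 0, 1, 0, 1, 0, 4, 0, 4, 0, 4, 0, 1, 0, 4, 0, 4, 0, 4, 0, 4, 0, 1, 0, 1, 0, 1, 0, 1, 0, 4, 0, 4, 0, 4, 0, 4, 0, 4, 0, 1, 0, 1, 0, 1, 0, 1, 0, 1, 0, 1, 0, 1, 0, 1, 0, 4, 0, 4, 0, 1, 0, 4, 0, 4, 0, 4, 0, 1, 0, 4, 0, 1, 0, 4, 0, 1, 0, 1, 0, 1, 0, 1, 0, 1, 0, 4, 0, 4, 0, 1, 0, 1, 0, 1, 0, 1, 0, 4, 0, 4, 0, 4, 0, 4, 0, 1, 0, 4, 0, 1, 0, 1, 0, 1, 0, 1, 0, 1, 0, 4, 0, 1, 0, 1, 0, 4]), (1239, [4, 0, 4, 0, 4, 0, 1, 0, 1, 0, 1, 0, 1, 0, 4, 0, 1, 0, 4, 0, 1, 0, 1, 0, 1, 0, 1, 0, 1, 0, 4, 0, 1, 0, 4, 0, 4, 0, 1, 0, 4, 0, 1, 0, 4, 0,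 1, 0, 4, 0, 4, 0, 1, 0, 4, 0, 4, 0, 4, 0, 1, 0, 1, 0, 4, 0, 1, 0, 4, 0, 4, 0, 4, 0, 1, 0, 4, 0, 1, 0, 4, 0, 4, 0, 1, 0, 4, 0, 4, 0, 4, 0, 4, 0, 4, 0, 1, 0, 4, 0, 4, 0, 4, 0, 1, 0, 1, 0, 4, 0, 1, 0, 1, 0, 1, 0, 1, 0, 1, 0, 4, 0, 1, 0, 1, 0, 4, 0, 1, 0, 4, 0, 1, 0, 1, 0, 4, 0, 4, 0, 4, 0, 1, 0, 4, 0, 1, 0, 4, 0, 1, 0, 1, 0, 1, 0, 4, 0, 1, 0, 1, 0, 4, 0, 4, 0, 4, 0, 1, 0, 4, 0, 1, 0, 4, 0, 4, 0, 4, 0, 1, 0, 4, 0, 1, 0, 1, 0, 4, 0, 1, 0, 1, 0, 4]), (230, [4, 0, 4, 0, 1, 0, 1, 0, 4, 0, 4, 0, 4, 0, 1, 0, 1, 0, 1, 0, 1, 0, 1, 0, 4, 0, 4, 0, 4, 0, 4, 0, 4, 0, 1, 0, 4, 0, 4, 0, 4, 0, 4, 0, 1, 0, 4, 0, 1, 0, 4, 0, 4, 0, 1, 0, 1, 0, 1, 0, 4,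 0, 4, 0, 4, 0, 1, 0, 4, 0, 4, 0, 4, 0, 4, 0, 4, 0, 1, 0, 1, 0, 1, 0, 1, 0, 1, 0, 4, 0, 4, 0, 4, 0, 4, 0, 1, 0, 1, 0, 4, 0, 4, 0, 1, 0, 4, 0, 1, 0, 1, 0, 4, 0, 1, 0, 4, 0, 1, 0, 1, 0, 1, 0, 1, 0, 4, 0, 1, 0, 1, 0, 1, 0, 1, 0, 4, 0, 1, 0, 1, 0, 4, 0, 1, 0, 1, 0, 1, 0, 4, 0, 4, 0, 1, 0, 1, 0, 1, 0, 1, 0, 4, 0, 4, 0, 4, 0, 4, 0, 1, 0, 4, 0, 1, 0, 1, 0, 1, 0, 1, 0, 1, 0, 4, 0, 1, 0, 1, 0, 4]), (929, [0, 1, 0, 1, 0, 1, 0, 1, 0, 1, 0, 1, 0, 1, 0, 4, 0, 4, 0, 4, 0, 1, 0, 1, 0, 1, 0, 4, 0, 4, 0, 4, 0, 1, 0, 1, 0, 1, 0, 4, 0, 4, 0, 1, 0, 1, 0, 1, 0, 1, 0, 1, 0, 1, 0, 1, 0, 1, 0, 1, 0, 1, 0, 4, 0, 4, 0, 4, 0, 1, 0, 4, 0, 1, 0, 1, 0, 4, 0, 4,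 0, 1, 0, 1, 0, 4, 0, 4, 0, 4, 0, 4, 0, 1, 0, 4, 0, 1, 0, 4, 0, 4, 0, 1, 0, 4, 0, 1, 0, 4, 0, 1, 0, 1, 0, 1, 0, 1, 0, 4, 0, 1, 0, 1, 0, 4, 0, 1, 0, 4, 0, 1, 0, 4, 0, 1, 0, 4, 0, 1]), (135, [1, 0, 4, 0, 1, 0, 4, 0, 1, 0, 4, 0, 4, 0, 1, 0, 4, 0, 1, 0, 1, 0, 1, 0, 1, 0, 1, 0, 1, 0, 1, 0, 1, 0, 1, 0, 1, 0, 1, 0, 1, 0, 4, 0, 4, 0, 4, 0, 1, 0, 4, 0, 1, 0, 1, 0, 4, 0, 4, 0, 1, 0, 1, 0, 4, 0, 4, 0, 4, 0, 4, 0, 4, 0, 4, 0, 1, 0, 1, 0, 1, 0, 4, 0, 1, 0, 4, 0, 1, 0, 1, 0, 4, 0, 1, 0, 1, 0, 1, 0, 1, 0, 4, 0, 4, 0, 1, 0, 4, 0, 1, 0, 4, 0, 1, 0, 4, 0, 4, 0, 1, 0, 1, 0, 1, 0, 1, 0, 4, 0, 4, 0, 4, 0, 1, 0, 4, 0, 1, 0, 4, 0, 1, 0, 1, 0, 1, 0, 1, 0,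 4, 0, 4, 0, 4, 0, 4, 0, 1, 0, 1, 0, 4, 0, 1, 0, 1, 0, 1, 0, 4, 0, 4, 0, 1, 0, 1, 0, 1, 0, 1, 0, 4, 0, 4, 0, 4, 0, 4, 0, 1, 0, 4, 0, 1, 0, 1, 0, 1, 0, 1, 0, 1, 0, 4, 0, 1, 0, 1, 0, 4]), (1469, [4, 0, 4, 0, 4, 0, 4, 0, 1, 0, 1, 0, 1, 0, 1, 0, 4, 0, 1, 0, 1, 0, 1, 0, 1, 0, 4, 0, 4, 0, 4, 0, 1, 0, 4, 0, 4, 0, 4, 0, 4, 0, 4, 0, 4, 0, 4, 0, 4, 0, 4, 0, 4, 0, 4, 0, 1, 0, 1, 0, 4, 0, 4, 0, 1, 0, 1, 0, 1, 0, 4, 0, 1, 0, 4, 0, 1, 0, 1, 0, 1, 0, 1, 0, 1, 0, 4, 0, 4, 0, 4, 0, 4, 0, 1, 0, 1, 0, 4]), (1607, [0, 4, 0, 1, 0, 4, 0, 4, 0, 1, 0, 4, 0, 4, 0, 4, 0, 1, 0, 1, 0, 4, 0, 1, 0, 1, 0, 1, 0, 1, 0, 1, 0, 4, 0, 4, 0, 1, 0, 4, 0, 4, 0, 4, 0, 4, 0,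 4, 0, 4, 0, 4, 0, 1, 0, 1, 0, 4, 0, 4, 0, 1, 0, 4, 0, 1, 0, 4, 0, 4, 0, 1, 0, 1, 0, 4, 0, 4, 0, 4, 0, 4, 0, 4, 0, 4, 0, 1, 0, 1, 0, 1, 0, 4, 0, 1, 0, 4, 0, 1, 0, 1, 0, 4, 0, 1, 0, 1, 0, 1, 0, 1, 0, 4, 0, 4, 0, 1, 0, 4, 0, 1, 0, 4, 0, 1, 0, 4, 0, 4, 0, 1, 0, 1, 0, 1, 0, 1, 0, 4, 0, 4, 0, 4, 0, 1, 0, 4, 0, 1, 0, 4, 0, 1, 0, 1, 0, 1, 0, 1, 0, 4, 0, 4, 0, 4, 0, 1]), (1338, [4, 0, 1, 0, 4, 0, 1, 0, 1, 0, 4, 0, 1, 0, 4, 0, 4, 0, 1, 0, 4, 0, 1, 0, 1, 0, 4, 0, 1, 0, 4, 0, 1, 0, 4, 0, 4, 0, 4, 0, 4, 0, 4, 0, 4, 0, 4, 0, 4, 0, 4, 0, 4, 0, 1, 0, 1, 0, 4, 0, 4, 0, 4, 0, 4, 0, 4, 0, 4, 0, 1, 0, 1, 0, 1, 0, 4, 0, 4, 0, 4, 0, 1, 0, 4, 0, 4, 0, 4,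 0, 4, 0, 4, 0, 1, 0, 1, 0, 1, 0, 1, 0, 1, 0, 4, 0, 1, 0, 1, 0, 1, 0, 1, 0, 1, 0, 4, 0, 4, 0, 1, 0, 4, 0, 1, 0, 1, 0, 1, 0, 4, 0, 1, 0, 1, 0, 1, 0, 1, 0, 1, 0, 1, 0, 1, 0, 4, 0, 4, 0, 4, 0, 1, 0, 1, 0, 1, 0, 1, 0, 1, 0, 1, 0, 4, 0, 4, 0, 1, 0, 1, 0, 1, 0, 1, 0, 4, 0, 4, 0, 4, 0, 4, 0, 1, 0, 4, 0, 1, 0, 1, 0, 1, 0, 1, 0, 1, 0, 4, 0, 1, 0, 1, 0, 4]), (0, []), (1591, [1, 0, 4, 0, 4, 0, 1, 0, 1, 0, 1, 0, 4, 0, 1, 0, 4, 0, 1, 0, 1, 0, 1, 0, 4, 0, 4, 0, 1, 0, 1, 0, 4, 0, 1, 0, 4, 0, 1, 0, 1, 0, 4, 0, 4, 0, 4, 0, 4, 0, 1, 0, 4, 0, 1, 0, 1, 0, 4, 0, 1, 0, 1, 0, 1, 0, 4, 0, 4, 0, 4, 0, 4, 0, 4, 0, 4, 0, 4, 0, 1, 0, 4, 0, 4, 0, 4, 0, 1, 0, 1,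 0, 4, 0, 1, 0, 4, 0, 4, 0, 4, 0, 4, 0, 1, 0, 1, 0, 4, 0, 1, 0, 4, 0, 4, 0, 1, 0, 1, 0, 1, 0, 1, 0, 4, 0, 4, 0, 4, 0, 4, 0, 1, 0, 4, 0, 1, 0, 1, 0, 1, 0, 1, 0, 1, 0, 4, 0, 1, 0, 1, 0, 4]), (1222, [0, 4, 0, 1, 0, 4, 0, 4, 0, 4, 0, 1, 0, 4, 0, 4, 0, 4, 0, 4, 0, 4, 0, 4, 0, 4, 0, 1, 0, 1, 0, 1, 0, 1, 0, 1, 0, 4, 0, 4, 0, 1, 0, 4, 0, 1, 0, 4, 0, 4, 0, 1, 0, 4, 0, 1, 0, 4, 0, 1, 0, 1, 0, 4, 0, 1, 0, 1, 0, 1, 0, 4, 0, 4, 0, 1, 0, 4, 0, 4, 0, 1, 0, 1, 0, 1, 0, 4, 0, 1, 0, 4, 0, 4, 0, 1, 0, 1, 0, 1, 0, 1, 0, 4, 0, 4, 0, 4, 0, 4, 0, 1, 0, 1, 0, 1, 0, 4, 0, 1, 0, 4, 0, 4, 0, 4, 0, 1, 0, 1, 0, 4, 0, 4, 0, 1, 0, 4, 0, 1, 0, 4, 0, 1, 0, 1, 0, 1,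 0, 4, 0, 1, 0, 1, 0, 4, 0, 4, 0, 4, 0, 1, 0, 4, 0, 1, 0, 4, 0, 4, 0, 4, 0, 1, 0, 4, 0, 1, 0, 1, 0, 4, 0, 1, 0, 1, 0, 4]), (1918, [0, 4, 0, 1, 0, 4, 0, 4, 0, 1, 0, 1, 0, 1, 0, 1, 0, 4, 0, 4, 0, 1, 0, 4, 0, 1, 0, 4, 0, 1, 0, 4, 0, 4, 0, 4, 0, 4, 0, 4, 0, 1, 0, 4, 0, 1, 0, 4, 0, 4, 0, 4, 0, 1, 0, 4, 0, 4, 0, 1, 0, 1, 0, 4, 0, 1, 0, 1, 0, 1, 0, 4, 0, 4, 0, 4, 0, 1, 0, 1, 0, 4, 0, 4, 0, 4, 0, 1, 0, 1, 0, 1, 0, 1, 0, 4, 0, 1, 0, 1, 0, 4, 0, 1, 0, 4, 0, 1, 0, 4, 0, 1, 0, 4, 0, 4, 0, 4]), (66, [1, 0, 4, 0, 4, 0, 1, 0, 1, 0, 4, 0, 4, 0, 4, 0, 1, 0, 1, 0, 4, 0, 4, 0, 1, 0, 4, 0, 4, 0, 1, 0, 1, 0, 1, 0, 1, 0, 4, 0, 4, 0, 4, 0, 4, 0, 4, 0, 4,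 0, 4, 0, 1, 0, 1, 0, 4, 0, 4, 0, 1, 0, 1, 0, 4, 0, 1, 0, 1, 0, 4, 0, 1, 0, 4, 0, 4, 0, 4, 0, 4, 0, 4, 0, 4, 0, 1, 0, 4, 0, 4, 0, 1, 0, 4, 0, 1, 0, 4, 0, 4, 0, 1, 0, 1, 0, 4, 0, 4, 0, 1, 0, 1, 0, 4, 0, 4, 0, 4, 0, 1, 0, 1, 0, 4, 0, 4, 0, 4, 0, 1, 0, 1, 0, 1, 0, 4, 0, 4, 0, 4, 0, 1, 0, 4, 0, 1, 0, 4, 0, 4, 0, 1, 0, 4, 0, 1, 0, 4, 0, 1, 0, 1, 0, 1, 0, 4, 0, 1, 0, 1, 0, 4, 0, 4, 0, 4, 0, 1, 0, 4, 0, 1, 0, 4, 0, 4, 0, 4, 0, 1, 0, 4, 0, 1, 0, 1, 0, 4, 0, 1, 0, 1, 0, 4]), (135, [1, 0, 4, 0, 1, 0, 4, 0, 1, 0, 4, 0, 4, 0, 1, 0, 4, 0, 1, 0, 1, 0, 1, 0, 1, 0, 1, 0, 1, 0, 1, 0, 1, 0, 1, 0, 1, 0, 1, 0, 1, 0, 4, 0, 4, 0, 4, 0, 1, 0, 4, 0, 1, 0,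 1, 0, 4, 0, 4, 0, 1, 0, 1, 0, 4, 0, 4, 0, 4, 0, 4, 0, 4, 0, 4, 0, 1, 0, 1, 0, 1, 0, 4, 0, 1, 0, 4, 0, 1, 0, 1, 0, 4, 0, 1, 0, 1, 0, 1, 0, 1, 0, 4, 0, 4, 0, 1, 0, 4, 0, 1, 0, 4, 0, 1, 0, 4, 0, 4, 0, 1, 0, 1, 0, 1, 0, 1, 0, 4, 0, 4, 0, 4, 0, 1, 0, 4, 0, 1, 0, 4, 0, 1, 0, 1, 0, 1, 0, 1, 0, 4, 0, 4, 0, 4, 0, 4, 0, 1, 0, 1, 0, 4, 0, 1, 0, 1, 0, 1, 0, 4, 0, 4, 0, 1, 0, 1, 0, 1, 0, 1, 0, 4, 0, 4, 0, 4, 0, 4, 0, 1, 0, 4, 0, 1, 0, 1, 0, 1, 0, 1, 0, 1, 0, 4, 0, 1, 0, 1, 0, 4]), (1338, [4, 0, 1, 0, 4, 0, 1, 0, 1, 0, 4, 0, 1, 0, 4, 0, 4, 0, 1, 0, 4, 0, 1, 0, 1, 0, 4, 0, 1, 0, 4, 0, 1, 0, 4, 0, 4, 0, 4, 0, 4, 0, 4, 0, 4, 0, 4, 0, 4, 0, 4, 0, 4,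 0, 1, 0, 1, 0, 4, 0, 4, 0, 4, 0, 4, 0, 4, 0, 4, 0, 1, 0, 1, 0, 1, 0, 4, 0, 4, 0, 4, 0, 1, 0, 4, 0, 4, 0, 4, 0, 4, 0, 4, 0, 1, 0, 1, 0, 1, 0, 1, 0, 1, 0, 4, 0, 1, 0, 1, 0, 1, 0, 1, 0, 1, 0, 4, 0, 4, 0, 1, 0, 4, 0, 1, 0, 1, 0, 1, 0, 4, 0, 1, 0, 1, 0, 1, 0, 1, 0, 1, 0, 1, 0, 1, 0, 4, 0, 4, 0, 4, 0, 1, 0, 1, 0, 1, 0, 1, 0, 1, 0, 1, 0, 4, 0, 4, 0, 1, 0, 1, 0, 1, 0, 1, 0, 4, 0, 4, 0, 4, 0, 4, 0, 1, 0, 4, 0, 1, 0, 1, 0, 1, 0, 1, 0, 1, 0, 4, 0, 1, 0, 1, 0, 4])],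
    [(376, [4, 0, 4, 0, 1, 0, 1, 0, 1, 0, 4, 0, 1, 0, 4, 0, 4, 0, 1, 0, 1, 0, 1, 0, 4, 0, 4, 0, 4, 0, 1, 0, 4, 0, 4, 0, 1, 0, 4, 0, 4, 0, 4, 0, 1, 0, 1, 0, 1, 0, 1, 0, 1, 0, 1, 0, 1, 0, 4, 0, 4, 0, 4, 0, 4, 0, 1, 0, 4, 0, 1, 0, 1, 0, 4, 0, 1, 0, 4, 0, 1, 0, 4, 0, 1, 0, 1, 0, 1, 0, 4, 0, 4, 0, 4, 0, 4, 0, 4, 0, 1, 0, 4, 0, 1, 0, 1, 0, 1, 0, 1, 0, 4, 0, 4, 0, 1, 0, 1, 0, 1, 0, 4, 0, 1, 0, 1, 0, 1, 0, 4, 0, 1, 0, 4, 0, 4, 0, 4, 0, 4, 0, 4, 0, 1, 0, 4, 0, 1, 0, 4, 0, 1, 0, 1, 0, 1, 0, 4, 0, 1, 0, 1, 0, 4, 0, 4, 0, 4, 0, 1, 0, 4, 0, 1, 0, 4, 0, 4, 0, 4, 0, 1, 0, 4, 0, 1, 0, 1, 0, 4, 0, 1, 0, 1, 0, 4]), (529, [0, 1, 0, 1, 0, 4, 0, 1, 0,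 4, 0, 4, 0, 1, 0, 1, 0, 4, 0, 1, 0, 4, 0, 1, 0, 1, 0, 4, 0, 1, 0, 4, 0, 4, 0, 1, 0, 4, 0, 4, 0, 1, 0, 1, 0, 4, 0, 1, 0, 1, 0, 1, 0, 4, 0, 4, 0, 1, 0, 1, 0, 4, 0, 1, 0, 1, 0, 4, 0, 4, 0, 4, 0, 1, 0, 1, 0, 4, 0, 4, 0, 4, 0, 1, 0, 1, 0, 1, 0, 4, 0, 4, 0, 4, 0, 1, 0, 4, 0, 1]), (1320, [0, 1, 0, 1, 0, 4, 0, 1, 0, 4, 0, 1, 0, 1, 0, 4, 0, 1, 0, 4, 0, 4, 0, 4, 0, 4, 0, 1, 0, 4, 0, 1, 0, 1, 0, 4, 0, 4, 0, 4, 0, 1, 0, 4, 0, 1, 0, 1, 0, 1, 0, 1, 0, 1, 0, 1, 0, 1, 0, 4, 0, 4, 0, 4, 0, 4, 0, 1, 0, 4, 0, 1, 0, 1, 0, 4, 0, 1, 0, 1, 0, 1, 0, 4, 0, 1, 0, 1, 0, 1, 0, 1, 0, 4, 0, 4, 0, 1, 0, 4, 0, 1, 0, 4, 0, 1, 0, 4, 0, 4, 0, 1, 0, 1, 0, 1, 0, 1, 0,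 4, 0, 4, 0, 4, 0, 1, 0, 4, 0, 1, 0, 4, 0, 1, 0, 1, 0, 1, 0, 1, 0, 4, 0, 4, 0, 4, 0, 1, 0, 4, 0, 4, 0, 1, 0, 4, 0, 1, 0, 4, 0, 1, 0, 1, 0, 1, 0, 4, 0, 1, 0, 1, 0, 4, 0, 4, 0, 4, 0, 1, 0, 4, 0, 1, 0, 4, 0, 4, 0, 4, 0, 1, 0, 4, 0, 1, 0, 1, 0, 4, 0, 1, 0, 1, 0, 4]), (800, [0, 1, 0, 4, 0, 4, 0, 4, 0, 4, 0, 1, 0, 1, 0, 1, 0, 1, 0, 1, 0, 4, 0, 1, 0, 1, 0, 1, 0, 4, 0, 4, 0, 1, 0, 4, 0, 4, 0, 4, 0, 1, 0, 1, 0, 1, 0, 4, 0, 4, 0, 1, 0, 1, 0, 4, 0, 1, 0, 4, 0, 4, 0, 4, 0, 1, 0, 4, 0, 1, 0, 1, 0, 4, 0, 1, 0, 4, 0, 4, 0, 4, 0, 4, 0, 4, 0, 1, 0, 4, 0, 1, 0, 4, 0, 4, 0, 4, 0, 1, 0, 4, 0, 4, 0, 1, 0, 4, 0, 1, 0, 4, 0, 1, 0, 1, 0, 4, 0, 1, 0, 1, 0,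 1, 0, 1, 0, 4, 0, 4, 0, 1, 0, 4, 0, 1, 0, 1, 0, 1, 0, 4, 0, 1, 0, 1, 0, 1, 0, 1, 0, 1, 0, 1, 0, 1, 0, 4, 0, 4, 0, 4, 0, 1, 0, 1, 0, 1, 0, 1, 0, 1, 0, 1, 0, 4, 0, 4, 0, 1, 0, 1, 0, 1, 0, 1, 0, 4, 0, 4, 0, 4, 0, 4, 0, 1, 0, 4, 0, 1, 0, 1, 0, 1, 0, 1, 0, 1, 0, 4, 0, 1, 0, 1, 0, 4]), (800, [0, 1, 0, 4, 0, 4, 0, 4, 0, 4, 0, 1, 0, 1, 0, 1, 0, 1, 0, 1, 0, 4, 0, 1, 0, 1, 0, 1, 0, 4, 0, 4, 0, 1, 0, 4, 0, 4, 0, 4, 0, 1, 0, 1, 0, 1, 0, 4, 0, 4, 0, 1, 0, 1, 0, 4, 0, 1, 0, 4, 0, 4, 0, 4, 0, 1, 0, 4, 0, 1, 0, 1, 0, 4, 0, 1, 0, 4, 0, 4, 0, 4, 0, 4, 0, 4, 0, 1, 0, 4, 0, 1, 0, 4, 0, 4, 0, 4, 0, 1, 0, 4, 0, 4, 0, 1, 0, 4, 0, 1, 0, 4, 0, 1, 0, 1, 0,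 4, 0, 1, 0, 1, 0, 1, 0, 1, 0, 4, 0, 4, 0, 1, 0, 4, 0, 1, 0, 1, 0, 1, 0, 4, 0, 1, 0, 1, 0, 1, 0, 1, 0, 1, 0, 1, 0, 1, 0, 4, 0, 4, 0, 4, 0, 1, 0, 1, 0, 1, 0, 1, 0, 1, 0, 1, 0, 4, 0, 4, 0, 1, 0, 1, 0, 1, 0, 1, 0, 4, 0, 4, 0, 4, 0, 4, 0, 1, 0, 4, 0, 1, 0, 1, 0, 1, 0, 1, 0, 1, 0, 4, 0, 1, 0, 1, 0, 4]), (1248, [0, 1, 0, 1, 0, 1, 0, 4, 0, 1, 0, 4, 0, 4, 0, 1, 0, 1, 0, 4, 0, 1, 0, 4, 0, 4, 0, 1, 0, 1, 0, 1, 0, 4, 0, 4, 0, 1, 0, 1, 0, 4, 0, 4, 0, 1, 0, 1, 0, 4, 0, 1, 0, 4, 0, 4, 0, 4, 0, 4, 0, 4, 0, 4, 0, 1, 0, 1, 0, 4, 0, 4, 0, 4, 0, 4, 0, 4, 0, 4, 0, 1, 0, 1, 0, 1, 0, 4, 0, 1, 0, 4, 0, 4, 0, 4, 0, 4, 0, 1, 0, 4, 0, 1, 0, 4, 0, 4, 0, 1, 0,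 4, 0, 1, 0, 4, 0, 1, 0, 1, 0, 1, 0, 1, 0, 4, 0, 1, 0, 1, 0, 4, 0, 1, 0, 4, 0, 1, 0, 4, 0, 1, 0, 4, 0, 1, 0, 4, 0, 4, 0, 1, 0, 4, 0, 1, 0, 4, 0, 1, 0, 1, 0, 1, 0, 4, 0, 1, 0, 1, 0, 4, 0, 4, 0, 4, 0, 1, 0, 4, 0, 1, 0, 4, 0, 4, 0, 4, 0, 1, 0, 4, 0, 1, 0, 1, 0, 4, 0, 1, 0, 1, 0, 4]), (800, [0, 1, 0, 4, 0, 4, 0, 4, 0, 4, 0, 1, 0, 1, 0, 1, 0, 1, 0, 1, 0, 4, 0, 1, 0, 1, 0, 1, 0, 4, 0, 4, 0, 1, 0, 4, 0, 4, 0, 4, 0, 1, 0, 1, 0, 1, 0, 4, 0, 4, 0, 1, 0, 1, 0, 4, 0, 1, 0, 4, 0, 4, 0, 4, 0, 1, 0, 4, 0, 1, 0, 1, 0, 4, 0, 1, 0, 4, 0, 4, 0, 4, 0, 4, 0, 4, 0, 1, 0, 4, 0, 1, 0, 4, 0, 4, 0, 4, 0, 1, 0, 4, 0, 4, 0, 1, 0, 4, 0, 1, 0, 4, 0, 1, 0, 1, 0,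 4, 0, 1, 0, 1, 0, 1, 0, 1, 0, 4, 0, 4, 0, 1, 0, 4, 0, 1, 0, 1, 0, 1, 0, 4, 0, 1, 0, 1, 0, 1, 0, 1, 0, 1, 0, 1, 0, 1, 0, 4, 0, 4, 0, 4, 0, 1, 0, 1, 0, 1, 0, 1, 0, 1, 0, 1, 0, 4, 0, 4, 0, 1, 0, 1, 0, 1, 0, 1, 0, 4, 0, 4, 0, 4, 0, 4, 0, 1, 0, 4, 0, 1, 0, 1, 0, 1, 0, 1, 0, 1, 0, 4, 0, 1, 0, 1, 0, 4])],
    [(0, []), (0, []), (0, []), (1088, [1, 0, 1, 0, 1, 0, 1, 0, 4, 0, 4, 0, 4, 0, 1, 0, 4, 0, 4, 0, 1, 0, 1, 0, 1, 0, 4, 0, 4, 0, 4, 0, 4, 0, 1, 0, 1, 0, 1, 0, 4, 0, 4, 0, 4, 0, 4, 0, 1, 0, 1, 0, 4, 0, 4, 0, 4, 0, 1, 0, 1, 0, 4, 0, 1, 0, 4, 0, 1, 0, 1, 0, 1, 0, 1, 0, 4, 0, 1, 0, 1, 0, 4, 0, 1, 0, 4, 0, 1, 0, 4, 0, 4, 0, 1, 0, 1, 0, 1, 0,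 1, 0, 4, 0, 4, 0, 4, 0, 4, 0, 4, 0, 1, 0, 1, 0, 1, 0, 1, 0, 1, 0, 1, 0, 1, 0, 1, 0, 4, 0, 4, 0, 1, 0, 4, 0, 4, 0, 4, 0, 1, 0, 4, 0, 1, 0, 4, 0, 1, 0, 4, 0, 4, 0, 4, 0, 4]), (0, []), (1870, [4, 0, 4, 0, 4, 0, 1, 0, 1, 0, 4, 0, 4, 0, 1, 0, 1, 0, 1, 0, 1, 0, 4, 0, 1, 0, 4, 0, 4, 0, 4, 0, 4, 0, 4, 0, 4, 0, 4, 0, 4, 0, 4, 0, 1, 0, 1, 0, 4, 0, 4, 0, 1, 0, 1, 0, 4, 0, 1, 0, 4, 0, 1, 0, 4, 0, 4, 0, 1, 0, 4, 0, 1, 0, 4, 0, 1, 0, 1, 0, 4, 0, 1, 0, 1, 0, 1, 0, 1, 0, 4, 0, 1, 0, 4, 0, 1, 0, 4, 0, 4, 0, 1, 0, 4, 0, 1, 0, 4, 0, 1, 0, 1, 0, 1, 0, 1, 0, 4, 0, 1, 0, 1, 0, 4, 0, 1, 0, 4, 0, 1, 0, 4, 0, 1, 0, 4, 0, 1, 0, 4, 0, 4, 0, 1, 0, 4, 0, 1, 0,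 4, 0, 1, 0, 1, 0, 1, 0, 4, 0, 1, 0, 1, 0, 4, 0, 4, 0, 4, 0, 1, 0, 4, 0, 1, 0, 4, 0, 4, 0, 4, 0, 1, 0, 4, 0, 1, 0, 1, 0, 4, 0, 1, 0, 1, 0, 4]), (260, [0, 4, 0, 1, 0, 1, 0, 1, 0, 4, 0, 1, 0, 1, 0, 1, 0, 1, 0, 4, 0, 4, 0, 4, 0, 1, 0, 4, 0, 4, 0, 4, 0, 1, 0, 1, 0, 4, 0, 4, 0, 4, 0, 4, 0, 1, 0, 4, 0, 4, 0, 1, 0, 4, 0, 4, 0, 1, 0, 4, 0, 1, 0, 4, 0, 1, 0, 4, 0, 4, 0, 1, 0, 4, 0, 1, 0, 4, 0, 1, 0, 1, 0, 4, 0, 1, 0, 1, 0, 1, 0, 4, 0, 1, 0, 1, 0, 4, 0, 4, 0, 1, 0, 4, 0, 4, 0, 4, 0, 4, 0, 1, 0, 4, 0, 1, 0, 4, 0, 4, 0, 1, 0, 4, 0, 1, 0, 1, 0, 1, 0, 1, 0, 4, 0, 1, 0, 1, 0, 4, 0, 1, 0, 1, 0, 1, 0, 4, 0, 4, 0, 1, 0, 1, 0, 1, 0, 1, 0, 4, 0, 4, 0,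 4, 0, 4, 0, 1, 0, 4, 0, 1, 0, 1, 0, 1, 0, 1, 0, 1, 0, 4, 0, 1, 0, 1, 0, 4]), (0, []), (1610, [1, 0, 1, 0, 4, 0, 1, 0, 1, 0, 1, 0, 1, 0, 1, 0, 1, 0, 4, 0, 4, 0, 1, 0, 1, 0, 1, 0, 4, 0, 1, 0, 1, 0, 1, 0, 1, 0, 1, 0, 1, 0, 1, 0, 4, 0, 4, 0, 4, 0, 1, 0, 4, 0, 4, 0, 1, 0, 4, 0, 4, 0, 4, 0, 1, 0, 1, 0, 1, 0, 1, 0, 1, 0, 1, 0, 1, 0, 4, 0, 4, 0, 4, 0, 4, 0, 1, 0, 4, 0, 1, 0, 1, 0, 4, 0, 4, 0, 4, 0, 4, 0, 1, 0, 4, 0, 4, 0, 4, 0, 4, 0, 1, 0, 4, 0, 1, 0, 4, 0, 4, 0, 1, 0, 4, 0, 1, 0, 1, 0, 1, 0, 1, 0, 1, 0, 4, 0, 4, 0, 1, 0, 4, 0, 1, 0, 4, 0, 1, 0, 1, 0, 1, 0, 4, 0, 1, 0, 1, 0, 4, 0, 4, 0, 4, 0, 1, 0, 4, 0, 1, 0, 4, 0, 4, 0, 4, 0, 1, 0, 4, 0,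 1, 0, 1, 0, 4, 0, 1, 0, 1, 0, 4]), (580, [0, 1, 0, 1, 0, 4, 0, 1, 0, 4, 0, 1, 0, 1, 0, 1, 0, 4, 0, 1, 0, 1, 0, 4, 0, 1, 0, 1, 0, 4, 0, 4, 0, 4, 0, 1, 0, 4, 0, 1, 0, 4, 0, 4, 0, 1, 0, 1, 0, 1, 0, 4, 0, 4, 0, 4, 0, 1, 0, 1, 0, 4, 0, 4, 0, 1, 0, 1, 0, 4, 0, 4, 0, 1, 0, 4, 0, 1, 0, 1, 0, 1, 0, 4, 0, 4, 0, 4, 0, 1, 0, 4, 0, 1, 0, 4, 0, 4, 0, 4, 0, 4, 0, 1, 0, 4, 0, 1, 0, 4, 0, 4, 0, 1, 0, 4, 0, 1, 0, 1, 0, 1, 0, 1, 0, 4, 0, 1, 0, 1, 0, 4, 0, 1, 0, 1, 0, 1, 0, 4, 0, 4, 0, 1, 0, 1, 0, 1, 0, 1, 0, 4, 0, 4, 0, 4, 0, 4, 0, 1, 0, 4, 0, 1, 0, 1, 0, 1, 0, 1, 0, 1, 0, 4, 0, 1, 0, 1, 0, 4])],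
    [(55, [4, 0, 4, 0, 4, 0, 4, 0, 1, 0, 1, 0, 4, 0, 1, 0, 4, 0, 4, 0, 4, 0, 1, 0, 1, 0, 4, 0, 1, 0, 1, 0, 4, 0, 4, 0, 1, 0, 1, 0, 1, 0, 1, 0, 1, 0, 4, 0, 4, 0, 4, 0, 4, 0, 4, 0, 4, 0, 1, 0, 4, 0, 1, 0, 1, 0, 4, 0, 1, 0, 4, 0, 4, 0, 4, 0, 4, 0, 1, 0, 4, 0, 4, 0, 4, 0, 1, 0, 1, 0, 4, 0, 1, 0, 4, 0, 4, 0, 4, 0, 1, 0, 1, 0, 1, 0, 4, 0, 4, 0, 1, 0, 1, 0, 1, 0, 1, 0, 4, 0, 4, 0, 4, 0, 4, 0, 1, 0, 4, 0, 1, 0, 1, 0, 1, 0, 1, 0, 1, 0, 4, 0, 1, 0, 1, 0, 4]), (0, []), (1650, [0, 1, 0, 4, 0, 4, 0, 4, 0, 4, 0, 1, 0, 1, 0, 4, 0, 4, 0, 4, 0, 1, 0, 4, 0, 4, 0, 4, 0, 1, 0, 1, 0, 1, 0, 4, 0, 4, 0, 1, 0, 4, 0, 4, 0, 1, 0, 1, 0, 1, 0, 4, 0, 4, 0, 1,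 0, 4, 0, 4, 0, 1, 0, 4, 0, 1, 0, 1, 0, 1, 0, 1, 0, 1, 0, 4, 0, 4, 0, 4, 0, 4, 0, 1, 0, 1, 0, 1, 0, 4, 0, 4, 0, 4, 0, 1, 0, 1, 0, 1, 0, 4, 0, 4, 0, 4, 0, 1, 0, 1, 0, 4, 0, 4, 0, 4, 0, 1, 0, 1, 0, 1, 0, 1, 0, 4, 0, 1, 0, 1, 0, 4, 0, 1, 0, 4, 0, 4, 0, 1, 0, 4, 0, 4, 0, 1, 0, 1, 0, 1, 0, 1, 0, 4, 0, 4, 0, 4, 0, 4, 0, 1, 0, 4, 0, 1, 0, 1, 0, 1, 0, 1, 0, 1, 0, 4, 0, 1, 0, 1, 0, 4])]]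

/-- Packed permutations of the first generators. -/
def hPacks : List (List Nat) :=
  [[0x8cc89b32e24183252e8f1b8153c1a5, 0x65aa3b92284b8135bd42936872c026, 0x9daa561e22538d75a5f020072a202d],
    [0x858c140eb75101449d6d788b19b992, 0xbdab49ca307b9ac5a928398a418820, 0x6964715403622ef204cea26cb84d51, 0x22ae5181c67c12c45a533c6825d42d, 0x2b835482cf329171c57281c549b08d, 0xa1f2ac0ea594c3101c46b276bd131],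
    [0xbdab49ca307b9ac5a928398a418820, 0xac022992924dcb6545c033d8742da3, 0x56c68be6b928288384c1d0853a5b7, 0x491ca80176a5c7241e616959111aaf],
    [0xbdab49ca307b9ac5a928398a418820, 0xbdab44822e5410c1be6d39822590b2, 0x5c655820613bc579d1c4302ca69589, 0x1d4111356fa060649c8ebc98542ad3, 0xbdab49ca307b9ac5a928398a418820, 0xbdab49ca307b9ac5a928398a418820, 0xa8ef209cc2690abb4dea0452e64114, 0xbdab49ca307b9ac5a928398a418820, 0xbdab49ca307b9ac5a928398a418820, 0xa38f0305895cea42caf1158687b40a, 0x8a493a28465dd0793ecd654302b803],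
    [0x31e211a49555c0543db3b09905ba92, 0x98e54b289505dec3a611408ab73426, 0x73e0148c95b5d0501e6d5099191a8b, 0xbdab49ca307b9ac5a928398a418820, 0xbdab49ca307b9ac5a928398a418820, 0x5b24f15d230808aa9626a22d3834ee],
    [0xbdab49ca307b9ac5a928398a418820, 0xbdab49ca307b9ac5a928398a418820, 0xbdab49ca307b9ac5a928398a418820, 0x72af45b6243d4b36213601a421c02f, 0xbdab49ca307b9ac5a928398a418820, 0x6c24e7d4b69d2e0491660a22a10cec, 0x88ee57d1c49d6404d96a089a6440ec, 0xbdab49ca307b9ac5a928398a418820, 0x6acb133a471d2a283153b02ef0a488, 0x850d64a0576106f016720d54e6c4eb],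
    [0xa256e03cd31d62a648961411769427, 0xbdab49ca307b9ac5a928398a418820, 0xa922c2c2563d1777193343c4a081a3]]

/-- Bases of the intersections with the normal subgroup. -/
def hSpans : List (List Nat) :=
  [[1, 2, 4, 8, 16, 32, 64, 128, 256, 512, 1024],
    [3, 13, 17, 37, 65, 132, 256, 517, 1024],
    [6, 25, 105, 170, 256, 552, 1032],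
    [3, 172, 349, 1061],
    [744],
    [],
    []]

/-- Stabiliser chains: base points and words in the generators. -/
def hChains : List (List (Nat × List (List Nat))) :=
  [[],
    [(0, [[], [0], [2], [3], [0, 0], [2, 0], [5, 0], [3, 2], [4, 2], [5, 2], [2, 3], [3, 3], [4, 3], [5, 3], [0, 0, 0], [3, 0, 0], [4, 2, 0], [5, 2, 0], [5, 5, 0], [0, 3, 2], [5, 3, 2], [2, 5, 2], [0, 5, 3], [5, 5, 3]]),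
      (1, [[], [3, 0], [4, 0], [0, 4], [2, 5], [3, 0, 3, 0], [4, 0, 3, 0], [0, 3, 3, 0], [0, 4, 3, 0], [4, 0, 4, 0], [2, 5, 4, 0], [4, 3, 3, 3], [0, 4, 0, 4], [3, 2, 0, 5], [5, 2, 4, 2, 0], [3, 5, 2, 5, 2]]),
      (2, [[], [5, 5, 5, 0], [4, 0, 0, 4], [4, 3, 3, 4], [0, 2, 3, 0, 2], [2, 4, 4, 3, 2], [2, 4, 3, 4, 2], [3, 4, 2, 3, 5]]),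
      (3, [[], [2, 3, 5, 3, 4, 0], [0, 3, 5, 3, 4, 2], [4, 3, 4, 3, 4, 4], [0, 0, 5, 4, 2, 3, 0], [4, 3, 2, 5, 4, 4, 0], [5, 0, 3, 2, 5, 5, 4]]),
      (6, [[], [5, 4, 3, 5, 3, 0, 4, 0], [0, 4, 0, 5, 5, 5, 4, 0]])],
    [(0, [[], [1], [2], [3], [1, 1], [2, 1], [3, 1], [1, 2], [3, 2], [2, 3], [3, 3], [2, 1, 1], [3, 1, 1], [1, 2, 1], [3, 2, 1], [1, 3, 1], [2, 1, 2], [3, 1, 2], [3, 3, 2], [1, 2, 3], [3, 3, 3], [3, 1, 2, 1], [2, 1, 3, 1], [2, 3, 3, 2]]),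
      (1, [[], [1, 1, 1], [3, 2, 3], [3, 3, 2, 1, 1], [1, 3, 1, 3, 1], [2, 1, 3, 1, 2], [2, 3, 3, 1, 2], [2, 1, 1, 3, 2], [2, 3, 1, 1, 3], [1, 1, 1, 1, 1, 1], [3, 2, 3, 1, 1, 1], [3, 2, 1, 1, 2, 1], [3, 2, 1, 3, 3, 1], [3, 1, 1, 2, 1, 2], [3, 1, 3, 3, 1, 3], [3, 2, 3, 3, 2, 3], [1, 1, 3, 1, 3, 1, 1], [1, 2, 3, 3, 1, 2, 1], [3, 3, 1, 1, 3, 2, 1], [3, 3, 1, 3, 3, 3, 1]]),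
      (2, [[], [3, 3, 2, 1, 1, 1, 1, 1], [1, 2, 3, 1, 1, 3, 1, 1]]),
      (3, [[], [3, 1, 3, 3, 2, 3, 1], [2, 3, 1, 3, 1, 3, 1, 2]]),
      (4, [[], [3, 2, 3, 3, 1, 1, 2, 1, 2], [3, 3, 2, 3, 3, 2, 3, 3, 2], [1, 2, 1, 1, 2, 1, 3, 3, 1, 1], [3, 2, 3, 3, 3, 3, 3, 1, 2, 1], [2, 1, 1, 3, 2, 1, 3, 1, 3, 1], [2, 1, 3, 2, 1, 3, 3, 3, 3, 1], [3, 2, 1, 1, 2, 3, 2, 1, 1, 2], [2, 1, 1, 1, 1, 1, 3, 3, 3, 3], [2, 3, 2, 1, 1, 2, 1, 1, 1, 2, 1], [2, 3, 1, 2, 3, 2, 1, 3, 2, 1, 2], [2, 3, 3, 1, 3, 3, 1, 3, 3, 1, 2], [3, 1, 1, 1, 1, 1, 3, 1, 1, 2, 3], [2, 1, 1, 2, 3, 3, 3, 3, 3, 3, 3], [1, 3, 1, 2, 3, 1, 2, 3, 2, 1, 2, 1], [2, 3, 3, 3, 3, 2, 1, 1, 1,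 1, 1, 2]]),
      (5, [[], [1, 2, 1, 3, 3, 3, 2, 3, 3, 3, 3]])],
    [(0, [[], [1], [2], [3], [6], [9], [10], [2, 1], [3, 1], [6, 1], [9, 1], [2, 2], [3, 2], [6, 2], [9, 2], [10, 2], [2, 3], [3, 3], [9, 3], [2, 6], [3, 6], [1, 10], [6, 10], [10, 10]]),
      (1, [[], [6, 6, 1], [10, 9, 1], [6, 3, 10, 1], [1, 9, 10, 1], [2, 9, 1, 2]]),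
      (2, [[], [6, 2, 6, 2], [3, 6, 9, 2], [2, 1, 9, 3], [3, 2, 10, 3], [9, 9, 6, 6], [3, 2, 2, 9], [2, 9, 6, 9], [9, 10, 6, 3, 1], [2, 1, 2, 6, 1], [9, 10, 1, 9, 1], [2, 3, 2, 9, 1], [9, 6, 9, 2, 2], [2, 9, 9, 2, 2], [2, 2, 2, 6, 2], [6, 2, 3, 9, 6]]),
      (3, [[], [6, 3, 9], [10, 9, 6, 2, 10, 1], [1, 3, 1, 10, 2, 3]])],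
    [(0, [[], [0], [1], [2], [5], [0, 0], [1, 0], [2, 0], [5, 0], [0, 1], [5, 1], [1, 2], [5, 2], [0, 0, 0], [1, 0, 0], [2, 0, 0], [5, 0, 0], [0, 1, 0], [5, 1, 0], [0, 1, 2], [5, 1, 2], [5, 0, 0, 0], [5, 0, 1, 0], [0, 5, 1, 0]]),
      (1, [[], [5, 5], [5, 1, 2, 0], [5, 2, 5, 0], [0, 5, 0, 1], [5, 0, 1, 1], [0, 5, 1, 1], [2, 5, 0, 5], [5, 2, 1, 5], [2, 5, 1, 5], [1, 1, 5, 0, 1], [1, 1, 5, 1, 1], [1, 1, 2, 5, 1], [2, 1, 5, 0, 0, 0], [0, 1, 5, 2, 0, 0], [2, 1, 2, 5, 0, 0], [0, 1, 1, 0, 5, 0], [1, 2, 1, 1, 5, 0], [5, 2, 1, 2, 5, 0], [0, 0, 5, 1, 5, 1]]),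
      (2, [[], [0, 1, 2, 1], [5, 2, 0, 5], [1, 5, 5, 1, 2], [1, 2, 1, 2, 0, 0], [2, 1, 5, 5, 1, 1], [0, 1, 1, 1, 5, 5], [5, 5, 0, 0, 1, 1, 0], [5, 1, 0, 5, 1, 1, 5, 1], [0, 5, 1, 1, 5, 2, 1, 5], [1, 5, 1, 5, 0, 1, 1, 5, 0], [1, 5, 1, 5, 2, 1, 1, 5, 2], [1, 1, 5, 1, 1, 2, 5, 1, 5], [5, 1, 1, 5, 2, 1, 0, 5, 1, 0], [0, 5, 1, 1, 5, 0, 1, 0, 5, 0], [5, 1, 0, 5, 1, 1, 5, 2, 0, 1]])],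
    [(0, [[], [3], [5], [8], [9], [3, 3], [5, 3], [8, 3], [8, 5], [3, 8], [5, 8], [6, 8], [9, 8], [5, 9], [8, 9], [5, 3, 3], [9, 8, 3], [9, 8, 5], [9, 3, 8], [9, 5, 8], [5, 6, 8], [9, 6, 8], [8, 9, 8], [9, 8, 9]]),
      (1, [[], [8, 5, 8], [9, 3, 5, 3], [8, 8, 3, 5]]),
      (2, [[], [6, 5], [5, 6], [6, 6], [5, 9, 3], [6, 9, 3], [3, 3, 9, 5], [3, 3, 9, 6], [9, 6, 5, 9], [9, 6, 6, 9], [3, 6, 5, 3, 3], [3, 6, 6, 3, 3], [3, 9, 6, 3, 3], [3, 5, 9, 3, 3], [5, 9, 3, 6, 5], [6, 9, 3, 6, 5]]),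
      (4, [[], [3, 8, 6, 8, 6], [8, 6, 8, 6, 3, 3]]),
      (5, [[], [5, 3, 8, 8, 3, 3]])],
    [(0, [[], [0], [2], [0, 0], [2, 0], [0, 2], [2, 2], [0, 0, 0], [0, 2, 0], [2, 2, 0], [0, 0, 2], [2, 0, 2], [0, 0, 2, 0], [2, 0, 2, 0], [0, 0, 0, 2], [2, 0, 0, 2], [0, 2, 0, 2], [2, 2, 0, 2], [0, 2, 0, 2, 0], [2, 2, 0, 2, 0], [0, 0, 0, 0, 2], [2, 0, 0, 0, 2], [0, 2, 2, 0, 2], [2, 2, 2, 0, 2]]),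
      (1, [[], [2, 0, 0], [0, 2, 2, 0], [2, 2, 0, 0, 0], [0, 2, 0, 0, 0, 0], [2, 0, 0, 2, 0, 0], [2, 2, 0, 2, 0, 0, 0], [0, 2, 2, 0, 2, 0, 0], [0, 2, 0, 2, 2, 2, 0], [0, 0, 0, 0, 0, 0, 2], [0, 0, 2, 2, 0, 0, 2], [2, 2, 2, 2, 0, 0, 0, 0], [0, 2, 0, 0, 2, 0, 0, 0], [2, 2, 0, 0, 0, 2, 0, 0], [2, 0, 2, 2, 0, 0, 0, 2], [0, 0, 0, 0, 0, 2, 2, 2], [2, 0, 0, 0, 2, 0, 0, 0, 0], [2, 2, 0, 2, 0, 2, 0, 0, 0], [2, 2, 2, 2, 2, 0, 2, 0, 0], [0, 0, 0, 2, 2, 2, 0, 2, 0], [0, 0, 2, 2, 0, 2, 0, 2, 2], [0, 2, 2, 0, 0, 2, 0, 0, 0, 0], [2, 2, 0, 2, 0, 0, 0, 2, 0, 0]]),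
      (2, [[], [2, 2, 2, 0, 2, 2, 0, 0, 2], [2, 0, 2, 0, 2, 0, 2, 2, 2], [0, 2, 0, 0, 0, 0, 0, 2, 2, 0], [0, 2, 2, 0, 0, 2, 2, 0, 2, 0, 0], [2, 0, 0, 0, 0, 0, 0, 0, 2, 2, 2], [2, 2, 0, 0, 0, 0, 2, 0, 2, 2, 2, 0], [0, 2, 0, 2, 2, 2, 2, 2, 0, 0, 0, 2], [2, 0, 2, 0, 0, 2, 0, 0, 0, 0, 0, 0, 0], [0, 2, 0, 0, 0, 2, 2, 2, 2, 2, 0, 2, 0], [0, 0, 0, 2, 2, 0, 0, 0, 0, 0, 2, 0, 0, 0]])]]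

/-- Transversal masks. -/
def fMasks : List Nat := [0, 1, 4, 5]

/-- The pair of masks whose sum is in the class of the first root. -/
def maskPair : Nat × Nat := (22, 23)

/-- Words for elements of four prime orders. -/
def primeWords : List (Nat × List Nat) :=
  [(29, [4, 2, 4, 0, 1, 0, 1, 2]), (31, [1, 2, 1, 2, 1, 0, 1, 2]), (37, [1, 2, 4, 2, 1, 0]), (43, [1, 2, 4, 2, 4, 2, 1, 0])]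

end Cfsg.Lib.J4Real
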