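import Mathlib
import Cfsg.Agent.Lib.J4Pres.Iso
import Cfsg.Agent.Lib.J4Real.DataRows
import Cfsg.Agent.Lib.J4Real.DataWords

/-!
# Twenty letters acting on 112-dimensional vectors over two elements
-/

set_option autoImplicit false
set_option maxRecDepth 20000

namespace Cfsg.Lib.J4Real

open Cfsg.Lib.CosetEnum
open Cfsg.Lib.J4Pres

/-- The vectors. -/
abbrev Vec : Type := {v : ℕ // v < 2 ^ 112}

/-- The rows of the twenty letters. -/
def rows : List (List ℕ) := letterRows ++ extraRows

/-- The opposite letter. -/
def flipX (g : ℕ) : ℕ := if g < 3 then g + 3 else if g < 6 then g - 3 else g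

/-- The inverse word. -/
def winv (w : List ℕ) : List ℕ := w.reverse.map flipX

/-- All letters are among the first seventeen. -/
def low (w : List ℕ) : Bool := w.all fun g => Nat.blt g 17

/-- All letters are among the twenty. -/
def inRange (w : List ℕ) : Bool := w.all fun g => Nat.blt g 20

/-- Two words agree on all unit vectors. -/
noncomputable def sameW (a b : List ℕ) : Bool :=
  inRange a && inRange b && force (strideOnes 112 112) fun S =>
    force (packRows 112 ((List.range 112).map fun i => 2 ^ i)) fun V =>
      force (allWord S rows a V) fun x => force (allWord S rows b V) fun y => Nat.beq x y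

theorem rows_ok : (rows.all fun M =>
    Nat.ble M.length 112 && M.all fun r => Nat.blt r (2 ^ 112)) = true := by
  decide +kernel

theorem rows_len : ∀ R ∈ rows, R.length ≤ 112 := fun R hR => by
  have h := List.all_eq_true.1 rows_ok R hR
  rw [Bool.and_eq_true, Nat.ble_eq] at h
  exact h.1

theorem rows_lt : ∀ R ∈ rows, ∀ r ∈ R, r < 2 ^ 112 := fun R hR r hr => by
  have h := List.all_eq_true.1 rows_ok R hR
  rw [Bool.and_eq_true, List.all_eq_true] at h
  exact Nat.blt_eq.mp (h.2 r hr)

theorem rows_length : rows.length = 20 := rfl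

theorem units_ext {n : ℕ} {f g : ℕ → ℕ} (hf : ∀ a b, f (a ^^^ b) = f a ^^^ f b)
    (hg : ∀ a b, g (a ^^^ b) = g a ^^^ g b) (h : ∀ i < n, f (2 ^ i) = g (2 ^ i)) :
    ∀ v < 2 ^ n, f v = g v := by
  induction n with
  | zero =>
    intro v hv
    have e : v = 0 := by simpa using hv
    subst e
    have h1 := hf 0 0
    have h2 := hg 0 0
    rw [Nat.xor_self, Nat.xor_self] at h1 h2
    rw [h1, h2]
  | succ n ih =>
    intro v hv
    have ih' := ih fun i hi => h i (Nat.lt_succ_of_lt hi)
    rcases Nat.lt_or_ge v (2 ^ n) with hlt | hge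
    · exact ih' v hlt
    · have hrest : 2 ^ n ^^^ v < 2 ^ n := by
        refine Nat.lt_pow_two_of_testBit _ fun i hi => ?_
        rw [Nat.testBit_xor, Nat.testBit_two_pow]
        rcases Nat.eq_or_lt_of_le hi with rfl | hlt'
        · simp only [decide_true, Bool.true_xor, Bool.not_eq_false']
          exact Nat.testBit_of_two_pow_le_and_two_pow_add_one_gt hge hv
        · rw [decide_eq_false (by omega), Bool.false_xor]
          exact Nat.testBit_lt_two_pow (hv.trans_le (Nat.pow_le_pow_right (by norm_num) (by omega)))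
      have e : v = 2 ^ n ^^^ (2 ^ n ^^^ v) := by
        rw [← Nat.xor_assoc, Nat.xor_self, Nat.zero_xor]
      rw [e, hf, hg, h n (by omega), ih' _ hrest]

theorem sameW_apply {a b : List ℕ} (h : sameW a b = true) :
    ∀ v < 2 ^ 112, applyWord rows a v = applyWord rows b v := by
  simp only [sameW, Bool.and_eq_true, force_eq, Nat.beq_eq] at h
  refine units_ext (applyWord_xor rows a) (applyWord_xor rows b) fun i hi => ?_
  have hvs : ∀ v ∈ (List.range 112).map (2 ^ ·), v < 2 ^ 112 := fun v hv => by
    obtain ⟨j, hj, rfl⟩ := List.mem_map.1 hv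
    exact Nat.pow_lt_pow_right (by norm_num) (List.mem_range.1 hj)
  obtain ⟨ha, ha'⟩ := allWord_eq rows_len rows_lt hvs a
  obtain ⟨hb, hb'⟩ := allWord_eq rows_len rows_lt hvs b
  have hl : ((List.range 112).map (2 ^ ·)).length = 112 := by simp
  rw [hl] at ha hb
  have e := h.2
  rw [ha, hb] at e
  have e' := packRows_inj (by simp) (fun x hx => by
      obtain ⟨v, hv, rfl⟩ := List.mem_map.1 hx; exact ha' v hv)
    (fun x hx => by obtain ⟨v, hv, rfl⟩ := List.mem_map.1 hx; exact hb' v hv) e
  exact List.map_inj_left.1 e' _ (List.mem_map.2 ⟨i, List.mem_range.2 hi, rfl⟩)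

theorem flipX_lt {g : ℕ} (hg : g < 17) : flipX g < 17 := by
  unfold flipX; split_ifs <;> omega

theorem flipX_flipX {g : ℕ} (hg : g < 17) : flipX (flipX g) = g := by
  unfold flipX; split_ifs <;> omega

theorem pairs_ok : ((List.range 17).all fun g => sameW [g, flipX g] []) = true := by
  decide +kernel

theorem applyWord_lt (w : List ℕ) (hw : ∀ g ∈ w, g < 20) (v : ℕ) (hv : v < 2 ^ 112) :
    applyWord rows w v < 2 ^ 112 := by
  induction w with
  | nil => exact hv
  | cons g w ih =>
    rw [applyWord_cons]
    refine applyRows_lt (fun r hr => ?_) _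
    have hg : g < rows.length := rows_length ▸ hw g (by simp)
    rw [List.getD_eq_getElem _ _ hg] at hr
    exact rows_lt _ (List.getElem_mem hg) r hr

theorem pair_apply {g : ℕ} (hg : g < 17) (v : ℕ) (hv : v < 2 ^ 112) :
    applyWord rows [g] (applyWord rows [flipX g] v) = v := by
  have h := sameW_apply (List.all_eq_true.1 pairs_ok g (List.mem_range.2 hg)) v hv
  simpa [applyWord_cons, applyWord] using h

/-- One of the first seventeen letters as a permutation of the vectors. -/
noncomputable def jp0 (g : ℕ) : Equiv.Perm Vec :=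
  if hg : g < 17 then
    { toFun := fun v => ⟨applyWord rows [g] v.1,
        applyWord_lt _ (by simp; omega) _ v.2⟩
      invFun := fun v => ⟨applyWord rows [flipX g] v.1,
        applyWord_lt _ (by simp; have := flipX_lt hg; omega) _ v.2⟩
      left_inv := fun v => Subtype.ext (by
        have h := pair_apply (flipX_lt hg) v.1 v.2
        rwa [flipX_flipX hg] at h)
      right_inv := fun v => Subtype.ext (pair_apply hg v.1 v.2) }
  else 1

theorem defs_ok : ((List.range 14).all fun i =>
    low (defWords.getD i []) && sameW [6 + i] (defWords.getD i [])) = true := by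
  decide +kernel

/-- A letter as a permutation of the vectors. -/
noncomputable def jp (g : ℕ) : Equiv.Perm Vec :=
  if g < 17 then jp0 g else ((defWords.getD (g - 6) []).map jp0).prod

/-- The permutation of a word. -/
noncomputable def wp (w : List ℕ) : Equiv.Perm Vec := (w.map jp).prod

theorem jp0_word : ∀ (w : List ℕ), (∀ g ∈ w, g < 17) → ∀ v : Vec,
    ((w.map jp0).prod v).1 = applyWord rows w v.1
  | [], _, v => rfl
  | g :: w, hw, v => by
    have hg : g < 17 := hw g (by simp)
    have ih := jp0_word w (fun a ha => hw a (List.mem_cons_of_mem _ ha)) v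
    rw [List.map_cons, List.prod_cons, Equiv.Perm.mul_apply, applyWord_cons, ← ih]
    rw [jp0, dif_pos hg]
    show applyWord rows [g] _ = _
    rw [applyWord_cons]
    rfl

theorem jp_apply {g : ℕ} (hg : g < 20) (v : Vec) : (jp g v).1 = applyWord rows [g] v.1 := by
  unfold jp
  split_ifs with h
  · simpa using jp0_word [g] (by simpa using h) v
  · have h' := List.all_eq_true.1 defs_ok (g - 6) (List.mem_range.2 (by omega))
    rw [Bool.and_eq_true] at h'
    have e : 6 + (g - 6) = g := by omega
    rw [e] at h'
    rw [jp0_word _ (by simpa [low, Nat.blt_eq] using h'.1) v, sameW_apply h'.2 v.1 v.2]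

theorem wp_apply : ∀ (w : List ℕ), (∀ g ∈ w, g < 20) → ∀ v : Vec,
    (wp w v).1 = applyWord rows w v.1
  | [], _, v => rfl
  | g :: w, hw, v => by
    have ih := wp_apply w (fun a ha => hw a (List.mem_cons_of_mem _ ha)) v
    rw [wp, List.map_cons, List.prod_cons, Equiv.Perm.mul_apply, jp_apply (hw g (by simp)),
      applyWord_cons, applyWord_cons]
    show applyRows _ (applyWord rows [] ((wp w v).1)) = _
    rw [ih]
    rfl

theorem sameW_wp {a b : List ℕ} (h : sameW a b = true) : wp a = wp b := by
  have h' := h
  simp only [sameW, inRange, Bool.and_eq_true, List.all_eq_true, Nat.blt_eq] at h'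
  refine Equiv.ext fun v => Subtype.ext ?_
  rw [wp_apply a h'.1.1, wp_apply b h'.1.2, sameW_apply h v.1 v.2]

theorem wp_nil : wp [] = 1 := rfl

theorem wp_cons (g : ℕ) (w : List ℕ) : wp (g :: w) = jp g * wp w := by
  simp [wp]

theorem wp_append (a b : List ℕ) : wp (a ++ b) = wp a * wp b := by
  simp [wp, List.map_append, List.prod_append]

theorem wp_single (g : ℕ) : wp [g] = jp g := by simp [wp]

theorem jp_flip {g : ℕ} (hg : g < 17) : jp (flipX g) = (jp g)⁻¹ := by
  have h := sameW_wp (List.all_eq_true.1 pairs_ok g (List.mem_range.2 hg))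
  rw [wp_cons, wp_single, wp_nil] at h
  exact eq_inv_of_mul_eq_one_right h

theorem wp_winv : ∀ {w : List ℕ}, low w = true → wp (winv w) = (wp w)⁻¹
  | [], _ => by simp [winv, wp]
  | g :: w, h => by
    simp only [low, List.all_cons, Bool.and_eq_true, Nat.blt_eq] at h
    have ih := wp_winv (w := w) h.2
    rw [winv, List.reverse_cons, List.map_append, List.map_cons, List.map_nil, wp_append,
      wp_single, jp_flip h.1, wp_cons, mul_inv_rev, ← ih]
    rfl

theorem def_wp {i : ℕ} (hi : i < 14) : jp (6 + i) = wp (defWords.getD i []) := by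
  have h := List.all_eq_true.1 defs_ok i (List.mem_range.2 hi)
  rw [Bool.and_eq_true] at h
  rw [← wp_single]
  exact sameW_wp h.2

end Cfsg.Lib.J4Real
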