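import Cfsg.Agent.Lib.J4Real.Act

/-!
# The subgroup of shape `2^11:M24`
-/

set_option autoImplicit false
set_option maxRecDepth 20000

namespace Cfsg.Lib.J4Real

open Cfsg.Lib.CosetEnum
open Cfsg.Lib.J4Pres
open Cfsg.Lib.Concrete (card_M24 isSimple_M24)

/-- The letters of a mask below `n`. -/
def eLn : ℕ → ℕ → List ℕ
  | 0, _ => []
  | n + 1, m => eLn n m ++ cond (m.testBit n) [6 + n] []

/-- The letters of a mask. -/
def eL (m : ℕ) : List ℕ := eLn 11 m

/-- The element of a mask. -/
noncomputable def eW (m : ℕ) : Equiv.Perm Vec := wp (eL m)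

theorem comm_ok : ((List.range 11).all fun i => sameW [6 + i, 6 + i] [] &&
    (List.range i).all fun k => sameW [6 + i, 6 + k] [6 + k, 6 + i]) = true := by
  decide +kernel

theorem e_sq {i : ℕ} (hi : i < 11) : jp (6 + i) * jp (6 + i) = 1 := by
  have h := List.all_eq_true.1 comm_ok i (List.mem_range.2 hi)
  rw [Bool.and_eq_true] at h
  simpa [wp_cons, wp_nil] using sameW_wp h.1

theorem e_comm {i k : ℕ} (hi : i < 11) (hk : k < i) : Commute (jp (6 + i)) (jp (6 + k)) := by
  have h := List.all_eq_true.1 comm_ok i (List.mem_range.2 hi)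
  rw [Bool.and_eq_true] at h
  simpa [Commute, SemiconjBy, wp_cons, wp_nil] using
    sameW_wp (List.all_eq_true.1 h.2 k (List.mem_range.2 hk))

theorem wp_eLn_succ (n m : ℕ) :
    wp (eLn (n + 1) m) = wp (eLn n m) * cond (m.testBit n) (jp (6 + n)) 1 := by
  rw [eLn, wp_append]
  cases m.testBit n <;> simp [wp_cons, wp_nil]

theorem e_comm_eLn {i : ℕ} (hi : i < 11) : ∀ n ≤ i, ∀ m, Commute (jp (6 + i)) (wp (eLn n m))
  | 0, _, _ => by simp [eLn, wp_nil]
  | n + 1, h, m => by
    rw [wp_eLn_succ]
    refine (e_comm_eLn hi n (by omega) m).mul_right ?_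
    cases m.testBit n
    · exact Commute.one_right _
    · exact e_comm hi (by omega)

theorem eLn_mul : ∀ n ≤ 11, ∀ a b, wp (eLn n a) * wp (eLn n b) = wp (eLn n (a ^^^ b))
  | 0, _, _, _ => by simp [eLn, wp_nil]
  | n + 1, hn, a, b => by
    have hc := e_comm_eLn (i := n) (by omega) n le_rfl b
    have hs := e_sq (i := n) (by omega)
    rw [wp_eLn_succ, wp_eLn_succ, wp_eLn_succ, Nat.testBit_xor]
    have ih := eLn_mul n (by omega) a b
    cases a.testBit n <;> cases b.testBit n <;> simp only [cond_true, cond_false, mul_one,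
      Bool.xor_false, Bool.xor_true, Bool.not_false, Bool.not_true, Bool.false_xor, Bool.true_xor]
    · exact ih
    · rw [← mul_assoc, ih]
    · rw [mul_assoc, hc.eq, ← mul_assoc, ih]
    · rw [← mul_assoc, mul_assoc (wp (eLn n a)), hc.eq, ← mul_assoc, ih, mul_assoc, hs, mul_one]

theorem eW_mul (a b : ℕ) : eW a * eW b = eW (a ^^^ b) := eLn_mul 11 le_rfl a b

theorem eW_zero : eW 0 = 1 := rfl

theorem eW_sq (a : ℕ) : eW a * eW a = 1 := by rw [eW_mul, Nat.xor_self, eW_zero]

theorem eW_inv (a : ℕ) : (eW a)⁻¹ = eW a := inv_eq_of_mul_eq_one_right (eW_sq a)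

theorem eLn_mod : ∀ n ≤ 11, ∀ m, wp (eLn n (m % 2048)) = wp (eLn n m)
  | 0, _, _ => rfl
  | n + 1, h, m => by
    rw [wp_eLn_succ, wp_eLn_succ, eLn_mod n (by omega), show (2048 : ℕ) = 2 ^ 11 by norm_num,
      Nat.testBit_mod_two_pow]
    simp [show n < 11 by omega]

theorem eW_mod (m : ℕ) : eW (m % 2048) = eW m := eLn_mod 11 le_rfl m

theorem eW_two_pow {i : ℕ} (hi : i < 11) : eW (2 ^ i) = jp (6 + i) := by
  have h : ∀ n, (n ≤ i → wp (eLn n (2 ^ i)) = 1) ∧ (i < n → wp (eLn n (2 ^ i)) = jp (6 + i)) := by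
    intro n
    induction n with
    | zero => exact ⟨fun _ => rfl, fun h => absurd h (by omega)⟩
    | succ n ih =>
      rw [wp_eLn_succ, Nat.testBit_two_pow]
      refine ⟨fun h => ?_, fun h => ?_⟩
      · rw [ih.1 (by omega), decide_eq_false (by omega)]; simp
      · rcases Nat.lt_or_ge i n with h' | h'
        · rw [ih.2 h', decide_eq_false (by omega)]; simp
        · obtain rfl : i = n := by omega
          rw [ih.1 le_rfl]; simp
  exact (h 11).2 hi

/-- The normal subgroup of order 2048. -/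
noncomputable def Esub : Subgroup (Equiv.Perm Vec) where
  carrier := Set.range eW
  one_mem' := ⟨0, eW_zero⟩
  mul_mem' := by rintro _ _ ⟨a, rfl⟩ ⟨b, rfl⟩; exact ⟨a ^^^ b, (eW_mul a b).symm⟩
  inv_mem' := by rintro _ ⟨a, rfl⟩; exact ⟨a, (eW_inv a).symm⟩

theorem eW_mem (m : ℕ) : eW m ∈ Esub := ⟨m, rfl⟩

theorem mem_Esub {x : Equiv.Perm Vec} (h : x ∈ Esub) : ∃ m < 2048, eW m = x := by
  obtain ⟨m, rfl⟩ := h
  exact ⟨m % 2048, Nat.mod_lt _ (by norm_num), eW_mod m⟩

/-- The images of the seed vector, in the order of the masks. -/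
noncomputable def seedList : ℕ → List ℕ
  | 0 => [seedVec]
  | n + 1 => seedList n ++ (seedList n).map fun v => applyRows (rows.getD (6 + n) []) v

theorem seed_ok : (decide (seedVec < 2 ^ 112) &&
    match seedList 11 with
    | [] => false
    | v :: L => Nat.beq v seedVec && Nat.beq L.length 2047 &&
        L.all fun u => !(Nat.beq u seedVec)) = true := by
  decide +kernel

theorem seedList_spec (hs : seedVec < 2 ^ 112) : ∀ n ≤ 11, (seedList n).length = 2 ^ n ∧
    ∀ m, ∀ h : m < (seedList n).length,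
      (seedList n)[m] = (wp (eLn n m) ⟨seedVec, hs⟩ : Vec).1
  | 0, _ => ⟨rfl, fun m h => by
      simp [seedList] at h; subst h; simp [seedList, eLn, wp_nil]⟩
  | n + 1, hn => by
    obtain ⟨hl, hget⟩ := seedList_spec hs n (by omega)
    refine ⟨by simp [seedList, hl]; ring, fun m h => ?_⟩
    simp only [seedList] at h ⊢
    have h' : m < 2 ^ n + 2 ^ n := by simpa [hl] using h
    rcases Nat.lt_or_ge m (2 ^ n) with hm | hm
    · rw [List.getElem_append_left (by omega), hget m (by omega), wp_eLn_succ,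
        Nat.testBit_lt_two_pow hm]
      simp
    · rw [List.getElem_append_right (by omega), List.getElem_map]
      have hm' : m - (seedList n).length < 2 ^ n := by omega
      rw [hget _ (by omega)]
      have e : m = 2 ^ n + (m - (seedList n).length) := by omega
      generalize m - (seedList n).length = r at e hm'
      subst e
      rw [wp_eLn_succ, Nat.testBit_two_pow_add_eq, Nat.testBit_lt_two_pow hm']
      have hlow : wp (eLn n (2 ^ n + r)) = wp (eLn n r) := by
        have key : ∀ k ≤ n, wp (eLn k (2 ^ n + r)) = wp (eLn k r) := by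
          intro k hk
          induction k with
          | zero => rfl
          | succ k ihk =>
            rw [wp_eLn_succ, wp_eLn_succ, ihk (by omega),
              Nat.testBit_two_pow_add_gt (by omega)]
        exact key n le_rfl
      rw [hlow]
      simp only [Bool.not_false, cond_true]
      rw [← (e_comm_eLn (i := n) (by omega) n le_rfl r).eq, Equiv.Perm.mul_apply,
        jp_apply (by omega), applyWord_cons]
      rfl

theorem eW_eq_one {m : ℕ} (hm : m < 2048) (h : eW m = 1) : m = 0 := by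
  have hc := seed_ok
  rw [Bool.and_eq_true, decide_eq_true_eq] at hc
  obtain ⟨hl, hget⟩ := seedList_spec hc.1 11 le_rfl
  have hmi : m < (seedList 11).length := by rw [hl]; norm_num; omega
  have hval := hget m hmi
  rw [show wp (eLn 11 m) = eW m from rfl, h, Equiv.Perm.one_apply] at hval
  cases hL : seedList 11 with
  | nil => simp [hL] at hmi
  | cons v L =>
    have h2 := hc.2
    rw [hL] at h2
    simp only [Bool.and_eq_true, List.all_eq_true, Bool.not_eq_true'] at h2
    by_contra hm0
    obtain ⟨k, rfl⟩ : ∃ k, m = k + 1 := ⟨m - 1, by omega⟩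
    simp only [hL, List.getElem_cons_succ] at hval
    have := h2.2 _ (List.getElem_mem (l := L) (n := k) (by simp [hL] at hmi; omega))
    rw [hval] at this
    simp [Nat.beq_refl] at this

theorem eW_inj {a b : ℕ} (ha : a < 2048) (hb : b < 2048) (h : eW a = eW b) : a = b := by
  have h1 : eW (a ^^^ b) = 1 := by rw [← eW_mul, h, eW_sq]
  have := eW_eq_one (Nat.xor_lt_two_pow (n := 11) ha hb) h1
  exact Nat.xor_eq_zero_iff.1 this

theorem card_Esub : Nat.card Esub = 2048 := by
  have hb : Function.Bijective (fun m : Fin 2048 => (⟨eW m.1, eW_mem m.1⟩ : Esub)) := by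
    refine ⟨fun a b h => Fin.ext (eW_inj a.2 b.2 (congrArg Subtype.val h)), fun x => ?_⟩
    obtain ⟨m, hm, e⟩ := mem_Esub x.2
    exact ⟨⟨m, hm⟩, Subtype.ext e⟩
  rw [← Nat.card_congr (Equiv.ofBijective _ hb), Nat.card_eq_fintype_card, Fintype.card_fin]

end Cfsg.Lib.J4Real
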