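import Cfsg.Agent.Lib.J4Real.CentGrp
import Cfsg.Agent.Lib.Concrete.SporMathieu
import Cfsg.Prelude.Def_Sporadic

/-!
# The centralizer acting on 24 points
-/

set_option autoImplicit false
set_option maxRecDepth 20000

namespace Cfsg.Lib.J4Real

open Cfsg.Lib.CosetEnum
open Cfsg.Lib.J4Pres
open Cfsg.Lib.Concrete
open scoped Pointwise

/-- The map of one generator on the points. -/
def centFun (g : ℕ) (x : GolayPt) : GolayPt :=
  gpt (Fin.ofNat 24 (pget (centPacks.getD g 0) (gidx x).val))

/-- A point lies on one of the octads. -/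
def hexMem (i : ℕ) (x : GolayPt) : Bool := (hexMasks.getD i 0).testBit (gidx x).val

/-- One of the two distinguished points. -/
def inPair (x : GolayPt) : Prop := x = none ∨ x = some 0

theorem pts_ok : ((List.range 14).all fun g =>
      (bits24.all fun i => Nat.blt (pget (centPacks.getD g 0) i) 24) &&
      nodupN (bits24.map fun i => pget (centPacks.getD g 0) i) &&
      (basisMasks.all fun b => isCode (pimg (centPacks.getD g 0) b) &&
        decide (pimg (centPacks.getD g 0) b < 16777216)) &&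
      ([0, 23].all fun i => Nat.beq (pget (centPacks.getD g 0) i) 0 ||
        Nat.beq (pget (centPacks.getD g 0) i) 23) &&
      (List.range 77).all fun i => bits24.all fun p =>
        (hexMasks.getD (centImg g i) 0).testBit (pget (centPacks.getD g 0) p) ==
          (hexMasks.getD i 0).testBit p) = true ∧
    (bits24.all fun x => bits24.all fun y => Nat.beq x y ||
      ((Nat.beq x 0 || Nat.beq x 23) && (Nat.beq y 0 || Nat.beq y 23)) ||
      (List.range 77).any fun i =>
        (hexMasks.getD i 0).testBit x != (hexMasks.getD i 0).testBit y) = true ∧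
    gidx (none : GolayPt) = 23 ∧ gidx (some 0 : GolayPt) = 0 :=
  ⟨by decide +kernel, by decide +kernel, by decide, by decide⟩

theorem gidx_pair {x : GolayPt} : inPair x ↔ (gidx x).val = 23 ∨ (gidx x).val = 0 := by
  refine ⟨?_, ?_⟩
  · rintro (rfl | rfl)
    · exact Or.inl (congrArg Fin.val pts_ok.2.2.1)
    · exact Or.inr (congrArg Fin.val pts_ok.2.2.2)
  · rintro (h | h)
    · exact Or.inl (gidx_injective (Fin.ext (h.trans (congrArg Fin.val pts_ok.2.2.1).symm)))
    · exact Or.inr (gidx_injective (Fin.ext (h.trans (congrArg Fin.val pts_ok.2.2.2).symm)))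

theorem rep_centFun {g : ℕ} (hg : g < 14) (x : GolayPt) :
    (gidx (centFun g x)).val = pget (centPacks.getD g 0) (gidx x).val := by
  have h := List.all_eq_true.1 pts_ok.1 g (List.mem_range.2 hg)
  simp only [Bool.and_eq_true, List.all_eq_true, Nat.blt_eq, mem_bits24] at h
  rw [centFun, gidx_gpt, Fin.val_ofNat, Nat.mod_eq_of_lt (h.1.1.1.1 _ (gidx x).isLt)]

theorem centFun_inj {g : ℕ} (hg : g < 14) : Function.Injective (centFun g) := by
  intro x y h
  have h' := congrArg (fun z => (gidx z).val) h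
  simp only [rep_centFun hg] at h'
  have hn := List.all_eq_true.1 pts_ok.1 g (List.mem_range.2 hg)
  simp only [Bool.and_eq_true] at hn
  have hnd := nodupN_spec hn.1.1.1.2
  have hmem : ∀ z : GolayPt, (gidx z).val ∈ bits24 := fun z => mem_bits24.2 (gidx z).isLt
  exact gidx_injective (Fin.ext (List.inj_on_of_nodup_map hnd (hmem x) (hmem y) h'))

/-- The permutation of one generator. -/
noncomputable def sigmaG (g : ℕ) : Equiv.Perm GolayPt :=
  if h : g < 14 then Equiv.ofBijective _ (Finite.injective_iff_bijective.1 (centFun_inj h)) else 1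

theorem rep_sigmaG {g : ℕ} (hg : g < 14) : Rep (sigmaG g) (centPacks.getD g 0) := fun x => by
  rw [sigmaG, dif_pos hg]
  exact rep_centFun hg x

/-- The permutation of the points belonging to an element of the centralizer. -/
def Ok (c : Equiv.Perm Vec) (σ : Equiv.Perm GolayPt) : Prop :=
  σ ∈ M24 ∧ (∀ x, inPair x → inPair (σ x)) ∧
    ∀ i < 77, ∃ k < 77, c (vecAt i) = vecAt k ∧ ∀ x, hexMem k (σ x) = hexMem i x

theorem ok_one : Ok 1 1 := ⟨one_mem _, fun _ h => h, fun i hi => ⟨i, hi, rfl, fun _ => rfl⟩⟩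

theorem ok_mul {c d : Equiv.Perm Vec} {σ τ : Equiv.Perm GolayPt} (h : Ok c σ) (h' : Ok d τ) :
    Ok (c * d) (σ * τ) := by
  refine ⟨mul_mem h.1 h'.1, fun x hx => h.2.1 _ (h'.2.1 x hx), fun i hi => ?_⟩
  obtain ⟨k, hk, e, he⟩ := h'.2.2 i hi
  obtain ⟨l, hl, f, hf⟩ := h.2.2 k hk
  exact ⟨l, hl, by rw [Equiv.Perm.mul_apply, e, f],
    fun x => by rw [Equiv.Perm.mul_apply, hf, he]⟩

theorem ok_gen {g : ℕ} (hg : g < 14) : Ok (cEl g) (sigmaG g) := by
  have h := List.all_eq_true.1 pts_ok.1 g (List.mem_range.2 hg)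
  simp only [Bool.and_eq_true] at h
  obtain ⟨⟨⟨⟨-, -⟩, hM⟩, hp⟩, hh⟩ := h
  refine ⟨rep_mem_M24 (rep_sigmaG hg) hM, fun x hx => ?_, fun i hi => ?_⟩
  · rw [gidx_pair, rep_sigmaG hg]
    simp only [List.all_cons, List.all_nil, Bool.and_true, Bool.and_eq_true, Bool.or_eq_true,
      Nat.beq_eq] at hp
    rcases gidx_pair.1 hx with e | e <;> rw [e]
    · exact hp.2.symm
    · exact hp.1.symm
  · refine ⟨centImg g i, centImg_lt hg hi, gen_vec hg hi, fun x => ?_⟩
    simp only [List.all_eq_true, List.mem_range, mem_bits24, beq_iff_eq] at hh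
    rw [hexMem, rep_sigmaG hg]
    exact hh i hi _ (gidx x).isLt

theorem ok_exists {c : Equiv.Perm Vec} (hc : c ∈ Cz) : ∃ σ, Ok c σ := by
  rw [← Cz_eq] at hc
  induction hc using Subgroup.closure_induction with
  | mem c hc =>
    obtain ⟨g, hg, rfl⟩ := hc
    exact ⟨_, ok_gen hg⟩
  | one => exact ⟨1, ok_one⟩
  | mul a b _ _ iha ihb =>
    obtain ⟨σ, hσ⟩ := iha
    obtain ⟨τ, hτ⟩ := ihb
    exact ⟨_, ok_mul hσ hτ⟩
  | inv a _ iha =>
    obtain ⟨σ, hσ⟩ := iha
    have hpow : ∀ n : ℕ, Ok (a ^ n) (σ ^ n) := by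
      intro n
      induction n with
      | zero => simpa using ok_one
      | succ n ih => rw [pow_succ, pow_succ]; exact ok_mul ih hσ
    refine ⟨σ ^ (orderOf a - 1), ?_⟩
    have hpos : 0 < orderOf a := orderOf_pos a
    have e : a⁻¹ = a ^ (orderOf a - 1) := inv_eq_of_mul_eq_one_left (by
      rw [← pow_succ, Nat.sub_add_cancel hpos, pow_orderOf_eq_one])
    rw [e]
    exact hpow _

theorem swap_not_mem : Equiv.swap (none : GolayPt) (some 0) ∉ M24 := by
  intro hmem
  have hrep : Rep (Equiv.swap (none : GolayPt) (some 0)) (pId - 23 * 2 ^ 115 + 23) := by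
    unfold Cfsg.Lib.Concrete.Rep; decide +kernel
  have hb : isCode 4845570 = true ∧ (pimg (pId - 23 * 2 ^ 115 + 23) 13938692 < 16777216 ∧
      isCode (pimg (pId - 23 * 2 ^ 115 + 23) 13938692) = false) ∧ isCode 13938692 = true :=
    ⟨by decide +kernel, ⟨by decide +kernel, by decide +kernel⟩, by decide +kernel⟩
  have hs := mem_M24_iff.1 hmem (mset 13938692)
    ((mset_mem_supports_iff (by norm_num)).2 hb.2.2)
  rw [hrep.smul_mset, mset_mem_supports_iff hb.2.1.1, hb.2.1.2] at hs
  exact Bool.noConfusion hs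

theorem ok_unique {c : Equiv.Perm Vec} {σ τ : Equiv.Perm GolayPt} (h : Ok c σ) (h' : Ok c τ) :
    σ = τ := by
  set π := τ⁻¹ * σ with hπ
  have hpat : ∀ i < 77, ∀ x, hexMem i (π x) = hexMem i x := by
    intro i hi x
    obtain ⟨k, hk, e, he⟩ := h.2.2 i hi
    obtain ⟨l, hl, f, hf⟩ := h'.2.2 i hi
    obtain rfl : k = l := vecAt_inj hk hl (e.symm.trans f)
    rw [← hf (π x), show τ (π x) = σ x by simp [hπ], he]
  have hfix : ∀ x, π x = x ∨ (inPair x ∧ inPair (π x)) := by
    intro x
    have h1 := List.all_eq_true.1 (List.all_eq_true.1 pts_ok.2.1 _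
      (mem_bits24.2 (gidx x).isLt)) _ (mem_bits24.2 (gidx (π x)).isLt)
    simp only [Bool.or_eq_true, Bool.and_eq_true, Nat.beq_eq, List.any_eq_true,
      List.mem_range, bne_iff_ne] at h1
    rcases h1 with (h1 | ⟨h1, h2⟩) | ⟨i, hi, h1⟩
    · exact Or.inl (gidx_injective (Fin.ext h1)).symm
    · exact Or.inr ⟨gidx_pair.2 h1.symm, gidx_pair.2 h2.symm⟩
    · exact absurd (hpat i hi x).symm h1
  by_contra hne
  have hne' : π ≠ 1 := fun e => hne (mul_inv_eq_one.1 (by
    have : τ * π * τ⁻¹ = 1 := by rw [e]; group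
    rw [← this, hπ]; group))
  have hMπ : π ∈ M24 := mul_mem (inv_mem h'.1) h.1
  refine swap_not_mem ?_
  convert hMπ using 1
  obtain ⟨x, hx⟩ : ∃ x, π x ≠ x := by
    by_contra hall
    simp only [not_exists, not_not] at hall
    exact hne' (Equiv.ext hall)
  have hpair : ∀ y, π y ≠ y → inPair y ∧ inPair (π y) := fun y hy => (hfix y).resolve_left hy
  obtain ⟨hx1, hx2⟩ := hpair x hx
  have hxx : π (π x) ≠ π x := fun e => hx (π.injective e)
  obtain ⟨-, hx3⟩ := hpair _ hxx
  have hboth : π none = some 0 ∧ π (some 0) = none := by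
    rcases hx1 with rfl | rfl
    · have e : π none = some 0 := hx2.resolve_left hx
      refine ⟨e, ?_⟩
      rw [e] at hx3 hxx
      exact hx3.resolve_right hxx
    · have e : π (some 0) = none := hx2.resolve_right hx
      refine ⟨?_, e⟩
      rw [e] at hx3 hxx
      exact hx3.resolve_left hxx
  refine Equiv.ext fun y => ?_
  by_cases h1 : y = none
  · subst h1; rw [Equiv.swap_apply_left, hboth.1]
  by_cases h2 : y = some 0
  · subst h2; rw [Equiv.swap_apply_right, hboth.2]
  rw [Equiv.swap_apply_of_ne_of_ne h1 h2]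
  by_contra h3
  rcases (hpair y (Ne.symm h3)).1 with e | e
  exacts [h1 e, h2 e]

/-- The action on the 24 points. -/
noncomputable def rho : Cz →* Equiv.Perm GolayPt where
  toFun c := (ok_exists c.2).choose
  map_one' := ok_unique (ok_exists (one_mem Cz)).choose_spec ok_one
  map_mul' a b := ok_unique (ok_exists (mul_mem a.2 b.2)).choose_spec
    (ok_mul (ok_exists a.2).choose_spec (ok_exists b.2).choose_spec)

theorem rho_eq {c : Cz} {σ : Equiv.Perm GolayPt} (h : Ok c.1 σ) : rho c = σ :=
  ok_unique (ok_exists c.2).choose_spec h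

theorem rho_ok (c : Cz) : Ok c.1 (rho c) := (ok_exists c.2).choose_spec

theorem img_ok : chainB centPacks [] imgChain = true ∧ chainSize imgChain = 887040 ∧
    centPacks.length = 14 :=
  ⟨by decide +kernel, by decide +kernel, by decide +kernel⟩

theorem card_rho_ge : 887040 ≤ Nat.card rho.range := by
  rw [← img_ok.2.1]
  refine chainB_card (fun g hg => ?_) img_ok.1
  rw [img_ok.2.2] at hg
  exact ⟨sigmaG g, ⟨⟨cEl g, Cz_eq ▸ cEl_mem hg⟩, rho_eq (ok_gen hg)⟩, rep_sigmaG hg⟩

/-- The subgroup fixing the two points. -/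
noncomputable def Mtwo : Subgroup Cz :=
  (MulAction.stabilizer (Equiv.Perm GolayPt) (none : GolayPt)).comap rho

theorem rho_Mtwo {c : Cz} (hc : c ∈ Mtwo) : rho c ∈ Spor.M22 := by
  have hn : rho c none = none := MulAction.mem_stabilizer_iff.1 hc
  refine ⟨⟨(rho_ok c).1, MulAction.mem_stabilizer_iff.2 hn⟩, MulAction.mem_stabilizer_iff.2 ?_⟩
  rcases (rho_ok c).2.1 (some 0) (Or.inr rfl) with h | h
  · exact absurd ((rho c).injective (h.trans hn.symm)) (by decide)
  · exact h

/-- The projection onto the Mathieu group. -/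
noncomputable def phiTwo : Mtwo →* Spor.M22 :=
  (rho.comp Mtwo.subtype).codRestrict Spor.M22 fun c => rho_Mtwo c.2

theorem card_ker_mul : Nat.card rho.ker * Nat.card rho.range = 21799895040 := by
  rw [← card_Cz, ← Subgroup.index_ker]
  exact rho.ker.card_mul_index

theorem range_stab :
    Nat.card rho.range ≤ 2 * Nat.card (MulAction.stabilizer rho.range (none : GolayPt)) := by
  have h := Nat.card_congr (MulAction.orbitProdStabilizerEquivGroup rho.range (none : GolayPt))
  rw [Nat.card_prod] at h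
  rw [← h]
  refine Nat.mul_le_mul_right _ ?_
  rw [Nat.card_coe_set_eq]
  refine (Set.ncard_le_ncard (t := ({none, some 0} : Set GolayPt)) ?_ (Set.toFinite _)).trans
    (Set.ncard_insert_le _ _ |>.trans (by simp))
  rintro _ ⟨⟨_, c, rfl⟩, rfl⟩
  exact (rho_ok c).2.1 none (Or.inl rfl)

theorem phiTwo_surjective : Function.Surjective phiTwo := by
  let e : MulAction.stabilizer rho.range (none : GolayPt) → phiTwo.range := fun r =>
    ⟨phiTwo ⟨r.1.2.choose, by
      show rho r.1.2.choose ∈ MulAction.stabilizer _ none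
      rw [r.1.2.choose_spec]
      exact MulAction.mem_stabilizer_iff.2 (MulAction.mem_stabilizer_iff.1 r.2)⟩, _, rfl⟩
  have he : Function.Injective e := by
    intro a b h
    have h' := congrArg (fun x : phiTwo.range => x.1.1) h
    refine Subtype.ext (Subtype.ext ?_)
    simpa [e, phiTwo, a.1.2.choose_spec, b.1.2.choose_spec] using h'
  have h1 : 443520 ≤ Nat.card phiTwo.range := by
    have := Nat.card_le_card_of_injective e he
    have h2 := card_rho_ge.trans range_stab
    omega
  rw [← MonoidHom.range_eq_top]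
  refine Subgroup.eq_top_of_le_card _ ?_
  rw [card_sporM22]
  exact h1

theorem card_rho : Nat.card rho.range = 887040 := by
  refine le_antisymm (range_stab.trans ?_) card_rho_ge
  have : Nat.card (MulAction.stabilizer rho.range (none : GolayPt)) ≤ Nat.card Spor.M22 := by
    refine Nat.card_le_card_of_injective (fun r => (⟨r.1.1, ?_⟩ : Spor.M22)) fun a b h => ?_
    · obtain ⟨c, hc⟩ := r.1.2
      have hm : c ∈ Mtwo := by
        show rho c ∈ MulAction.stabilizer _ none
        rw [hc]
        exact MulAction.mem_stabilizer_iff.2 (MulAction.mem_stabilizer_iff.1 r.2)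
      exact hc ▸ rho_Mtwo hm
    · exact Subtype.ext (Subtype.ext (congrArg (fun x : Spor.M22 => x.1) h))
  rw [card_sporM22] at this
  omega

theorem card_ker_rho : Nat.card rho.ker = 3 * 2 ^ 13 := by
  have h := card_ker_mul
  rw [card_rho] at h
  exact Nat.eq_of_mul_eq_mul_right (show 0 < 887040 by norm_num) (h.trans (by norm_num))

theorem ker_le_Mtwo : rho.ker ≤ Mtwo := fun c hc => by
  show rho c ∈ MulAction.stabilizer _ none
  rw [MonoidHom.mem_ker.1 hc]
  exact one_mem _

theorem phiTwo_ker : phiTwo.ker = rho.ker.subgroupOf Mtwo := by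
  ext c
  simp [phiTwo, MonoidHom.mem_ker, Subgroup.mem_subgroupOf, Subtype.ext_iff]

theorem quot_M22 : ∃ _ : (rho.ker.subgroupOf Mtwo).Normal,
    Cfsg.IsM22 (Mtwo ⧸ rho.ker.subgroupOf Mtwo) := by
  refine ⟨inferInstance, ?_⟩
  let e : (Mtwo ⧸ rho.ker.subgroupOf Mtwo) ≃* Spor.M22 :=
    (QuotientGroup.quotientMulEquivOfEq phiTwo_ker.symm).trans
      (QuotientGroup.quotientKerEquivOfSurjective phiTwo phiTwo_surjective)
  exact ⟨e.isSimpleGroup_congr.2 isSimple_sporM22, (Nat.card_congr e.toEquiv).trans card_sporM22⟩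

theorem index_Mtwo : Mtwo.index = 2 := by
  have h1 := Mtwo.card_mul_index
  have h2 := phiTwo.ker.card_mul_index
  rw [Subgroup.index_ker, MonoidHom.range_eq_top.2 phiTwo_surjective, Subgroup.card_top,
    card_sporM22, phiTwo_ker,
    Nat.card_congr (Subgroup.subgroupOfEquivOfLe ker_le_Mtwo).toEquiv, card_ker_rho] at h2
  rw [card_Cz, ← h2] at h1
  omega

end Cfsg.Lib.J4Real
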