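import Mathlib
import Cfsg.Prelude.Def_Transfer
import Cfsg.Agent.Lib.PGroup.Basic

/-!
# Extraspecial two-groups from twelve generators with a nondegenerate pairing
-/

set_option autoImplicit false

namespace Cfsg.Lib.J4Real

open scoped commutatorElement

set_option linter.unusedSectionVars false

variable {Γ : Type*} [Group Γ] [Finite Γ]

/-- The data: generators, a central involution, commutators and dual elements. -/
structure PairData (Γ : Type*) [Group Γ] where
  /-- The number of generators. -/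
  n : ℕ
  /-- The generators. -/
  x : ℕ → Γ
  /-- The involution. -/
  z : Γ
  /-- The dual elements. -/
  y : ℕ → Γ
  n_pos : 0 < n
  z_sq : z * z = 1
  z_ne : z ≠ 1
  z_comm : ∀ i < n, x i * z = z * x i
  sq : ∀ i < n, x i * x i = 1 ∨ x i * x i = z
  comm : ∀ i < n, ∀ j < n, x i * x j = x j * x i ∨ x i * x j = x j * x i * z
  y_mem : ∀ i < n, y i ∈ Subgroup.closure ({z} ∪ x '' {i | i < n})
  dual : ∀ i < n, ∀ j < n, y i * x j = x j * y i * if i = j then z else 1

namespace PairData

variable (P : PairData Γ)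

/-- The group generated. -/
def sub : Subgroup Γ := Subgroup.closure ({P.z} ∪ P.x '' {i | i < P.n})

/-- The product of the first `k` generators chosen by the bits of `b`. -/
def prodB (k b : ℕ) : Γ := Nat.rec 1 (fun i r => r * cond (b.testBit i) (P.x i) 1) k

theorem prodB_zero (b : ℕ) : P.prodB 0 b = 1 := rfl

theorem prodB_succ (k b : ℕ) :
    P.prodB (k + 1) b = P.prodB k b * cond (b.testBit k) (P.x k) 1 := rfl

theorem z_mem : P.z ∈ P.sub := Subgroup.subset_closure (Or.inl rfl)

theorem x_mem {i : ℕ} (h : i < P.n) : P.x i ∈ P.sub := Subgroup.subset_closure (Or.inr ⟨i, h, rfl⟩)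

theorem z_central {g : Γ} (hg : g ∈ P.sub) : P.z * g = g * P.z := by
  have hle : P.sub ≤ Subgroup.centralizer {P.z} := by
    rw [sub, Subgroup.closure_le]
    rintro _ (rfl | ⟨i, hi, rfl⟩)
    · exact Subgroup.mem_centralizer_singleton_iff.2 rfl
    · exact Subgroup.mem_centralizer_singleton_iff.2 (P.z_comm i hi)
  exact (Subgroup.mem_centralizer_singleton_iff.1 (hle hg)).symm

/-- A power of the involution. -/
def zp (e : Bool) : Γ := cond e P.z 1

theorem zp_mem (e : Bool) : P.zp e ∈ P.sub := by
  cases e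
  · exact one_mem _
  · exact P.z_mem

theorem zp_mul (a b : Bool) : P.zp a * P.zp b = P.zp (xor a b) := by
  cases a <;> cases b <;> simp [zp, P.z_sq]

theorem zp_comm (a : Bool) {g : Γ} (hg : g ∈ P.sub) : P.zp a * g = g * P.zp a := by
  cases a
  · simp [zp]
  · exact P.z_central hg

theorem prodB_mem : ∀ k ≤ P.n, ∀ b, P.prodB k b ∈ P.sub
  | 0, _, _ => one_mem _
  | k + 1, h, b => by
    rw [prodB_succ]
    refine mul_mem (prodB_mem k (by omega) b) ?_
    cases b.testBit k
    · exact one_mem _
    · exact P.x_mem (by omega)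

theorem prodB_congr : ∀ k, ∀ a b : ℕ, (∀ i < k, a.testBit i = b.testBit i) →
    P.prodB k a = P.prodB k b
  | 0, _, _, _ => rfl
  | k + 1, a, b, h => by
    rw [prodB_succ, prodB_succ, prodB_congr k a b (fun i hi => h i (by omega)), h k (by omega)]

theorem prodB_mul_x : ∀ k ≤ P.n, ∀ b, ∀ j < k,
    ∃ c e, P.prodB k b * P.x j = P.prodB k c * P.zp e
  | 0, _, _, _, hj => absurd hj (Nat.not_lt_zero _)
  | k + 1, hk, b, j, hj => by
    rcases Nat.lt_or_ge j k with hjk | hjk
    · obtain ⟨c, e, hc⟩ := prodB_mul_x k (by omega) b j hjk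
      have hmove : ∃ e', cond (b.testBit k) (P.x k) 1 * P.x j =
          P.x j * cond (b.testBit k) (P.x k) 1 * P.zp e' := by
        cases b.testBit k
        · exact ⟨false, by simp [zp]⟩
        · rcases P.comm k (by omega) j (by omega) with h | h
          · exact ⟨false, by simpa [zp] using h⟩
          · exact ⟨true, by simpa [zp] using h⟩
      obtain ⟨e', he'⟩ := hmove
      refine ⟨(c &&& (2 ^ k - 1)) ||| (if b.testBit k then 2 ^ k else 0), xor e e', ?_⟩
      rw [prodB_succ, mul_assoc, he', ← mul_assoc, ← mul_assoc, hc]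
      have hmem : cond (b.testBit k) (P.x k) 1 ∈ P.sub := by
        cases b.testBit k
        · exact one_mem _
        · exact P.x_mem (by omega)
      rw [mul_assoc (P.prodB k c), P.zp_comm e hmem, ← mul_assoc, mul_assoc, P.zp_mul, prodB_succ]
      congr 1
      congr 1
      · refine P.prodB_congr k _ _ fun i hi => ?_
        rw [Nat.testBit_or, Nat.testBit_and, Nat.testBit_two_pow_sub_one, decide_eq_true hi]
        cases b.testBit k <;> simp [Nat.testBit_two_pow_of_ne (show k ≠ i by omega)]
      · rw [Nat.testBit_or, Nat.testBit_and, Nat.testBit_two_pow_sub_one]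
        cases b.testBit k <;> simp
    · obtain rfl : j = k := by omega
      cases hb : b.testBit j
      · refine ⟨b ||| 2 ^ j, false, ?_⟩
        rw [prodB_succ, prodB_succ, hb, P.prodB_congr j (b ||| 2 ^ j) b fun i hi => by
          simp [Nat.testBit_two_pow_of_ne (show j ≠ i by omega)]]
        simp [zp]
      · rcases P.sq j (by omega) with h | h
        · refine ⟨b &&& (2 ^ j - 1), false, ?_⟩
          rw [prodB_succ, prodB_succ, hb, P.prodB_congr j (b &&& (2 ^ j - 1)) b fun i hi => by
            simp [Nat.testBit_two_pow_sub_one, hi]]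
          simp [zp, mul_assoc, h, Nat.testBit_two_pow_sub_one]
        · refine ⟨b &&& (2 ^ j - 1), true, ?_⟩
          rw [prodB_succ, prodB_succ, hb, P.prodB_congr j (b &&& (2 ^ j - 1)) b fun i hi => by
            simp [Nat.testBit_two_pow_sub_one, hi]]
          simp [zp, mul_assoc, h, Nat.testBit_two_pow_sub_one]

theorem exists_normal_form {g : Γ} (hg : g ∈ P.sub) :
    ∃ b e, g = P.prodB P.n b * P.zp e := by
  let S : Set Γ := {g | ∃ b e, g = P.prodB P.n b * P.zp e}
  have key : ∀ u ∈ P.sub, ∀ a ∈ S, a * u ∈ S := by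
    intro u hu
    induction hu using Subgroup.closure_induction with
    | mem u hu =>
      rintro _ ⟨b, e, rfl⟩
      rcases hu with rfl | ⟨i, hi, rfl⟩
      · exact ⟨b, xor e true, by rw [mul_assoc, ← P.zp_mul]; rfl⟩
      · obtain ⟨c, e', hc⟩ := P.prodB_mul_x P.n le_rfl b i hi
        refine ⟨c, xor e' e, ?_⟩
        rw [mul_assoc, P.zp_comm e (P.x_mem hi), ← mul_assoc, hc, mul_assoc, P.zp_mul]
    | one => intro a ha; simpa using ha
    | mul x y _ _ hx hy => intro a ha; rw [← mul_assoc]; exact hy _ (hx a ha)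
    | inv x _ hx =>
      intro a ha
      have himg : (fun a => a * x) '' S = S :=
        Set.eq_of_subset_of_ncard_le (by rintro _ ⟨a, ha, rfl⟩; exact hx a ha)
          (le_of_eq (Set.ncard_image_of_injective _ (mul_left_injective x)).symm) (Set.toFinite _)
      rw [← himg] at ha
      obtain ⟨a', ha', rfl⟩ := ha
      simpa using ha'
  have h1 : (1 : Γ) ∈ S := ⟨0, false, by
    have : P.prodB P.n 0 = 1 := by
      have h : ∀ k, P.prodB k 0 = 1 := fun k => by
        induction k with
        | zero => rfl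
        | succ k ih => rw [prodB_succ, ih]; simp
      exact h _
    simp [this, zp]⟩
  have h2 : 1 * g ∈ S := key g hg 1 h1
  rwa [one_mul] at h2

theorem y_prodB {i : ℕ} (hi : i < P.n) : ∀ k ≤ P.n, ∀ b,
    P.y i * P.prodB k b = P.prodB k b * P.y i * P.zp (decide (i < k) && b.testBit i)
  | 0, _, b => by simp [prodB_zero, zp]
  | k + 1, hk, b => by
    have hc : cond (b.testBit k) (P.x k) 1 ∈ P.sub := by
      cases b.testBit k
      · exact one_mem _
      · exact P.x_mem (by omega)
    rw [prodB_succ, ← mul_assoc, y_prodB hi k (by omega) b, mul_assoc, P.zp_comm _ hc, ← mul_assoc,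
      mul_assoc (P.prodB k b) (P.y i)]
    rcases eq_or_ne i k with rfl | hne
    · cases hb : b.testBit i
      · simp [zp]
      · have h := P.dual i hi i hi
        rw [if_pos rfl] at h
        simp [zp, h, mul_assoc]
    · have h : P.y i * cond (b.testBit k) (P.x k) 1 = cond (b.testBit k) (P.x k) 1 * P.y i := by
        cases b.testBit k
        · simp
        · simpa [hne] using P.dual i hi k (by omega)
      rw [h, ← mul_assoc]
      have hd : decide (i < k + 1) = decide (i < k) := by
        simp only [decide_eq_decide]; omega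
      rw [hd]

theorem commutes_iff {g : Γ} {b : ℕ} {e : Bool} (hg : g = P.prodB P.n b * P.zp e) {i : ℕ}
    (hi : i < P.n) (h : P.y i * g = g * P.y i) : b.testBit i = false := by
  have hy : P.y i ∈ P.sub := P.y_mem i hi
  subst hg
  rw [← mul_assoc, P.y_prodB hi P.n le_rfl b, mul_assoc (P.prodB P.n b) (P.zp e),
    P.zp_comm e hy, ← mul_assoc, decide_eq_true hi, Bool.true_and,
    mul_assoc, P.zp_mul] at h
  have h' := mul_left_cancel h
  cases hb : b.testBit i
  · rfl
  · rw [hb] at h'
    cases e <;> simp [zp, P.z_ne, Ne.symm P.z_ne] at h'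

theorem center_form {g : Γ} (hg : g ∈ P.sub) (hc : ∀ u ∈ P.sub, u * g = g * u) :
    g = 1 ∨ g = P.z := by
  obtain ⟨b, e, rfl⟩ := P.exists_normal_form hg
  have hb : P.prodB P.n b = P.prodB P.n 0 := P.prodB_congr _ _ _ fun i hi => by
    rw [P.commutes_iff rfl hi (hc _ (P.y_mem i hi)), Nat.zero_testBit]
  have h0 : ∀ k, P.prodB k 0 = 1 := fun k => by
    induction k with
    | zero => rfl
    | succ k ih => rw [prodB_succ, ih]; simp
  rw [hb, h0, one_mul]
  cases e
  · exact Or.inl rfl
  · exact Or.inr rfl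

theorem card_sub : Nat.card P.sub = 2 ^ (P.n + 1) := by
  let f : Fin (2 ^ P.n) × Bool → P.sub := fun p =>
    ⟨P.prodB P.n p.1 * P.zp p.2, mul_mem (P.prodB_mem _ le_rfl _) (P.zp_mem _)⟩
  have hf : Function.Bijective f := by
    constructor
    · rintro ⟨b, e⟩ ⟨c, e'⟩ h
      have h' : P.prodB P.n b * P.zp e = P.prodB P.n c * P.zp e' := congrArg Subtype.val h
      have hbit : ∀ i < P.n, b.1.testBit i = c.1.testBit i := fun i hi => by
        have hy : P.y i ∈ P.sub := P.y_mem i hi
        have h2 := congrArg (fun g => P.y i * g * (P.y i)⁻¹) h'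
        simp only [← mul_assoc, P.y_prodB hi P.n le_rfl] at h2
        simp only [mul_assoc] at h2
        rw [← mul_assoc (P.zp _) (P.zp e), P.zp_mul, ← mul_assoc (P.zp _) (P.zp e'), P.zp_mul,
          P.zp_comm _ (inv_mem hy), P.zp_comm _ (inv_mem hy), ← mul_assoc (P.y i),
          ← mul_assoc (P.y i), mul_inv_cancel, one_mul, one_mul] at h2
        simp only [decide_eq_true hi, Bool.true_and] at h2
        rw [← P.zp_mul, ← P.zp_mul, ← mul_assoc, ← mul_assoc] at h2
        have hcomm : ∀ a d : Bool, P.prodB P.n b * P.zp a * P.zp d =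
            P.prodB P.n b * P.zp d * P.zp a := fun a d => by
          rw [mul_assoc, mul_assoc, P.zp_mul, P.zp_mul, Bool.xor_comm]
        rw [hcomm, h', mul_assoc, mul_assoc, P.zp_mul, P.zp_mul] at h2
        have h3 := mul_left_cancel h2
        revert h3
        generalize b.1.testBit i = p
        generalize c.1.testBit i = q
        cases p <;> cases q <;> cases e' <;> simp [zp, P.z_ne, Ne.symm P.z_ne]
      have hbc : b = c := Fin.ext (Nat.eq_of_testBit_eq fun i => by
        rcases Nat.lt_or_ge i P.n with hi | hi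
        · exact hbit i hi
        · rw [Nat.testBit_lt_two_pow (b.2.trans_le (Nat.pow_le_pow_right (by norm_num) hi)),
            Nat.testBit_lt_two_pow (c.2.trans_le (Nat.pow_le_pow_right (by norm_num) hi))])
      subst hbc
      have h4 := mul_left_cancel h'
      revert h4
      cases e <;> cases e' <;> simp [zp, P.z_ne, Ne.symm P.z_ne]
    · rintro ⟨g, hg⟩
      obtain ⟨b, e, rfl⟩ := P.exists_normal_form hg
      refine ⟨(⟨b % 2 ^ P.n, Nat.mod_lt _ (Nat.two_pow_pos _)⟩, e), Subtype.ext ?_⟩
      show P.prodB P.n (b % 2 ^ P.n) * _ = _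
      rw [P.prodB_congr P.n (b % 2 ^ P.n) b fun i hi => by simp [Nat.testBit_mod_two_pow, hi]]
  rw [← Nat.card_congr (Equiv.ofBijective f hf), Nat.card_prod, Nat.card_eq_fintype_card,
    Nat.card_eq_fintype_card, Fintype.card_fin, Fintype.card_bool, pow_succ]

theorem extraspecial : Cfsg.IsExtraspecial 2 P.sub := by
  haveI : Fact (Nat.Prime 2) := ⟨Nat.prime_two⟩
  have hP : IsPGroup 2 P.sub := IsPGroup.of_card P.card_sub
  have hcen : ∀ g : P.sub, g ∈ Subgroup.center P.sub ↔ g.1 = 1 ∨ g.1 = P.z := fun g => by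
    rw [Subgroup.mem_center_iff]
    refine ⟨fun h => P.center_form g.2 fun u hu => congrArg Subtype.val (h ⟨u, hu⟩), fun h u => ?_⟩
    refine Subtype.ext ?_
    show u.1 * g.1 = g.1 * u.1
    rcases h with h | h <;> rw [h]
    · simp
    · exact (P.z_central u.2).symm
  let zz : P.sub := ⟨P.z, P.z_mem⟩
  have hcard : Nat.card (Subgroup.center P.sub) = 2 := by
    rw [Nat.card_eq_two_iff]
    refine ⟨⟨1, (hcen 1).2 (Or.inl rfl)⟩, ⟨zz, (hcen zz).2 (Or.inr rfl)⟩, fun h => P.z_ne ?_, ?_⟩
    · exact (congrArg (fun a : Subgroup.center P.sub => a.1.1) h).symm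
    · ext a
      simp only [Set.mem_insert_iff, Set.mem_singleton_iff, Set.mem_univ, iff_true]
      rcases (hcen a.1).1 a.2 with h | h
      · exact Or.inl (Subtype.ext (Subtype.ext h))
      · exact Or.inr (Subtype.ext (Subtype.ext h))
  have hq : ∀ a b : P.sub ⧸ Subgroup.center P.sub, a * b = b * a := by
    have hgen : ∀ g ∈ P.sub, ∀ i (hi : i < P.n), ∀ hg : g ∈ P.sub,
        (QuotientGroup.mk (⟨g, hg⟩ * ⟨P.x i, P.x_mem hi⟩) : P.sub ⧸ Subgroup.center P.sub) =
          QuotientGroup.mk (⟨P.x i, P.x_mem hi⟩ * ⟨g, hg⟩) := by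
      intro g hg i hi hg'
      induction hg using Subgroup.closure_induction with
      | mem u hu =>
        rcases hu with rfl | ⟨k, hk, rfl⟩
        · congr 1
          exact Subtype.ext (P.z_central (P.x_mem hi))
        · rw [QuotientGroup.eq, hcen]
          rcases P.comm i hi k hk with h | h
          · refine Or.inl ?_
            simp only [Subgroup.coe_mul, Subgroup.coe_inv, h, inv_mul_cancel]
          · refine Or.inr ?_
            simp only [Subgroup.coe_mul, Subgroup.coe_inv]
            rw [h]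
            group
      | one => simp
      | mul a b ha hb iha ihb =>
        have e : (⟨a * b, hg'⟩ : P.sub) = ⟨a, ha⟩ * ⟨b, hb⟩ := rfl
        have h1 := iha ha
        have h2 := ihb hb
        rw [e]
        simp only [QuotientGroup.mk_mul] at h1 h2 ⊢
        rw [mul_assoc, h2, ← mul_assoc, h1, mul_assoc]
      | inv a ha iha =>
        have e : (⟨a⁻¹, hg'⟩ : P.sub) = (⟨a, ha⟩ : P.sub)⁻¹ := rfl
        have h1 := iha ha
        rw [QuotientGroup.mk_mul, QuotientGroup.mk_mul] at h1
        rw [e, QuotientGroup.mk_mul, QuotientGroup.mk_mul, QuotientGroup.mk_inv]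
        exact (Commute.inv_left h1).eq
    intro a b
    obtain ⟨⟨g, hg⟩, rfl⟩ := QuotientGroup.mk_surjective a
    obtain ⟨⟨h, hh⟩, rfl⟩ := QuotientGroup.mk_surjective b
    induction hh using Subgroup.closure_induction with
    | mem u hu =>
      rcases hu with rfl | ⟨k, hk, rfl⟩
      · rw [← QuotientGroup.mk_mul, ← QuotientGroup.mk_mul]
        congr 1
        exact Subtype.ext (P.z_central hg).symm
      · rw [← QuotientGroup.mk_mul, ← QuotientGroup.mk_mul]
        exact hgen g hg k hk hg
    | one => exact (mul_one _).trans (one_mul _).symm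
    | mul a b ha hb iha ihb =>
      rw [show (⟨a * b, mul_mem ha hb⟩ : P.sub) = ⟨a, ha⟩ * ⟨b, hb⟩ from rfl, QuotientGroup.mk_mul]
      exact (Commute.mul_right iha ihb).eq
    | inv a ha iha =>
      rw [show (⟨a⁻¹, inv_mem ha⟩ : P.sub) = (⟨a, ha⟩ : P.sub)⁻¹ from rfl, QuotientGroup.mk_inv]
      exact (Commute.inv_right iha).eq
  have hcl : commutator P.sub ≤ Subgroup.center P.sub := by
    rw [commutator_def, Subgroup.commutator_le]
    intro a _ b _
    rw [← QuotientGroup.eq_one_iff]
    show QuotientGroup.mk' (Subgroup.center P.sub) ⁅a, b⁆ = 1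
    rw [map_commutatorElement, commutatorElement_eq_one_iff_mul_comm]
    exact hq _ _
  have hco : commutator P.sub = Subgroup.center P.sub := by
    refine Subgroup.eq_of_le_of_card_ge hcl ?_
    rw [hcard]
    refine (Subgroup.one_lt_card_iff_ne_bot _).2 fun h => P.z_ne ?_
    let y0 : P.sub := ⟨P.y 0, P.y_mem 0 P.n_pos⟩
    let x0 : P.sub := ⟨P.x 0, P.x_mem P.n_pos⟩
    have h1 : ⁅y0, x0⁆ = 1 := Subgroup.mem_bot.1
      (h ▸ Subgroup.commutator_mem_commutator (Subgroup.mem_top y0) (Subgroup.mem_top x0))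
    have h2 : P.y 0 * P.x 0 = P.x 0 * P.y 0 :=
      congrArg Subtype.val (commutatorElement_eq_one_iff_mul_comm.1 h1)
    have h3 := P.dual 0 P.n_pos 0 P.n_pos
    rw [if_pos rfl, h2] at h3
    exact mul_eq_left.1 h3.symm
  refine ⟨⟨hP, le_antisymm ?_ ?_, hco⟩, hcard⟩
  · refine PGroup.frattini_le_of_commutator_le_of_pow_mem (p := 2) hcl fun g => ?_
    rw [← QuotientGroup.eq_one_iff]
    obtain ⟨g, hg⟩ := g
    show QuotientGroup.mk' (Subgroup.center P.sub) ((⟨g, hg⟩ : P.sub) ^ 2) = 1
    induction hg using Subgroup.closure_induction with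
    | mem u hu =>
      rw [QuotientGroup.mk'_apply, QuotientGroup.eq_one_iff, hcen]
      rcases hu with rfl | ⟨k, hk, rfl⟩
      · exact Or.inl (by simp [pow_two, P.z_sq])
      · simpa [pow_two] using P.sq k hk
    | one => rw [show (⟨1, one_mem _⟩ : P.sub) = 1 from rfl, one_pow, map_one]
    | mul a b ha hb iha ihb =>
      rw [show (⟨a * b, mul_mem ha hb⟩ : P.sub) = ⟨a, ha⟩ * ⟨b, hb⟩ from rfl, map_pow, map_mul,
        (show Commute (QuotientGroup.mk' (Subgroup.center P.sub) ⟨a, ha⟩)
          (QuotientGroup.mk' (Subgroup.center P.sub) ⟨b, hb⟩) from hq _ _).mul_pow, ← map_pow,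
        ← map_pow, iha, ihb, one_mul]
    | inv a ha iha =>
      rw [show (⟨a⁻¹, inv_mem ha⟩ : P.sub) = (⟨a, ha⟩ : P.sub)⁻¹ from rfl, inv_pow, map_inv, iha,
        inv_one]
  · rw [← hco]
    exact PGroup.commutator_le_frattini hP

end PairData

end Cfsg.Lib.J4Real
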