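import Cfsg.Agent.Lib.J4Real.CentPts
import Cfsg.Agent.Lib.J4Real.Pairing

/-!
# The extraspecial normal subgroup of the centralizer
-/

set_option autoImplicit false
set_option maxRecDepth 20000

namespace Cfsg.Lib.J4Real

open Cfsg.Lib.CosetEnum

/-- A generator in the centralizer. -/
noncomputable def qx (i : ℕ) : Cz :=
  if h : 14 + i < 27 then ⟨cEl (14 + i), cEl_mem_Cz h⟩ else 1

/-- The involution in its centralizer. -/
noncomputable def qz : Cz := ⟨cEl 26, cEl_mem_Cz (by norm_num)⟩

/-- The bit of a commutator. -/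
def qBit (i j : ℕ) : Bool := (qPair.getD i 0).testBit j

/-- The indices of a dual element. -/
def qList (i : ℕ) : List ℕ := (List.range 12).filter fun k => (qDual.getD i 0).testBit k

/-- The sum of commutator bits along a list. -/
def qPar (L : List ℕ) (j : ℕ) : Bool := L.foldr (fun k b => xor (qBit k j) b) false

theorem q_rel_ok : ((List.range 12).all fun i => sameC [14 + i, 14 + i] [] &&
      (List.range 12).all fun j =>
        sameC [14 + i, 14 + j] ([14 + j, 14 + i] ++ cond (qBit i j) [26] [])) = true ∧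
    sameC [26, 26] [] = true ∧
    ((List.range 12).all fun i => (List.range 12).all fun j =>
      qPar (qList i) j == decide (i = j)) = true :=
  ⟨by decide +kernel, by decide +kernel, by decide +kernel⟩

/-- The word of a conjugate. -/
def qWord (g i : ℕ) : List ℕ :=
  ((List.range 12).filter fun k => ((qConj.getD g []).getD i (0, 0)).1.testBit k).map (14 + ·) ++
    cond (Nat.beq ((qConj.getD g []).getD i (0, 0)).2 1) [26] []

theorem q_conj_ok : ((List.range 14).all fun g => (List.range 12).all fun i =>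
    sameC [g, 14 + i] (qWord g i ++ [g])) = true := by
  decide +kernel

theorem qx_val {i : ℕ} (hi : i < 12) : (qx i).1 = cEl (14 + i) := by
  rw [qx, dif_pos (by omega)]

theorem qz_val : qz.1 = zEl := rfl

theorem qz_central (c : Cz) : c * qz = qz * c := by
  refine Subtype.ext ?_
  rw [Subgroup.coe_mul, Subgroup.coe_mul, qz_val]
  exact Subgroup.mem_centralizer_singleton_iff.1 c.2.2

theorem qz_sq : qz * qz = 1 := by
  refine Subtype.ext ?_
  rw [Subgroup.coe_mul, Subgroup.coe_one, qz_val]
  exact eW_sq _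

theorem qz_ne : qz ≠ 1 := by
  intro h
  have h' : eW zMask = 1 := congrArg Subtype.val h
  have := eW_eq_one (by decide) h'
  exact absurd this (by decide)

theorem qx_comm {i j : ℕ} (hi : i < 12) (hj : j < 12) :
    qx i * qx j = qx j * qx i * cond (qBit i j) qz 1 := by
  have h := List.all_eq_true.1 q_rel_ok.1 i (List.mem_range.2 hi)
  rw [Bool.and_eq_true] at h
  have h' := sameC_prod (List.all_eq_true.1 h.2 j (List.mem_range.2 hj))
  rw [cProd_append, cProd_cons, cProd_single, cProd_cons, cProd_single, ← qx_val hi, ← qx_val hj]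
    at h'
  refine Subtype.ext ?_
  rw [Subgroup.coe_mul, Subgroup.coe_mul, Subgroup.coe_mul, h']
  cases qBit i j <;> simp [cProd, qz]

theorem qx_sq {i : ℕ} (hi : i < 12) : qx i * qx i = 1 := by
  have h := List.all_eq_true.1 q_rel_ok.1 i (List.mem_range.2 hi)
  rw [Bool.and_eq_true] at h
  have h' := sameC_prod h.1
  rw [cProd_cons, cProd_single, ← qx_val hi] at h'
  exact Subtype.ext h'

theorem prod_qx {j : ℕ} (hj : j < 12) : ∀ L : List ℕ, (∀ k ∈ L, k < 12) →
    (L.map qx).prod * qx j = qx j * (L.map qx).prod * cond (qPar L j) qz 1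
  | [], _ => by simp [qPar]
  | k :: L, hL => by
    have ih := prod_qx hj L fun a ha => hL a (List.mem_cons_of_mem _ ha)
    have hc := qx_comm (hL k (by simp)) hj
    rw [List.map_cons, List.prod_cons, mul_assoc, ih,
      show qPar (k :: L) j = xor (qBit k j) (qPar L j) from rfl,
      ← mul_assoc, ← mul_assoc (qx k), hc]
    cases qBit k j <;> cases qPar L j <;>
      simp only [cond_true, cond_false, Bool.false_xor, Bool.true_xor, Bool.not_true,
        Bool.not_false, mul_one]
    · group
    · group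
    · rw [mul_assoc (qx j * qx k), ← qz_central]; group
    · rw [mul_assoc (qx j * qx k), ← qz_central, ← mul_assoc, mul_assoc _ qz qz, qz_sq, mul_one]
      group

theorem qList_lt {i : ℕ} : ∀ k ∈ qList i, k < 12 := fun k hk =>
  List.mem_range.1 (List.mem_filter.1 hk).1

/-- The data of the extraspecial subgroup. -/
noncomputable def qData : PairData Cz where
  n := 12
  x := qx
  z := qz
  y i := ((qList i).map qx).prod
  n_pos := by norm_num
  z_sq := qz_sq
  z_ne := qz_ne
  z_comm i _ := qz_central (qx i)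
  sq i hi := Or.inl (qx_sq hi)
  comm i hi j hj := by
    have h := qx_comm hi hj
    cases hb : qBit i j <;> rw [hb] at h
    · exact Or.inl (by simpa using h)
    · exact Or.inr (by simpa using h)
  y_mem i _ := Subgroup.list_prod_mem _ fun a ha => by
    obtain ⟨k, hk, rfl⟩ := List.mem_map.1 ha
    exact Subgroup.subset_closure (Or.inr ⟨k, qList_lt k hk, rfl⟩)
  dual i hi j hj := by
    have h := List.all_eq_true.1 (List.all_eq_true.1 q_rel_ok.2.2 i (List.mem_range.2 hi)) j
      (List.mem_range.2 hj)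
    rw [beq_iff_eq] at h
    rw [prod_qx hj _ qList_lt, h]
    by_cases he : i = j <;> simp [he]

theorem qx_mem {i : ℕ} (hi : i < 12) : qx i ∈ qData.sub := qData.x_mem hi

theorem qz_mem : qz ∈ qData.sub := qData.z_mem

theorem qWord_mem {g i : ℕ} : ∃ q ∈ qData.sub, q.1 = cProd (qWord g i) := by
  unfold qWord
  rw [cProd_append]
  have h1 : ∀ L : List ℕ, (∀ k ∈ L, k < 12) →
      ∃ q ∈ qData.sub, q.1 = cProd (L.map (14 + ·)) := by
    intro L
    induction L with
    | nil => exact fun _ => ⟨1, one_mem _, rfl⟩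
    | cons k L ih =>
      intro hL
      obtain ⟨q, hq, e⟩ := ih fun a ha => hL a (List.mem_cons_of_mem _ ha)
      refine ⟨qx k * q, mul_mem (qx_mem (hL k (by simp))) hq, ?_⟩
      rw [List.map_cons, cProd_cons, ← e, Subgroup.coe_mul, qx_val (hL k (by simp))]
  obtain ⟨q, hq, e⟩ := h1 _ fun k hk => List.mem_range.1 (List.mem_filter.1 hk).1
  cases Nat.beq ((qConj.getD g []).getD i (0, 0)).2 1
  · exact ⟨q, hq, by rw [← e]; simp [cProd]⟩
  · exact ⟨q * qz, mul_mem hq qz_mem, by rw [← e, Subgroup.coe_mul]; simp [cProd, qz]⟩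

theorem qData_normal : qData.sub.Normal := by
  have hstep : ∀ g < 14, ∀ u ∈ qData.sub,
      ∀ c : Cz, c.1 = cEl g → c * u * c⁻¹ ∈ qData.sub := by
    intro g hg u hu c hc
    have hle : qData.sub ≤ qData.sub.comap (MulAut.conj c).toMonoidHom := by
      conv_lhs => rw [PairData.sub]
      rw [Subgroup.closure_le]
      rintro _ (rfl | ⟨i, hi, rfl⟩)
      · simp only [SetLike.mem_coe, Subgroup.mem_comap, MulEquiv.coe_toMonoidHom,
          MulAut.conj_apply]
        show c * qz * c⁻¹ ∈ _
        rw [qz_central, mul_inv_cancel_right]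
        exact qz_mem
      · simp only [SetLike.mem_coe, Subgroup.mem_comap, MulEquiv.coe_toMonoidHom,
          MulAut.conj_apply]
        have hi' : i < 12 := hi
        obtain ⟨q, hq, e⟩ := qWord_mem (g := g) (i := i)
        have h := sameC_prod (List.all_eq_true.1
          (List.all_eq_true.1 q_conj_ok g (List.mem_range.2 hg)) i (List.mem_range.2 hi'))
        rw [cProd_cons, cProd_single, cProd_append, cProd_single, ← e, ← qx_val hi', ← hc] at h
        show c * qx i * c⁻¹ ∈ _
        rw [show c * qx i = q * c from Subtype.ext h, mul_inv_cancel_right]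
        exact hq
    simpa using hle hu
  have hall : ∀ c : Equiv.Perm Vec, c ∈ Cgen → ∀ hc : c ∈ Cz, ∀ u ∈ qData.sub,
      (⟨c, hc⟩ : Cz) * u * (⟨c, hc⟩ : Cz)⁻¹ ∈ qData.sub := by
    intro c hgen
    induction hgen using Subgroup.closure_induction with
    | mem c hcg =>
      obtain ⟨g, hg, rfl⟩ := hcg
      exact fun hc u hu => hstep g hg u hu _ rfl
    | one => intro hc u hu; simpa [show (⟨1, hc⟩ : Cz) = 1 from rfl] using hu
    | mul a b ha hb iha ihb =>
      intro hc u hu
      have ha' : a ∈ Cz := Cz_eq ▸ ha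
      have hb' : b ∈ Cz := Cz_eq ▸ hb
      have := iha ha' _ (ihb hb' u hu)
      rw [show (⟨a * b, hc⟩ : Cz) = ⟨a, ha'⟩ * ⟨b, hb'⟩ from rfl]
      convert this using 1
      group
    | inv a ha iha =>
      intro hc u hu
      have ha' : a ∈ Cz := Cz_eq ▸ ha
      rw [show (⟨a⁻¹, hc⟩ : Cz) = (⟨a, ha'⟩ : Cz)⁻¹ from rfl, inv_inv]
      have himg : (fun y => (⟨a, ha'⟩ : Cz) * y * (⟨a, ha'⟩ : Cz)⁻¹) '' (qData.sub : Set Cz) =
          (qData.sub : Set Cz) :=
        Set.eq_of_subset_of_ncard_le (by rintro _ ⟨y, hy, rfl⟩; exact iha ha' y hy)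
          (le_of_eq (Set.ncard_image_of_injective _ fun p q h => by simpa using h).symm)
          (Set.toFinite _)
      have hu' : u ∈ (qData.sub : Set Cz) := hu
      rw [← himg] at hu'
      obtain ⟨y, hy, rfl⟩ := hu'
      simpa [mul_assoc] using hy
  exact ⟨fun u hu c => hall c.1 (Cz_eq.symm ▸ c.2) c.2 u hu⟩

theorem qData_le_ker : qData.sub ≤ rho.ker := by
  have hx : ∀ i < 12, qx i ∈ rho.ker := fun i hi => by
    rw [MonoidHom.mem_ker]
    refine rho_eq ⟨one_mem _, fun _ h => h, fun k hk => ⟨k, hk, ?_, fun _ => rfl⟩⟩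
    rw [qx_val hi]
    exact q_vec hi hk
  have hy : qData.y 0 ∈ rho.ker := Subgroup.list_prod_mem _ fun a ha => by
    obtain ⟨k, hk, rfl⟩ := List.mem_map.1 ha
    exact hx k (qList_lt k hk)
  rw [PairData.sub, Subgroup.closure_le]
  rintro _ (rfl | ⟨i, hi, rfl⟩)
  · have h := qData.dual 0 qData.n_pos 0 qData.n_pos
    rw [if_pos rfl] at h
    rw [SetLike.mem_coe, show qData.z = (qData.x 0 * qData.y 0)⁻¹ * (qData.y 0 * qData.x 0) by
      rw [h]; group]
    exact mul_mem (inv_mem (mul_mem (hx 0 (by norm_num)) hy)) (mul_mem hy (hx 0 (by norm_num)))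
  · exact hx i hi

theorem card_qData : Nat.card qData.sub = 2 ^ 13 := qData.card_sub

end Cfsg.Lib.J4Real
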