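import Cfsg.Agent.Lib.J4Real.Simple
import Cfsg.Agent.Lib.J4Real.DataCent

/-!
# The centralizer of an involution of the normal subgroup has order at most `77 · 283115520`
-/

set_option autoImplicit false
set_option maxRecDepth 20000

namespace Cfsg.Lib.J4Real

open Cfsg.Lib.CosetEnum
open scoped Pointwise

/-- The involution. -/
noncomputable def zEl : Equiv.Perm Vec := eW zMask

/-- Its centralizer in the group. -/
noncomputable def Cz : Subgroup (Equiv.Perm Vec) := Gsub ⊓ Subgroup.centralizer {zEl}

/-- Its centralizer in `2^11:M24`. -/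
noncomputable def CMz : Subgroup (Equiv.Perm Vec) := Msub ⊓ Subgroup.centralizer {zEl}

/-- The masks of its conjugates in the normal subgroup. -/
noncomputable def classList : List ℕ := (List.range 2048).filter fun a => (maskBits 0).testBit a

/-- The conjugates as elements. -/
noncomputable def classSet : Set (Equiv.Perm Vec) := {x | ∃ a ∈ classList, eW a = x}

/-- The span of a basis together with the words of the conjugates. -/
def spanPairs : List (ℕ × List ℕ) → List (ℕ × List ℕ)
  | [] => [(0, [])]
  | p :: L => spanPairs L ++ (spanPairs L).map fun q => (p.1 ^^^ q.1, p.2 ++ q.2)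

/-- The basis of an intersection with the words of its conjugates. -/
def basisPairs (j : ℕ) : List (ℕ × List ℕ) :=
  (List.range (hSpans.getD j []).length).map fun i =>
    ((hSpans.getD j []).getD i 0,
      ((hConj.getD j []).getD ((gensOf j).length - (hSpans.getD j []).length + i) (0, [])).2)

/-- The conjugates whose conjugates by a representative are conjugates in the normal subgroup. -/
noncomputable def goodList (j : ℕ) : List ℕ :=
  ((spanPairs (basisPairs j)).filter fun p => (maskBits 0).testBit p.1 &&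
    bits24.all fun i => Nat.beq (walkW p.2 i) i).map Prod.fst
where bits24 : List ℕ := List.range 24

/-- The certificate for the basis of one intersection. -/
def basisOK (j : ℕ) : Bool :=
  Nat.ble (hSpans.getD j []).length (gensOf j).length &&
  (List.range (hSpans.getD j []).length).all fun i =>
    Nat.beq ((gensOf j).getD ((gensOf j).length - (hSpans.getD j []).length + i) (0, [])).1
      ((hSpans.getD j []).getD i 0) &&
    ((gensOf j).getD ((gensOf j).length - (hSpans.getD j []).length + i) (0, [])).2.isEmpty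

theorem class_ok : (force (maskBits 0) fun d =>
    d.testBit zMask &&
    ((List.range 2048).all fun a => !(d.testBit a) ||
      (d.testBit (cMask 0 a) && d.testBit (cMask 1 a)))) = true := by decide +kernel

theorem class_len : classList.length = 1771 := by decide +kernel

theorem good_len : (List.range 7).map (fun j => (goodList j).length) = [1771, 7, 1, 0, 0, 0, 0] := by
  decide +kernel

theorem basis_ok : ((List.range 7).all fun j => basisOK j) = true := by decide +kernel

theorem zEl_mem : zEl ∈ Msub := eW_mem_M _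

theorem mem_classList {a : ℕ} : a ∈ classList ↔ a < 2048 ∧ (maskBits 0).testBit a = true := by
  simp [classList]

theorem cMask_lt {g : ℕ} (hg : g < 2) (a : ℕ) : cMask g a < 2048 := by
  have hC : ∀ g < 2, ∀ n < 11, (conjMasks.getD g []).getD n 0 < 2048 := by decide +kernel
  have : ∀ n ≤ 11, linMask (conjMasks.getD g []) n a < 2048 := by
    intro n
    induction n with
    | zero => intro _; simp [linMask]
    | succ n ih =>
      intro hn
      rw [linMask]
      refine Nat.xor_lt_two_pow (n := 11) (ih (by omega)) ?_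
      cases a.testBit n
      · norm_num
      · exact hC g hg n (by omega)
  exact this 11 le_rfl

theorem class_conj {m : Equiv.Perm Vec} (hm : m ∈ Msub) {x : Equiv.Perm Vec} (hx : x ∈ classSet) :
    m * x * m⁻¹ ∈ classSet := by
  have hK : ∀ s ∈ Ksub, ∀ x ∈ classSet, s * x * s⁻¹ ∈ classSet := by
    intro s hs
    have hfin : classSet.Finite := Set.toFinite _
    induction hs using Subgroup.closure_induction with
    | mem s hs =>
      obtain ⟨g, hg, rfl⟩ : ∃ g, g < 2 ∧ jp g = s := by
        rcases hs with rfl | rfl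
        exacts [⟨0, by norm_num, rfl⟩, ⟨1, by norm_num, rfl⟩]
      rintro _ ⟨a, ha, rfl⟩
      rw [conj_eW hg, mul_inv_cancel_right]
      refine ⟨_, mem_classList.2 ⟨cMask_lt hg a, ?_⟩, rfl⟩
      have h := class_ok
      simp only [force_eq, Bool.and_eq_true, List.all_eq_true, List.mem_range,
        Bool.or_eq_true, Bool.not_eq_true'] at h
      obtain ⟨ha1, ha2⟩ := mem_classList.1 ha
      have h' := (h.2 a ha1).resolve_left (by simp [ha2])
      rcases (show g = 0 ∨ g = 1 by omega) with rfl | rfl
      exacts [h'.1, h'.2]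
    | one => intro x hx; simpa using hx
    | mul a b _ _ iha ihb =>
      intro x hx
      have := iha _ (ihb x hx)
      rw [mul_inv_rev]
      simpa [mul_assoc] using this
    | inv a _ iha =>
      intro x hx
      have himg : (fun y => a * y * a⁻¹) '' classSet = classSet :=
        Set.eq_of_subset_of_ncard_le (by rintro _ ⟨y, hy, rfl⟩; exact iha y hy)
          (le_of_eq (Set.ncard_image_of_injective _ fun p q h => by simpa using h).symm) hfin
      rw [← himg] at hx
      obtain ⟨y, hy, rfl⟩ := hx
      simpa [mul_assoc] using hy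
  obtain ⟨b, s, hs, rfl⟩ := hm
  obtain ⟨c, hc, e⟩ := hK s hs x hx
  refine ⟨c, hc, ?_⟩
  rw [mul_inv_rev, eW_inv, show eW b * s * x * (s⁻¹ * eW b) = eW b * (s * x * s⁻¹) * eW b by group,
    ← e, eW_mul, eW_mul, Nat.xor_comm b c, Nat.xor_assoc, Nat.xor_self, Nat.xor_zero]

theorem zEl_class : zEl ∈ classSet := by
  have h := class_ok
  simp only [force_eq, Bool.and_eq_true] at h
  exact ⟨zMask, mem_classList.2 ⟨by decide, h.1⟩, rfl⟩

theorem maskRoot_zero : maskRoots.getD 0 0 = zMask := by decide

theorem class_reach {a : ℕ} (ha : (maskBits 0).testBit a = true) :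
    ∃ m ∈ Msub, m * zEl * m⁻¹ = eW a := by
  let S : Set (Equiv.Perm Vec) := {x | ∃ m ∈ Msub, m * zEl * m⁻¹ = x}
  refine maskGo_spec (S := S) (fun g hg x ⟨m, hm, e⟩ => ?_) ?_ _ 0 (fun _ h => by simp at h) a ha
  · refine ⟨jp g * m, mul_mem (K_le_M (Subgroup.subset_closure ?_)) hm, ?_⟩
    · rcases (show g = 0 ∨ g = 1 by omega) with rfl | rfl <;> simp
    · rw [← e, mul_inv_rev]; group
  · exact ⟨1, one_mem _, by rw [maskRoot_zero]; simp [zEl]⟩

theorem card_CMz : Nat.card CMz = 283115520 := by
  let H := CMz.subgroupOf Msub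
  let f : Msub ⧸ H → classSet := fun c => Quotient.liftOn' c
    (fun m : Msub => (⟨m.1 * zEl * m.1⁻¹, class_conj m.2 zEl_class⟩ : classSet)) fun a b hab => by
      rw [QuotientGroup.leftRel_apply] at hab
      have h : a.1⁻¹ * b.1 ∈ Subgroup.centralizer {zEl} := hab.2
      rw [Subgroup.mem_centralizer_singleton_iff] at h
      refine Subtype.ext ?_
      calc a.1 * zEl * a.1⁻¹ = a.1 * (zEl * (a.1⁻¹ * b.1)) * b.1⁻¹ := by group
        _ = a.1 * ((a.1⁻¹ * b.1) * zEl) * b.1⁻¹ := by rw [h]
        _ = _ := by group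
  have hinj : Function.Injective f := by
    intro p q
    obtain ⟨a, rfl⟩ := QuotientGroup.mk_surjective p
    obtain ⟨b, rfl⟩ := QuotientGroup.mk_surjective q
    intro e
    have e' : a.1 * zEl * a.1⁻¹ = b.1 * zEl * b.1⁻¹ := congrArg Subtype.val e
    rw [QuotientGroup.eq]
    refine ⟨Msub.mul_mem (Msub.inv_mem a.2) b.2, ?_⟩
    show a.1⁻¹ * b.1 ∈ Subgroup.centralizer {zEl}
    rw [Subgroup.mem_centralizer_singleton_iff]
    calc a.1⁻¹ * b.1 * zEl = a.1⁻¹ * (b.1 * zEl * b.1⁻¹) * b.1 := by group
      _ = a.1⁻¹ * (a.1 * zEl * a.1⁻¹) * b.1 := by rw [e']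
      _ = _ := by group
  have hsurj : Function.Surjective f := by
    rintro ⟨_, a, ha, rfl⟩
    obtain ⟨m, hm, e⟩ := class_reach (mem_classList.1 ha).2
    exact ⟨QuotientGroup.mk ⟨m, hm⟩, Subtype.ext e⟩
  have hcls : Nat.card classSet = 1771 := by
    have hb : Function.Bijective (fun i : Fin classList.length =>
        (⟨eW classList[i], classList[i], List.getElem_mem i.2, rfl⟩ : classSet)) := by
      refine ⟨fun i k h => Fin.ext ?_, fun x => ?_⟩
      · have hnd : classList.Nodup := List.nodup_range.filter _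
        refine (List.Nodup.getElem_inj_iff hnd (hi := i.2) (hj := k.2)).1 ?_
        exact eW_inj (mem_classList.1 (List.getElem_mem i.2)).1
          (mem_classList.1 (List.getElem_mem k.2)).1 (congrArg Subtype.val h)
      · obtain ⟨a, ha, e⟩ := x.2
        obtain ⟨i, hi, rfl⟩ := List.getElem_of_mem ha
        exact ⟨⟨i, hi⟩, Subtype.ext e⟩
    rw [← Nat.card_congr (Equiv.ofBijective _ hb), Nat.card_eq_fintype_card, Fintype.card_fin,
      class_len]
  have hidx : Nat.card (Msub ⧸ H) = 1771 := by
    rw [Nat.card_congr (Equiv.ofBijective f ⟨hinj, hsurj⟩), hcls]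
  have h := Subgroup.card_eq_card_quotient_mul_card_subgroup H
  have hH : Nat.card H = Nat.card CMz :=
    Nat.card_congr (Subgroup.subgroupOfEquivOfLe (inf_le_left : CMz ≤ Msub)).toEquiv
  rw [card_Msub, hidx, hH] at h
  omega

theorem orbitSet_card_eq {j : ℕ} (hj : j < 7) : (orbitSet j).ncard = cosetNum.getD j 0 := by
  classical
  refine le_antisymm (card_orbitSet hj) ?_
  have hsub : unionSet ⊆ orbitSet j ∪ {q : Coset | ∃ k < 7, k ≠ j ∧ q ∈ orbitSet k} := by
    rintro q ⟨k, hk, hq⟩
    rcases eq_or_ne k j with rfl | h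
    · exact Or.inl hq
    · exact Or.inr ⟨k, hk, h, hq⟩
  have h1 := (Set.ncard_le_ncard hsub (Set.toFinite _)).trans
    ((Set.ncard_union_le _ _).trans (Nat.add_le_add_left (card_union_sel fun k => k ≠ j) _))
  rw [← orbit_eq, orbit_card, Finset.filter_ne'] at h1
  have h2 := Finset.add_sum_erase (Finset.range 7) (fun k => cosetNum.getD k 0)
    (Finset.mem_range.2 hj)
  rw [cosetNum_sum] at h2
  omega

theorem coset_bound {j : ℕ} (hj : j < 7) :
    501397585920 ≤ cosetNum.getD j 0 * Nat.card (Hj j) := by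
  rcases Nat.eq_zero_or_pos j with rfl | hj0
  · rw [Hj_zero, card_Msub]; simp [cosetNum]
  · have hs := List.all_eq_true.1 size_ok j (List.mem_range.2 hj)
    simp only [Bool.and_eq_true, Bool.or_eq_true, Nat.beq_eq] at hs
    rw [← hs.2.resolve_left (by omega)]
    exact Nat.mul_le_mul_left _ (card_Hj_lower hj)

/-- The intersection with a conjugate is no larger than the known subgroup. -/
theorem mem_Hj_of_conj {j : ℕ} (hj : j < 7) {x : Equiv.Perm Vec} (hx : x ∈ Msub)
    (h : (gRep j)⁻¹ * x * gRep j ∈ Msub) : x ∈ Hj j := by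
  let H := (Hj j).subgroupOf Msub
  let f : Msub ⧸ H → orbitSet j := fun c => Quotient.liftOn' c
    (fun m : Msub => (⟨QuotientGroup.mk (m.1 * gRep j), m, rfl⟩ : orbitSet j)) fun a b hab => by
      rw [QuotientGroup.leftRel_apply] at hab
      have hh : a.1⁻¹ * b.1 ∈ Hj j := hab
      refine Subtype.ext ((mk_mul_M _ (conj_Hj hj hh)).symm.trans ?_)
      congr 1
      group
  have hsurj : Function.Surjective f := by
    rintro ⟨_, m, rfl⟩
    exact ⟨QuotientGroup.mk m, rfl⟩
  have hcard : Nat.card (Msub ⧸ H) ≤ Nat.card (orbitSet j) := by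
    rw [Nat.card_coe_set_eq, orbitSet_card_eq hj]
    have hmul := Subgroup.card_eq_card_quotient_mul_card_subgroup H
    rw [card_Msub, Nat.card_congr (Subgroup.subgroupOfEquivOfLe (Hj_le_M hj)).toEquiv] at hmul
    refine Nat.le_of_mul_le_mul_right ?_ (Nat.card_pos (α := Hj j))
    rw [← hmul]
    exact coset_bound hj
  have hinj := (hsurj.bijective_of_nat_card_le hcard).1
  have e : f (QuotientGroup.mk ⟨x, hx⟩) = f (QuotientGroup.mk 1) := by
    refine Subtype.ext ?_
    show (QuotientGroup.mk (x * gRep j) : Coset) = QuotientGroup.mk ((1 : Msub).1 * gRep j)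
    rw [← mk_mul_M ((1 : Msub).1 * gRep j) h]
    congr 1
    simp [← mul_assoc]
  have h' := hinj e
  rw [QuotientGroup.eq, Subgroup.mem_subgroupOf] at h'
  simpa using inv_mem h'

theorem span_exact {j : ℕ} (hj : j < 7) (hj0 : 0 < j) {a : ℕ} (ha : a < 2048)
    (h : eW a ∈ Hj j) : a ∈ spanList (hSpans.getD j []) := by
  by_contra hnot
  have hs := List.all_eq_true.1 size_ok j (List.mem_range.2 hj)
  simp only [Bool.and_eq_true, Bool.or_eq_true, Nat.beq_eq] at hs
  obtain ⟨hn, hlt⟩ := nodupMasks_spec _ 0 hs.1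
  let L := a :: spanList (hSpans.getD j [])
  have hLn : L.Nodup := List.nodup_cons.2 ⟨hnot, hn⟩
  have hLlt : ∀ b ∈ L, b < 2048 := fun b hb => by
    rcases List.mem_cons.1 hb with rfl | hb
    exacts [ha, (hlt b hb).1]
  have hLmem : ∀ b ∈ L, eW b ∈ Hj j := fun b hb => by
    rcases List.mem_cons.1 hb with rfl | hb
    exacts [h, span_mem hj (fun _ h => h) b hb]
  have hpre : ∀ s : Sj j, ∃ x : Msub, x.1 ∈ Hj j ∧ psi x = s.1 := fun s => by
    obtain ⟨x, hx, e⟩ := s.2
    exact ⟨x, hx, e⟩
  choose P hP1 hP2 using hpre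
  let f : Fin L.length × Sj j → Hj j := fun p =>
    ⟨eW L[p.1] * (P p.2).1, mul_mem (hLmem _ (List.getElem_mem p.1.2)) (hP1 p.2)⟩
  have hf : Function.Injective f := by
    rintro ⟨a, s⟩ ⟨b, t⟩ e
    have e' : (⟨eW L[a], eW_mem_M _⟩ : Msub) * P s = ⟨eW L[b], eW_mem_M _⟩ * P t :=
      Subtype.ext (by simpa [f] using e)
    have hone : ∀ m : ℕ, psi ⟨eW m, eW_mem_M m⟩ = 1 := fun m =>
      (psi_eq (m := m) (a := 1) (by simp)).trans (map_one _)
    have hst : s = t := by
      have hs := congrArg psi e'
      rw [map_mul, map_mul, hone, hone, one_mul, one_mul, hP2, hP2] at hs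
      exact Subtype.ext hs
    subst hst
    have hab := eW_inj (hLlt _ (List.getElem_mem a.2)) (hLlt _ (List.getElem_mem b.2))
      (congrArg Subtype.val (mul_right_cancel e'))
    exact Prod.ext (Fin.ext ((List.Nodup.getElem_inj_iff hLn).1 hab)) rfl
  have hle := Nat.card_le_card_of_injective f hf
  rw [Nat.card_prod, Nat.card_eq_fintype_card (α := Fin _), Fintype.card_fin] at hle
  have hup : cosetNum.getD j 0 * Nat.card (Hj j) ≤ 501397585920 := by
    rw [← orbitSet_card_eq hj, ← card_Msub,
      Subgroup.card_eq_card_quotient_mul_card_subgroup ((Hj j).subgroupOf Msub),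
      Nat.card_congr (Subgroup.subgroupOfEquivOfLe (Hj_le_M hj)).toEquiv]
    refine Nat.mul_le_mul_right _ ?_
    rw [← Nat.card_coe_set_eq]
    refine Nat.card_le_card_of_surjective (fun c => Quotient.liftOn' c
      (fun m : Msub => (⟨QuotientGroup.mk (m.1 * gRep j), m, rfl⟩ : orbitSet j)) fun a b hab => by
        rw [QuotientGroup.leftRel_apply] at hab
        have hh : a.1⁻¹ * b.1 ∈ Hj j := hab
        refine Subtype.ext ((mk_mul_M _ (conj_Hj hj hh)).symm.trans ?_)
        congr 1
        group) ?_
    rintro ⟨_, m, rfl⟩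
    exact ⟨QuotientGroup.mk m, rfl⟩
  have h2 := hs.2.resolve_left (by omega)
  have h3 : cosetNum.getD j 0 * ((spanList (hSpans.getD j [])).length *
      chainSize (hChains.getD j [])) < cosetNum.getD j 0 * Nat.card (Hj j) := by
    have hc := card_Sj hj
    have hn0 : 0 < cosetNum.getD j 0 := by
      rcases Nat.eq_zero_or_pos (cosetNum.getD j 0) with h0 | h0
      · rw [h0] at h2; simp at h2
      · exact h0
    refine Nat.mul_lt_mul_of_pos_left ?_ hn0
    refine lt_of_lt_of_le ?_ hle
    have hpos : 0 < chainSize (hChains.getD j []) := by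
      rcases Nat.eq_zero_or_pos (chainSize (hChains.getD j [])) with h0 | h0
      · rw [h0] at h2; simp at h2
      · exact h0
    exact lt_of_lt_of_le (Nat.mul_lt_mul_of_pos_right (Nat.lt_succ_self _) hpos)
      (Nat.mul_le_mul_left _ hc)
  omega

theorem spanPairs_fst : ∀ B : List (ℕ × List ℕ),
    (spanPairs B).map Prod.fst = spanList (B.map Prod.fst)
  | [] => rfl
  | p :: B => by
    simp only [spanPairs, List.map_append, List.map_map, List.map_cons, spanList,
      ← spanPairs_fst B]
    rfl

theorem basisPairs_fst (j : ℕ) : (basisPairs j).map Prod.fst = hSpans.getD j [] := by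
  refine List.ext_getElem (by simp [basisPairs]) fun i h1 h2 => ?_
  simp only [basisPairs, List.map_map, List.getElem_map, List.getElem_range, Function.comp_apply]
  exact List.getD_eq_getElem _ _ h2

set_option maxHeartbeats 1000000 in
/-- The permutation of the conjugate of an element of the span. -/
theorem spanPairs_spec {j : ℕ} (hj : j < 7) : ∀ B : List (ℕ × List ℕ),
    (∀ p ∈ B, p ∈ basisPairs j) → ∀ p ∈ spanPairs B, ∃ h : (gRep j)⁻¹ * eW p.1 * gRep j ∈ Msub,
      kOK p.2 = true ∧ psi ⟨_, h⟩ = ((p.2.map pLetter).map Cfsg.Lib.J4Pres.gPerm).prod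
  | [], _, p, hp => by
    simp [spanPairs] at hp
    subst hp
    refine ⟨by simp [eW_zero, one_mem], rfl, ?_⟩
    rw [List.map_nil, List.map_nil, List.prod_nil, ← map_one psi]
    congr 1
    exact Subtype.ext (by simp [eW_zero])
  | b :: B, hB, p, hp => by
    have ih := spanPairs_spec hj B fun q hq => hB q (List.mem_cons_of_mem _ hq)
    rcases List.mem_append.1 hp with hp | hp
    · exact ih p hp
    · obtain ⟨q, hq, rfl⟩ := List.mem_map.1 hp
      obtain ⟨hq1, hq2, hq3⟩ := ih q hq
      obtain ⟨i, hi, rfl⟩ := List.mem_map.1 (hB b (by simp))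
      rw [List.mem_range] at hi
      have hb := List.all_eq_true.1 basis_ok j (List.mem_range.2 hj)
      simp only [basisOK, Bool.and_eq_true, List.all_eq_true, List.mem_range, Nat.ble_eq,
        Nat.beq_eq, List.isEmpty_iff] at hb
      obtain ⟨hlen, hb'⟩ := hb
      obtain ⟨he1, he2⟩ := hb' i hi
      set k := (gensOf j).length - (hSpans.getD j []).length + i
      obtain ⟨hk1, hk2, hk3⟩ := (hCheck_parts hj).1 k (by omega)
      rw [wp_append, wp_append, wp_pL, wp_pL] at hk3
      have hconj : (gRep j)⁻¹ * eW ((hSpans.getD j []).getD i 0) * gRep j =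
          pW ((hConj.getD j []).getD k (0, [])) := by
        have : pW ((gensOf j).getD k (0, [])) = eW ((hSpans.getD j []).getD i 0) := by
          rw [pW, he1, he2, wp_nil, mul_one]
        rw [← this, mul_assoc, gRep, hk3, inv_mul_cancel_left]
      have hprod : (gRep j)⁻¹ * eW ((hSpans.getD j []).getD i 0 ^^^ q.1) * gRep j =
          pW ((hConj.getD j []).getD k (0, [])) * ((gRep j)⁻¹ * eW q.1 * gRep j) := by
        rw [← eW_mul, ← hconj]; group
      have hm : (gRep j)⁻¹ * eW ((hSpans.getD j []).getD i 0 ^^^ q.1) * gRep j ∈ Msub := by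
        rw [hprod]; exact mul_mem (pair_mem hk2) hq1
      refine ⟨hm, ?_, ?_⟩
      · simp only [kOK, List.all_append, Bool.and_eq_true]
        exact ⟨hk2, hq2⟩
      · simp only [List.map_append, List.prod_append]
        rw [← psi_pair (m := ((hConj.getD j []).getD k (0, [])).1) hk2, ← hq3, ← map_mul]
        congr 1
        exact Subtype.ext hprod

theorem good_sub {j : ℕ} (hj : j < 7) {a : ℕ} (ha : a ∈ classList)
    (h : (gRep j)⁻¹ * eW a * gRep j ∈ classSet) : a ∈ goodList j := by
  obtain ⟨b, hb, hbe⟩ := h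
  have hM : (gRep j)⁻¹ * eW a * gRep j ∈ Msub := hbe ▸ eW_mem_M b
  have hspan : a ∈ spanList (hSpans.getD j []) := by
    rcases Nat.eq_zero_or_pos j with rfl | hj0
    · have hall : ((List.range 2048).all fun c =>
          ((spanList (hSpans.getD 0 [])).any fun d => Nat.beq d c)) = true := by decide +kernel
      have := List.all_eq_true.1 hall a (List.mem_range.2 (mem_classList.1 ha).1)
      simp only [List.any_eq_true, Nat.beq_eq] at this
      obtain ⟨d, hd, rfl⟩ := this
      exact hd
    · exact span_exact hj hj0 (mem_classList.1 ha).1 (mem_Hj_of_conj hj (eW_mem_M a) hM)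
  rw [← basisPairs_fst, ← spanPairs_fst] at hspan
  obtain ⟨p, hp, rfl⟩ := List.mem_map.1 hspan
  obtain ⟨h1, h2, h3⟩ := spanPairs_spec hj _ (fun _ h => h) p hp
  refine List.mem_map.2 ⟨p, List.mem_filter.2 ⟨hp, ?_⟩, rfl⟩
  rw [Bool.and_eq_true, List.all_eq_true]
  refine ⟨(mem_classList.1 ha).2, fun i hi => ?_⟩
  have hone : psi ⟨_, h1⟩ = 1 :=
    (psi_eq (m := b) (a := 1) (by simp [hbe])).trans (map_one _)
  rw [h3] at hone
  have hw := walkW_spec h2 (Cfsg.Lib.Concrete.gpt ⟨i, by simpa [goodList.bits24] using hi⟩)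
  rw [hone, Equiv.Perm.one_apply, Cfsg.Lib.Concrete.gidx_gpt] at hw
  rw [← hw]
  exact Nat.beq_refl i

/-- The part of the orbit in one double coset. -/
noncomputable def fixPart (j : ℕ) : Set Coset :=
  {q | ∃ m ∈ Msub, (gRep j)⁻¹ * (m⁻¹ * zEl * m) * gRep j ∈ classSet ∧
    q = QuotientGroup.mk (m * gRep j)}

theorem fixPart_bound {j : ℕ} (hj : j < 7) :
    (fixPart j).ncard * Nat.card (Hj j) ≤ (goodList j).length * 283115520 := by
  let S : Set (Equiv.Perm Vec) :=
    {m | m ∈ Msub ∧ (gRep j)⁻¹ * (m⁻¹ * zEl * m) * gRep j ∈ classSet}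
  have h1 : (fixPart j).ncard * Nat.card (Hj j) ≤ Nat.card S := by
    have hsec : ∀ q : fixPart j, ∃ m : S, q.1 = QuotientGroup.mk (m.1 * gRep j) := fun q => by
      obtain ⟨m, hm, hc, e⟩ := q.2
      exact ⟨⟨m, hm, hc⟩, e⟩
    choose r hr using hsec
    have hmul : ∀ m : S, ∀ h : Hj j, m.1 * h.1 ∈ S := fun m h => by
      refine ⟨mul_mem m.2.1 (Hj_le_M hj h.2), ?_⟩
      have := class_conj (inv_mem (conj_Hj hj h.2)) m.2.2
      convert this using 1
      group
    let f : fixPart j × Hj j → S := fun p => ⟨_, hmul (r p.1) p.2⟩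
    have hf : Function.Injective f := by
      rintro ⟨q, h⟩ ⟨q', h'⟩ e
      have e' : (r q).1 * h.1 = (r q').1 * h'.1 := congrArg Subtype.val e
      have hq : q = q' := by
        refine Subtype.ext ?_
        rw [hr q, hr q', ← mk_mul_M _ (conj_Hj hj h.2),
          ← mk_mul_M ((r q').1 * gRep j) (conj_Hj hj h'.2)]
        congr 1
        calc _ = (r q).1 * h.1 * gRep j := by group
          _ = (r q').1 * h'.1 * gRep j := by rw [e']
          _ = _ := by group
      subst hq
      exact Prod.ext rfl (Subtype.ext (mul_left_cancel e'))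
    have := Nat.card_le_card_of_injective f hf
    rwa [Nat.card_prod, Nat.card_coe_set_eq] at this
  have hgood : ∀ m : S, ∃ i : Fin (goodList j).length, eW (goodList j)[i] = m.1⁻¹ * zEl * m.1 := by
    intro m
    obtain ⟨a, ha, e⟩ : m.1⁻¹ * zEl * m.1 ∈ classSet := by
      simpa using class_conj (inv_mem m.2.1) zEl_class
    have hm := m.2.2
    rw [← e] at hm
    obtain ⟨i, hi, hia⟩ := List.getElem_of_mem (good_sub hj ha hm)
    exact ⟨⟨i, hi⟩, by simp [hia, e]⟩
  choose gi hgi using hgood
  have h2 : Nat.card S ≤ (goodList j).length * 283115520 := by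
    by_cases hne : Nonempty S
    · let pick : Fin (goodList j).length → S := fun i =>
        @dite _ (∃ m : S, gi m = i) (Classical.propDecidable _) (fun h => h.choose) fun _ => hne.some
      let g : S → Fin (goodList j).length × CMz := fun m =>
        (gi m, ⟨m.1 * (pick (gi m)).1⁻¹, by
          refine ⟨Msub.mul_mem m.2.1 (Msub.inv_mem (pick (gi m)).2.1), ?_⟩
          have hex : ∃ m' : S, gi m' = gi m := ⟨m, rfl⟩
          have hp : gi (pick (gi m)) = gi m := by
            simp only [pick, dif_pos hex]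
            exact hex.choose_spec
          have e := (hgi m).symm.trans ((congrArg (fun i => eW (goodList j)[i]) hp).symm.trans
            (hgi (pick (gi m))))
          show _ ∈ Subgroup.centralizer {zEl}
          rw [Subgroup.mem_centralizer_singleton_iff]
          calc m.1 * (pick (gi m)).1⁻¹ * zEl
              = m.1 * ((pick (gi m)).1⁻¹ * zEl * (pick (gi m)).1) * (pick (gi m)).1⁻¹ := by group
            _ = m.1 * (m.1⁻¹ * zEl * m.1) * (pick (gi m)).1⁻¹ := by rw [e]
            _ = _ := by group⟩)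
      have hg : Function.Injective g := by
        intro a b e
        have e1 : gi a = gi b := congrArg Prod.fst e
        have e2 := congrArg (fun p => p.2.1) e
        simp only [g, e1] at e2
        exact Subtype.ext (mul_right_cancel e2)
      have := Nat.card_le_card_of_injective g hg
      rwa [Nat.card_prod, Nat.card_eq_fintype_card (α := Fin _), Fintype.card_fin, card_CMz] at this
    · rw [not_nonempty_iff] at hne
      simp [Nat.card_of_isEmpty]
  exact h1.trans h2

theorem base_orbit_sub {c : Equiv.Perm Vec} (hc : c ∈ Cz) : ∃ j < 7, c • base ∈ fixPart j := by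
  obtain ⟨j, hj, ⟨m, hm⟩, e⟩ := G_smul_union hc.1 base_mem
  refine ⟨j, hj, m, hm, ?_, e.symm⟩
  have e' : (QuotientGroup.mk (m * gRep j) : Coset) = QuotientGroup.mk (c * 1) := e
  rw [mul_one, QuotientGroup.eq] at e'
  have hz : c⁻¹ * zEl * c = zEl := by
    rw [mul_assoc, ← Subgroup.mem_centralizer_singleton_iff.1 hc.2, inv_mul_cancel_left]
  have := class_conj e' zEl_class
  convert this using 1
  calc _ = (m * gRep j)⁻¹ * zEl * (m * gRep j) := by group
    _ = (m * gRep j)⁻¹ * c * (c⁻¹ * zEl * c) * c⁻¹ * (m * gRep j) := by group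
    _ = _ := by rw [hz]; group

theorem card_Cz_orbit : {q : Coset | ∃ c ∈ Cz, c • base = q}.ncard ≤ 77 := by
  have hsub : {q : Coset | ∃ c ∈ Cz, c • base = q} ⊆ ⋃ j ∈ Finset.range 7, fixPart j := by
    rintro _ ⟨c, hc, rfl⟩
    obtain ⟨j, hj, h⟩ := base_orbit_sub hc
    exact Set.mem_biUnion (Finset.mem_range.2 hj) h
  refine (Set.ncard_le_ncard hsub (Set.toFinite _)).trans
    ((Finset.set_ncard_biUnion_le _ _).trans ?_)
  have hb : ∀ j < 7, (fixPart j).ncard * 501397585920 ≤
      cosetNum.getD j 0 * ((goodList j).length * 283115520) := fun j hj => by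
    calc _ ≤ (fixPart j).ncard * (cosetNum.getD j 0 * Nat.card (Hj j)) :=
          Nat.mul_le_mul_left _ (coset_bound hj)
      _ = cosetNum.getD j 0 * ((fixPart j).ncard * Nat.card (Hj j)) := by ring
      _ ≤ _ := Nat.mul_le_mul_left _ (fixPart_bound hj)
  have hl : ∀ j < 7, (goodList j).length = [1771, 7, 1, 0, 0, 0, 0].getD j 0 := fun j hj => by
    rw [← good_len]
    simp [hj]
  simp only [Finset.sum_range_succ, Finset.sum_range_zero]
  have b0 := hb 0 (by norm_num)
  have b1 := hb 1 (by norm_num)
  have b2 := hb 2 (by norm_num)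
  have b3 := hb 3 (by norm_num)
  have b4 := hb 4 (by norm_num)
  have b5 := hb 5 (by norm_num)
  have b6 := hb 6 (by norm_num)
  rw [hl _ (by norm_num)] at b0 b1 b2 b3 b4 b5 b6
  simp only [cosetNum, List.getD_cons_succ, List.getD_cons_zero] at b0 b1 b2 b3 b4 b5 b6
  have key : ∀ {x y B : ℕ}, x * 501397585920 ≤ y → y = B * 501397585920 → x ≤ B :=
    fun h e => Nat.le_of_mul_le_mul_right (e ▸ h) (by norm_num)
  have c0 := key (B := 1) b0 (by norm_num)
  have c1 := key (B := 60) b1 (by norm_num)
  have c2 := key (B := 16) b2 (by norm_num)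
  have c3 := key (B := 0) b3 (by norm_num)
  have c4 := key (B := 0) b4 (by norm_num)
  have c5 := key (B := 0) b5 (by norm_num)
  have c6 := key (B := 0) b6 (by norm_num)
  clear b0 b1 b2 b3 b4 b5 b6 hb key
  omega

end Cfsg.Lib.J4Real
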