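import Cfsg.Agent.Lib.J4Real.Mgrp
import Cfsg.Agent.Lib.J4Real.DataCover

/-!
# The identities closing the seven double cosets under the third letter
-/

set_option autoImplicit false
set_option maxRecDepth 20000

namespace Cfsg.Lib.J4Real

open Cfsg.Lib.CosetEnum

/-- An item of the certificate. -/
abbrev Item : Type := ℕ × ℕ × List ℕ × ℕ × List ℕ

/-- One identity. -/
noncomputable def idOne (j i : ℕ) : Bool :=
  let it := (covItems.getD j []).getD i (7, 0, [], 0, [])
  Nat.blt it.1 7 && kOK it.2.2.1 && kOK it.2.2.2.2 &&
    sameW ([2] ++ eL (fMasks.getD (i % 4) 0) ++ winv ((covRoots.getD j []).getD (i / 4) (0, [])).2 ++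
        gWords.getD j [])
      (eL it.2.1 ++ it.2.2.1 ++ gWords.getD it.1 [] ++ eL it.2.2.2.1 ++ it.2.2.2.2)

/-- The identities of one double coset. -/
noncomputable def idCheck (j : ℕ) : Bool :=
  (List.range (covItems.getD j []).length).all fun i => idOne j i

theorem idCheck0 : idCheck 0 = true := by decide +kernel

theorem idCheck1 : idCheck 1 = true := by decide +kernel

theorem idCheck2 : idCheck 2 = true := by decide +kernel

theorem idCheck3 : idCheck 3 = true := by decide +kernel

theorem idCheck4 : idCheck 4 = true := by decide +kernel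

theorem idCheck5 : idCheck 5 = true := by decide +kernel

theorem idCheck6 : idCheck 6 = true := by decide +kernel

theorem idCheck_all : ∀ j < 7, idCheck j = true := by
  intro j hj
  interval_cases j
  exacts [idCheck0, idCheck1, idCheck2, idCheck3, idCheck4, idCheck5, idCheck6]

end Cfsg.Lib.J4Real
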