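import Cfsg.Agent.Lib.J4Real.Simple

/-!
# The group as a group of matrices
-/

set_option autoImplicit false
set_option maxRecDepth 20000

namespace Cfsg.Lib.J4Real

open Cfsg.Lib.CosetEnum
open Cfsg.Lib.J4Pres

/-- The bits of a vector. -/
def toBits (v : Vec) : Fin 112 → ZMod 2 := fun i => if v.1.testBit i.1 then 1 else 0

theorem toBits_inj : Function.Injective toBits := by
  intro a b h
  refine Subtype.ext (Nat.eq_of_testBit_eq fun i => ?_)
  rcases Nat.lt_or_ge i 112 with hi | hi
  · have := congrFun h ⟨i, hi⟩
    simp only [toBits] at this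
    cases ha : a.1.testBit i <;> cases hb : b.1.testBit i <;> simp [ha, hb] at this ⊢
  · rw [Nat.testBit_lt_two_pow (a.2.trans_le (Nat.pow_le_pow_right (by norm_num) hi)),
      Nat.testBit_lt_two_pow (b.2.trans_le (Nat.pow_le_pow_right (by norm_num) hi))]

/-- Vectors as numerals and as functions. -/
noncomputable def bitsEquiv : Vec ≃ (Fin 112 → ZMod 2) :=
  Equiv.ofBijective toBits (toBits_inj.bijective_of_nat_card_le (by
    have e : Vec ≃ Fin (2 ^ 112) := ⟨fun v => ⟨v.1, v.2⟩, fun v => ⟨v.1, v.2⟩, fun _ => rfl, fun _ => rfl⟩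
    rw [Nat.card_congr e, Nat.card_fun, Nat.card_zmod, Nat.card_eq_fintype_card,
      Nat.card_eq_fintype_card, Fintype.card_fin, Fintype.card_fin]))

/-- The sum of two vectors. -/
def vxor (a b : Vec) : Vec := ⟨a.1 ^^^ b.1, Nat.xor_lt_two_pow a.2 b.2⟩

theorem toBits_vxor (a b : Vec) : toBits (vxor a b) = toBits a + toBits b := by
  funext i
  simp only [toBits, vxor, Pi.add_apply, Nat.testBit_xor]
  cases a.1.testBit i.1 <;> cases b.1.testBit i.1 <;> simp <;> decide

/-- A permutation respecting sums. -/
noncomputable def addSub : Subgroup (Equiv.Perm Vec) where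
  carrier := {p | ∀ a b, p (vxor a b) = vxor (p a) (p b)}
  one_mem' := fun _ _ => rfl
  mul_mem' := fun {p q} hp hq a b => by
    rw [Equiv.Perm.mul_apply, Equiv.Perm.mul_apply, Equiv.Perm.mul_apply, hq a b]
    exact hp _ _
  inv_mem' := fun {p} hp a b => by
    apply p.injective
    rw [hp]
    simp

theorem G_le_addSub : Gsub ≤ addSub := by
  rw [Gsub, Subgroup.closure_le]
  have h : ∀ g < 20, jp g ∈ addSub := fun g hg a b => Subtype.ext (by
    rw [jp_apply hg]
    show applyWord rows [g] (a.1 ^^^ b.1) = (jp g a).1 ^^^ (jp g b).1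
    rw [applyWord_xor, jp_apply hg, jp_apply hg])
  rintro _ (rfl | rfl | rfl) <;> exact h _ (by norm_num)

/-- An element of the group as a linear map. -/
noncomputable def linOf (g : Gsub) : (Fin 112 → ZMod 2) →ₗ[ZMod 2] (Fin 112 → ZMod 2) :=
  AddMonoidHom.toZModLinearMap 2 (AddMonoidHom.mk' (fun v => bitsEquiv (g.1 (bitsEquiv.symm v)))
    fun v w => by
      have hs : bitsEquiv.symm (v + w) = vxor (bitsEquiv.symm v) (bitsEquiv.symm w) := by
        rw [Equiv.symm_apply_eq]
        show _ = toBits _
        rw [toBits_vxor]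
        show _ = bitsEquiv (bitsEquiv.symm v) + bitsEquiv (bitsEquiv.symm w)
        simp
      rw [hs, G_le_addSub g.2]
      exact toBits_vxor _ _)

theorem linOf_apply (g : Gsub) (v : Fin 112 → ZMod 2) :
    linOf g v = bitsEquiv (g.1 (bitsEquiv.symm v)) := rfl

/-- The representation by matrices. -/
noncomputable def matHom : Gsub →* GL (Fin 112) (ZMod 2) :=
  MonoidHom.toHomUnits
    { toFun := fun g => LinearMap.toMatrixAlgEquiv' (linOf g)
      map_one' := by
        rw [show linOf 1 = 1 from LinearMap.ext fun v => by simp [linOf_apply]]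
        exact map_one _
      map_mul' := fun g h => by
        rw [show linOf (g * h) = linOf g * linOf h from LinearMap.ext fun v => by
          simp [linOf_apply]]
        exact map_mul _ _ _ }

theorem matHom_inj : Function.Injective matHom := by
  intro g h e
  have e' : linOf g = linOf h := LinearMap.toMatrixAlgEquiv'.injective (congrArg Units.val e)
  refine Subtype.ext (Equiv.ext fun v => ?_)
  have := congrArg (fun f => f (bitsEquiv v)) e'
  simpa [linOf_apply] using this

theorem realisation : ∃ H : Subgroup (GL (Fin 112) (ZMod 2)),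
    IsSimpleGroup H ∧ Nat.card H = 86775571046077562880 := by
  let e := MonoidHom.ofInjective matHom_inj
  haveI := isSimple_Gsub
  haveI : Nontrivial matHom.range := e.symm.toEquiv.nontrivial
  exact ⟨matHom.range, IsSimpleGroup.isSimpleGroup_of_surjective e.toMonoidHom e.surjective,
    by rw [← Nat.card_congr e.toEquiv, card_Gsub]⟩

end Cfsg.Lib.J4Real
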