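import Cfsg.Agent.Lib.J4Real.Base

/-!
# The complement M24 and the projection onto it
-/

set_option autoImplicit false
set_option maxRecDepth 20000

namespace Cfsg.Lib.J4Real

open Cfsg.Lib.CosetEnum
open Cfsg.Lib.J4Pres
open Cfsg.Lib.Concrete (card_M24 isSimple_M24)

/-- The letters of the complement, numbered as in the two-letter alphabet. -/
def kLetter (g : ℕ) : ℕ := [0, 1, 3, 4].getD g 0

/-- All letters are in the complement. -/
def kOK (w : List ℕ) : Bool :=
  w.all fun g => Nat.beq g 0 || Nat.beq g 1 || Nat.beq g 3 || Nat.beq g 4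

/-- The two-letter number of a letter of the complement. -/
def pLetter (g : ℕ) : ℕ := if g < 2 then g else g - 1

theorem kOK_low {w : List ℕ} (h : kOK w = true) : low w = true := by
  simp only [kOK, List.all_eq_true, Bool.or_eq_true, Nat.beq_eq] at h
  simp only [low, List.all_eq_true, Nat.blt_eq]
  intro g hg
  have := h g hg
  omega

theorem kLetter_pLetter {g : ℕ} (h : g = 0 ∨ g = 1 ∨ g = 3 ∨ g = 4) :
    pLetter g < 4 ∧ kLetter (pLetter g) = g := by
  rcases h with rfl | rfl | rfl | rfl <;> simp [pLetter, kLetter]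

/-- The complement. -/
noncomputable def Ksub : Subgroup (Equiv.Perm Vec) := Subgroup.closure {jp 0, jp 1}

theorem kOK_mem : ∀ {w : List ℕ}, kOK w = true → wp w ∈ Ksub
  | [], _ => by simp [wp_nil]
  | g :: w, h => by
    simp only [kOK, List.all_cons, Bool.and_eq_true, Bool.or_eq_true, Nat.beq_eq] at h
    rw [wp_cons]
    refine mul_mem ?_ (kOK_mem (w := w) (by simpa [kOK] using h.2))
    have h0 : jp 0 ∈ Ksub := Subgroup.subset_closure (by simp)
    have h1 : jp 1 ∈ Ksub := Subgroup.subset_closure (by simp)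
    rcases h.1 with ((rfl | rfl) | rfl) | rfl
    · exact h0
    · exact h1
    · have := jp_flip (g := 0) (by norm_num)
      rw [show flipX 0 = 3 from rfl] at this
      exact this ▸ inv_mem h0
    · have := jp_flip (g := 1) (by norm_num)
      rw [show flipX 1 = 4 from rfl] at this
      exact this ▸ inv_mem h1

theorem kRels_ok : (baseWords.all fun w => sameW (w.map kLetter) []) = true := by decide +kernel

/-- The image of the seed under the first letter. -/
theorem x_moves : Nat.beq (applyWord rows [0] 1) 1 = false := by decide +kernel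

theorem exists_proj : ∃ f : TwoGroup →* Equiv.Perm Vec, Function.Injective f ∧ f.range = Ksub ∧
    ∃ p : TwoGroup →* Equiv.Perm GolayPt, Function.Injective p ∧
      ∀ g < 4, f (twoGen g) = jp (kLetter g) ∧ p (twoGen g) = gPerm g := by
  have hpair : ∀ g < 2, jp (kLetter g) * jp (kLetter (g + 2)) = 1 := by
    intro g hg
    have h := jp_flip (g := kLetter g) (by interval_cases g <;> simp [kLetter])
    have e : kLetter (g + 2) = flipX (kLetter g) := by interval_cases g <;> rfl
    rw [e, h, mul_inv_cancel]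
  have hrel : ∀ w ∈ baseWords, (w.map fun g => jp (kLetter g)).prod = 1 := by
    intro w hw
    have h := sameW_wp (List.all_eq_true.1 kRels_ok w hw)
    rw [wp_nil, wp, List.map_map] at h
    exact h
  obtain ⟨f, hf, hr⟩ := exists_hom (fun g => jp (kLetter g)) hpair hrel
  obtain ⟨p, hp, hpr⟩ := exists_hom gPerm gPerm_pair gPerm_rels
  obtain ⟨φ⟩ := twoGroup_iso
  haveI : IsSimpleGroup M24 := isSimple_M24
  haveI : Nontrivial TwoGroup := φ.toEquiv.nontrivial
  haveI : IsSimpleGroup TwoGroup := IsSimpleGroup.isSimpleGroup_of_surjective φ.symm.toMonoidHom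
    φ.symm.surjective
  have hx : jp 0 ≠ 1 := by
    intro h
    have h' := congrArg (fun q : Equiv.Perm Vec => (q ⟨1, by norm_num⟩).1) h
    simp only [Equiv.Perm.one_apply, jp_apply (show (0 : ℕ) < 20 by norm_num)] at h'
    have := x_moves
    rw [h'] at this
    simp at this
  have hgx : gPerm 0 ≠ 1 := by
    intro h
    have h' : ∀ x, letterWalk [0] x = x := fun x => by
      rw [← gPerm_word [0] (by simp)]; simp [h]
    revert h'; decide +kernel
  refine ⟨f, ?_, ?_, p, ?_, fun g hg => ⟨hf g hg, hp g hg⟩⟩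
  · rcases Subgroup.Normal.eq_bot_or_eq_top (f.normal_ker) with h | h
    · exact (MonoidHom.ker_eq_bot_iff f).1 h
    · exfalso
      have h1 : twoGen 0 ∈ f.ker := h ▸ Subgroup.mem_top _
      rw [MonoidHom.mem_ker, hf 0 (by norm_num)] at h1
      exact hx h1
  · rw [hr, Ksub]
    congr 1
    ext a
    constructor
    · rintro ⟨g, hg, rfl⟩
      have hg' : g < 2 := hg
      interval_cases g
      · exact Or.inl rfl
      · exact Or.inr rfl
    · rintro (rfl | rfl)
      · exact ⟨0, show (0 : ℕ) < 2 by norm_num, rfl⟩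
      · exact ⟨1, show (1 : ℕ) < 2 by norm_num, rfl⟩
  · rcases Subgroup.Normal.eq_bot_or_eq_top (p.normal_ker) with h | h
    · exact (MonoidHom.ker_eq_bot_iff p).1 h
    · exfalso
      have h1 : twoGen 0 ∈ p.ker := h ▸ Subgroup.mem_top _
      rw [MonoidHom.mem_ker, hp 0 (by norm_num)] at h1
      exact hgx h1

/-- The embedding of the presented M24. -/
noncomputable def kEmb : TwoGroup →* Equiv.Perm Vec := Classical.choose exists_proj

theorem kEmb_inj : Function.Injective kEmb := (Classical.choose_spec exists_proj).1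

theorem kEmb_range : kEmb.range = Ksub := (Classical.choose_spec exists_proj).2.1

/-- The action of the presented M24 on 24 points. -/
noncomputable def kPts : TwoGroup →* Equiv.Perm GolayPt :=
  Classical.choose (Classical.choose_spec exists_proj).2.2

theorem kPts_spec : Function.Injective kPts ∧
    ∀ g < 4, kEmb (twoGen g) = jp (kLetter g) ∧ kPts (twoGen g) = gPerm g :=
  Classical.choose_spec (Classical.choose_spec exists_proj).2.2

theorem mem_Ksub {s : Equiv.Perm Vec} (h : s ∈ Ksub) : ∃ a : TwoGroup, kEmb a = s := by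
  rwa [← kEmb_range] at h

theorem kEmb_word {w : List ℕ} (h : kOK w = true) :
    kEmb ((w.map fun g => twoGen (pLetter g)).prod) = wp w ∧
      kPts ((w.map fun g => twoGen (pLetter g)).prod) = ((w.map pLetter).map gPerm).prod := by
  simp only [kOK, List.all_eq_true, Bool.or_eq_true, Nat.beq_eq] at h
  rw [map_list_prod, map_list_prod, List.map_map, List.map_map, List.map_map, wp]
  constructor <;> refine congrArg List.prod (List.map_congr_left fun g hg => ?_)
  all_goals
    obtain ⟨h1, h2⟩ := kLetter_pLetter (g := g) (by have := h g hg; omega)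
  · exact (kPts_spec.2 _ h1).1.trans (by rw [h2])
  · exact (kPts_spec.2 _ h1).2

theorem kEmb_mem (a : TwoGroup) : kEmb a ∈ Ksub := by rw [← kEmb_range]; exact ⟨a, rfl⟩

theorem card_Ksub : Nat.card Ksub = 244823040 := by
  obtain ⟨φ⟩ := twoGroup_iso
  rw [← kEmb_range, ← card_M24, ← Nat.card_congr (MonoidHom.ofInjective kEmb_inj).toEquiv,
    Nat.card_congr φ.toEquiv]

theorem conj_ok : ((List.range 2).all fun g => (List.range 11).all fun k =>
    sameW [g, 6 + k] (eL ((conjMasks.getD g []).getD k 0) ++ [g])) = true := by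
  decide +kernel

/-- The image of a mask under conjugation, below `n`. -/
def linMask (C : List ℕ) : ℕ → ℕ → ℕ
  | 0, _ => 0
  | n + 1, m => linMask C n m ^^^ cond (m.testBit n) (C.getD n 0) 0

theorem conj_eLn {g : ℕ} (hg : g < 2) : ∀ n ≤ 11, ∀ m,
    jp g * wp (eLn n m) = eW (linMask (conjMasks.getD g []) n m) * jp g
  | 0, _, _ => by simp [eLn, wp_nil, linMask, eW_zero]
  | n + 1, hn, m => by
    have h := sameW_wp (List.all_eq_true.1 (List.all_eq_true.1 conj_ok g (List.mem_range.2 hg)) n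
      (List.mem_range.2 (by omega)))
    rw [wp_cons, wp_single, wp_append, wp_single, ← eW] at h
    rw [wp_eLn_succ, linMask, ← mul_assoc, conj_eLn hg n (by omega), ← eW_mul, mul_assoc, mul_assoc]
    cases m.testBit n
    · simp [eW_zero]
    · simp only [cond_true]; rw [h]

/-- Conjugation of a mask by one of two letters. -/
def cMask (g m : ℕ) : ℕ := linMask (conjMasks.getD g []) 11 m

theorem conj_eW {g : ℕ} (hg : g < 2) (m : ℕ) : jp g * eW m = eW (cMask g m) * jp g :=
  conj_eLn hg 11 le_rfl m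

theorem Ksub_le_normalizer : Ksub ≤ Subgroup.normalizer (Esub : Set (Equiv.Perm Vec)) := by
  have key : ∀ g < 2, ∀ x ∈ Esub, jp g * x * (jp g)⁻¹ ∈ Esub := by
    intro g hg x hx
    obtain ⟨m, -, rfl⟩ := mem_Esub hx
    rw [conj_eW hg, mul_inv_cancel_right]
    exact eW_mem _
  rw [Ksub, Subgroup.closure_le]
  intro s hs
  obtain ⟨g, hg, rfl⟩ : ∃ g, g < 2 ∧ jp g = s := by
    rcases hs with rfl | rfl
    exacts [⟨0, by norm_num, rfl⟩, ⟨1, by norm_num, rfl⟩]
  rw [SetLike.mem_coe, Subgroup.mem_normalizer_iff]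
  intro x
  refine ⟨key g hg x, fun hx => ?_⟩
  have hinj : Function.Injective (fun y : Esub => (⟨jp g * y.1 * (jp g)⁻¹, key g hg y.1 y.2⟩ : Esub)) := by
    intro a b h
    have := congrArg Subtype.val h
    simp only [mul_right_cancel_iff, mul_left_cancel_iff] at this
    exact Subtype.ext this
  haveI : Finite Esub := Nat.finite_of_card_ne_zero (by rw [card_Esub]; norm_num)
  obtain ⟨y, hy⟩ := (Finite.injective_iff_surjective.1 hinj) ⟨_, hx⟩
  have := congrArg Subtype.val hy
  simp only [mul_right_cancel_iff, mul_left_cancel_iff] at this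
  exact this ▸ y.2

theorem conj_mem_E {s x : Equiv.Perm Vec} (hs : s ∈ Ksub) (hx : x ∈ Esub) :
    s * x * s⁻¹ ∈ Esub :=
  (Subgroup.mem_normalizer_iff.1 (Ksub_le_normalizer hs) x).1 hx

theorem E_inf_K {x : Equiv.Perm Vec} (hE : x ∈ Esub) (hK : x ∈ Ksub) : x = 1 := by
  let N : Subgroup TwoGroup := Esub.comap kEmb
  haveI : N.Normal := ⟨fun n hn a => by
    simp only [N, Subgroup.mem_comap, map_mul, map_inv] at hn ⊢
    exact conj_mem_E (by rw [← kEmb_range]; exact ⟨a, rfl⟩) hn⟩
  obtain ⟨φ⟩ := twoGroup_iso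
  haveI : IsSimpleGroup M24 := isSimple_M24
  haveI : Nontrivial TwoGroup := φ.toEquiv.nontrivial
  haveI : IsSimpleGroup TwoGroup := IsSimpleGroup.isSimpleGroup_of_surjective φ.symm.toMonoidHom
    φ.symm.surjective
  obtain ⟨a, rfl⟩ := mem_Ksub hK
  rcases Subgroup.Normal.eq_bot_or_eq_top ‹N.Normal› with h | h
  · have : a ∈ N := hE
    rw [h, Subgroup.mem_bot] at this
    rw [this, map_one]
  · exfalso
    have hcomm : ∀ b c : TwoGroup, b * c = c * b := by
      intro b c
      refine kEmb_inj ?_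
      have hb : b ∈ N := h ▸ Subgroup.mem_top b
      have hc : c ∈ N := h ▸ Subgroup.mem_top c
      obtain ⟨i, -, hi⟩ := mem_Esub hb
      obtain ⟨j, -, hj⟩ := mem_Esub hc
      rw [map_mul, map_mul, ← hi, ← hj, eW_mul, eW_mul, Nat.xor_comm]
    have h' := congrArg kPts (hcomm (twoGen 0) (twoGen 1))
    rw [map_mul, map_mul, (kPts_spec.2 0 (by norm_num)).2, (kPts_spec.2 1 (by norm_num)).2] at h'
    have h'' : ∀ x, letterWalk [0, 1] x = letterWalk [1, 0] x := fun x => by
      rw [← gPerm_word [0, 1] (by simp), ← gPerm_word [1, 0] (by simp)]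
      simp only [List.map_cons, List.map_nil, List.prod_cons, List.prod_nil, mul_one, h']
    revert h''; decide +kernel

/-- The subgroup of shape `2^11:M24`. -/
noncomputable def Msub : Subgroup (Equiv.Perm Vec) where
  carrier := {x | ∃ m, ∃ s ∈ Ksub, x = eW m * s}
  one_mem' := ⟨0, 1, one_mem _, by rw [eW_zero, one_mul]⟩
  mul_mem' := by
    rintro _ _ ⟨a, s, hs, rfl⟩ ⟨b, t, ht, rfl⟩
    obtain ⟨c, -, hc⟩ := mem_Esub (conj_mem_E hs (eW_mem b))
    refine ⟨a ^^^ c, s * t, mul_mem hs ht, ?_⟩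
    rw [← eW_mul, hc]
    group
  inv_mem' := by
    rintro _ ⟨a, s, hs, rfl⟩
    obtain ⟨c, -, hc⟩ := mem_Esub (conj_mem_E (inv_mem hs) (eW_mem a))
    refine ⟨c, s⁻¹, inv_mem hs, ?_⟩
    rw [hc, mul_inv_rev, eW_inv]
    group

theorem eW_mem_M (m : ℕ) : eW m ∈ Msub := ⟨m, 1, one_mem _, by rw [mul_one]⟩

theorem K_le_M : Ksub ≤ Msub := fun s hs => ⟨0, s, hs, by rw [eW_zero, one_mul]⟩

theorem M_unique {a b : ℕ} {s t : Equiv.Perm Vec} (hs : s ∈ Ksub) (ht : t ∈ Ksub)
    (h : eW a * s = eW b * t) : eW a = eW b ∧ s = t := by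
  have e : s * t⁻¹ = (eW a)⁻¹ * eW b := by
    rw [eq_inv_mul_iff_mul_eq, ← mul_assoc, h, mul_inv_cancel_right]
  have h1 : s * t⁻¹ = 1 :=
    E_inf_K (e ▸ mul_mem (inv_mem (eW_mem a)) (eW_mem b)) (mul_mem hs (inv_mem ht))
  have hst : s = t := mul_inv_eq_one.1 h1
  subst hst
  exact ⟨mul_right_cancel h, rfl⟩

theorem card_Msub : Nat.card Msub = 501397585920 := by
  have hb : Function.Bijective (fun p : Esub × Ksub =>
      (⟨p.1.1 * p.2.1, by
        obtain ⟨m, -, hm⟩ := mem_Esub p.1.2
        exact ⟨m, p.2.1, p.2.2, by rw [hm]⟩⟩ : Msub)) := by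
    refine ⟨fun p q h => ?_, fun x => ?_⟩
    · obtain ⟨a, -, ha⟩ := mem_Esub p.1.2
      obtain ⟨b, -, hb⟩ := mem_Esub q.1.2
      have h' := congrArg Subtype.val h
      simp only [← ha, ← hb] at h'
      obtain ⟨h1, h2⟩ := M_unique p.2.2 q.2.2 h'
      exact Prod.ext (Subtype.ext (by rw [← ha, ← hb, h1])) (Subtype.ext h2)
    · obtain ⟨m, s, hs, e⟩ := x.2
      exact ⟨(⟨eW m, eW_mem m⟩, ⟨s, hs⟩), Subtype.ext e.symm⟩
  rw [← Nat.card_congr (Equiv.ofBijective _ hb), Nat.card_prod, card_Esub, card_Ksub]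

theorem exists_proj_pts : ∀ x : Msub, ∃ a : TwoGroup, ∃ m, x.1 = eW m * kEmb a := fun x => by
  obtain ⟨m, s, hs, e⟩ := x.2
  obtain ⟨a, rfl⟩ := mem_Ksub hs
  exact ⟨a, m, e⟩

/-- The projection to the permutations of 24 points. -/
noncomputable def psi : Msub →* Equiv.Perm GolayPt where
  toFun x := kPts (Classical.choose (exists_proj_pts x))
  map_one' := by
    obtain ⟨m, hm⟩ := Classical.choose_spec (exists_proj_pts 1)
    generalize Classical.choose (exists_proj_pts 1) = u at hm ⊢
    have h := M_unique (a := 0) (b := m) (one_mem Ksub)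
      (kEmb_mem u) (by rw [← hm]; simp [eW_zero])
    have h' := kEmb_inj ((map_one kEmb).trans h.2)
    rw [← h', map_one]
  map_mul' x y := by
    obtain ⟨m, hm⟩ := Classical.choose_spec (exists_proj_pts (x * y))
    obtain ⟨a, ha⟩ := Classical.choose_spec (exists_proj_pts x)
    obtain ⟨b, hb⟩ := Classical.choose_spec (exists_proj_pts y)
    generalize Classical.choose (exists_proj_pts (x * y)) = u at hm ⊢
    generalize Classical.choose (exists_proj_pts x) = v at ha ⊢
    generalize Classical.choose (exists_proj_pts y) = w at hb ⊢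
    have hv : kEmb v ∈ Ksub := kEmb_mem _
    have hw : kEmb w ∈ Ksub := kEmb_mem _
    have hu : kEmb u ∈ Ksub := kEmb_mem _
    obtain ⟨c, -, hc⟩ := mem_Esub (conj_mem_E hv (eW_mem b))
    have e : eW (a ^^^ c) * (kEmb v * kEmb w) = eW m * kEmb u := by
      rw [← hm, ← eW_mul, hc, Subgroup.coe_mul, ha, hb]
      group
    have h := (M_unique (mul_mem hv hw) hu e).2
    rw [← map_mul] at h
    rw [← map_mul, kEmb_inj h]

theorem psi_eq {x : Msub} {m : ℕ} {a : TwoGroup} (h : x.1 = eW m * kEmb a) :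
    psi x = kPts a := by
  obtain ⟨c, hc⟩ := Classical.choose_spec (exists_proj_pts x)
  have h' := (M_unique (a := c) (b := m) (kEmb_mem _)
    (kEmb_mem _) (hc.symm.trans h)).2
  show kPts (Classical.choose (exists_proj_pts x)) = kPts a
  rw [kEmb_inj h']

theorem psi_eq_one {x : Msub} (h : psi x = 1) : ∃ m < 2048, x.1 = eW m := by
  obtain ⟨a, m, e⟩ := exists_proj_pts x
  rw [psi_eq e] at h
  have := kPts_spec.1 (h.trans (map_one kPts).symm)
  subst this
  exact ⟨m % 2048, Nat.mod_lt _ (by norm_num), by rw [eW_mod, e, map_one, mul_one]⟩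

theorem psi_range (a : TwoGroup) : ∃ x : Msub, psi x = kPts a :=
  ⟨⟨kEmb a, K_le_M (by rw [← kEmb_range]; exact ⟨a, rfl⟩)⟩,
    psi_eq (m := 0) (by rw [eW_zero, one_mul])⟩

/-- The element of a mask and a word lies in `2^11:M24`. -/
theorem pair_mem {m : ℕ} {w : List ℕ} (h : kOK w = true) : eW m * wp w ∈ Msub :=
  ⟨m, wp w, kOK_mem h, rfl⟩

theorem psi_pair {m : ℕ} {w : List ℕ} (h : kOK w = true) :
    psi ⟨eW m * wp w, pair_mem h⟩ = ((w.map pLetter).map gPerm).prod :=
  (psi_eq (by rw [(kEmb_word h).1])).trans (kEmb_word h).2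

end Cfsg.Lib.J4Real
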