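import Cfsg.Agent.Lib.J4Real.Order
import Cfsg.Prelude.Def_Transfer

/-!
# The seven suborbits on the cosets of `2^11:M24`

The upper bounds on the seven sets of cosets add up to the length of the orbit of the base point,
so they are exact and the sets are pairwise different.  The result is transferred along any
injective map onto the group generated by the three letters.
-/

set_option autoImplicit false
set_option maxRecDepth 20000

namespace Cfsg.Lib.J4Real

open scoped Pointwise

theorem card_union_eq : unionSet.ncard = 173067389 := orbit_eq ▸ orbit_card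

theorem card_orbitSet_eq {j : ℕ} (hj : j < 7) : (orbitSet j).ncard = cosetNum.getD j 0 := by
  refine le_antisymm (card_orbitSet hj) ?_
  have hsub : unionSet ⊆ orbitSet j ∪ {q : Coset | ∃ k < 7, k ≠ j ∧ q ∈ orbitSet k} := by
    rintro q ⟨k, hk, hq⟩
    rcases eq_or_ne k j with rfl | hkj
    · exact Or.inl hq
    · exact Or.inr ⟨k, hk, hkj, hq⟩
  have h1 := (Set.ncard_le_ncard hsub (Set.toFinite _)).trans (Set.ncard_union_le _ _)
  have h2 := card_union_sel fun k => k ≠ j
  have h3 : cosetNum.getD j 0 + ∑ k ∈ (Finset.range 7).filter (fun k => k ≠ j), cosetNum.getD k 0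
      = 173067389 := by
    rw [← cosetNum_sum, Finset.filter_ne' (Finset.range 7) j]
    exact Finset.add_sum_erase _ (fun k => cosetNum.getD k 0) (Finset.mem_range.2 hj)
  rw [card_union_eq] at h1
  omega

theorem orbitSet_ne {i j : ℕ} (hi : i < 7) (hj : j < 7) (h : i ≠ j) :
    orbitSet i ≠ orbitSet j := by
  intro e
  have hsub : unionSet ⊆ {q : Coset | ∃ k < 7, k ≠ j ∧ q ∈ orbitSet k} := by
    rintro q ⟨k, hk, hq⟩
    rcases eq_or_ne k j with rfl | hkj
    · exact ⟨i, hi, h, e ▸ hq⟩
    · exact ⟨k, hk, hkj, hq⟩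
  have h1 := Set.ncard_le_ncard hsub (Set.toFinite _)
  have h2 := card_union_sel fun k => k ≠ j
  have h3 : cosetNum.getD j 0 + ∑ k ∈ (Finset.range 7).filter (fun k => k ≠ j), cosetNum.getD k 0
      = 173067389 := by
    rw [← cosetNum_sum, Finset.filter_ne' (Finset.range 7) j]
    exact Finset.add_sum_erase _ (fun k => cosetNum.getD k 0) (Finset.mem_range.2 hj)
  have h4 : 0 < cosetNum.getD j 0 := by interval_cases j <;> decide
  rw [card_union_eq] at h1
  omega

/-- The rank seven permutation representation of a copy of the group on the cosets of the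
preimage of `Msub`. -/
theorem suborbits {G : Type*} [Group G] [Finite G] (f : G →* Equiv.Perm Vec)
    (hf : Function.Injective f) (hr : f.range = Gsub) {N : Subgroup G}
    (hN : N = Msub.comap f) :
    N.index = 173067389 ∧ ∃ c : Fin 7 → G ⧸ N,
      (∀ i j : Fin 7, i ≠ j → MulAction.orbit ↥N (c i) ≠ MulAction.orbit ↥N (c j)) ∧
      (∀ q : G ⧸ N, ∃ i : Fin 7, q ∈ MulAction.orbit ↥N (c i)) ∧
      (List.ofFn fun i => (MulAction.orbit ↥N (c i)).ncard) =
        [1, 15180, 28336, 3400320, 32643072, 54405120, 82575360] := by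
  classical
  subst hN
  set N := Msub.comap f with hN
  let ι : G ⧸ N → Coset := fun q => Quotient.liftOn' q (fun g => (QuotientGroup.mk (f g) : Coset))
    fun a b hab => by
      rw [QuotientGroup.leftRel_apply] at hab
      rw [QuotientGroup.eq, ← map_inv, ← map_mul]
      exact hab
  have ι_mk : ∀ g : G, ι (QuotientGroup.mk g) = QuotientGroup.mk (f g) := fun g => rfl
  have hinj : Function.Injective ι := by
    intro a b h
    induction a using QuotientGroup.induction_on with
    | H a =>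
      induction b using QuotientGroup.induction_on with
      | H b =>
        rw [ι_mk, ι_mk, QuotientGroup.eq, ← map_inv, ← map_mul] at h
        exact QuotientGroup.eq.2 h
  have hrange : Set.range ι = baseOrbit := by
    ext q
    constructor
    · rintro ⟨a, rfl⟩
      induction a using QuotientGroup.induction_on with
      | H a =>
        refine ⟨⟨f a, hr ▸ ⟨a, rfl⟩⟩, ?_⟩
        show (QuotientGroup.mk (f a * 1) : Coset) = _
        rw [mul_one, ι_mk]
    · rintro ⟨⟨x, hx⟩, rfl⟩
      rw [← hr] at hx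
      obtain ⟨a, rfl⟩ := hx
      refine ⟨QuotientGroup.mk a, ?_⟩
      show _ = (QuotientGroup.mk (f a * 1) : Coset)
      rw [mul_one, ι_mk]
  have hrep : ∀ j : Fin 7, ∃ a : G, (QuotientGroup.mk (f a) : Coset) = QuotientGroup.mk (gRep j) := by
    intro j
    have hmem : (QuotientGroup.mk (gRep j) : Coset) ∈ unionSet :=
      ⟨j, j.2, ⟨1, one_mem _⟩, by simp⟩
    rw [← orbit_eq, ← hrange] at hmem
    obtain ⟨q, hq⟩ := hmem
    induction q using QuotientGroup.induction_on with
    | H a => exact ⟨a, hq⟩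
  choose a ha using hrep
  have himage : ∀ j : Fin 7, ι '' MulAction.orbit ↥N (QuotientGroup.mk (a j) : G ⧸ N) =
      orbitSet j := by
    intro j
    have key : ∀ m : G, (QuotientGroup.mk (f (m * a j)) : Coset) =
        QuotientGroup.mk (f m * gRep j) := by
      intro m
      have h := congrArg (fun q => f m • q) (ha j)
      rwa [MulAction.Quotient.smul_mk, MulAction.Quotient.smul_mk, smul_eq_mul, smul_eq_mul,
        ← map_mul] at h
    ext q
    constructor
    · rintro ⟨_, ⟨⟨m, hm⟩, rfl⟩, rfl⟩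
      exact ⟨⟨f m, hm⟩, (key m).symm⟩
    · rintro ⟨⟨x, hx⟩, rfl⟩
      have hx' : x ∈ f.range := hr.symm ▸ M_le_G hx
      obtain ⟨m, rfl⟩ := hx'
      exact ⟨QuotientGroup.mk (m * a j), ⟨⟨m, hx⟩, rfl⟩, key m⟩
  refine ⟨?_, fun j => QuotientGroup.mk (a j), ?_, ?_, ?_⟩
  · rw [Subgroup.index, ← orbit_card, ← hrange, ← Set.image_univ,
      Set.ncard_image_of_injective _ hinj, Set.ncard_univ]
  · intro i j hij e
    exact orbitSet_ne i.2 j.2 (Fin.val_ne_of_ne hij) (by rw [← himage i, ← himage j, e])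
  · intro q
    have hq : ι q ∈ unionSet := by rw [← orbit_eq, ← hrange]; exact ⟨q, rfl⟩
    obtain ⟨j, hj, hq⟩ := hq
    rw [show orbitSet j = orbitSet (⟨j, hj⟩ : Fin 7) from rfl, ← himage] at hq
    obtain ⟨q', hq', e⟩ := hq
    exact ⟨⟨j, hj⟩, hinj e ▸ hq'⟩
  · have hc : ∀ j : Fin 7, (MulAction.orbit ↥N (QuotientGroup.mk (a j) : G ⧸ N)).ncard =
        cosetNum.getD j 0 := fun j => by
      rw [← Set.ncard_image_of_injective _ hinj, himage, card_orbitSet_eq j.2]
    simp only [hc]
    decide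

/-- The only sums of suborbit lengths dividing the degree are the trivial two. -/
theorem block_sums : ∀ J : Finset (Fin 7), J.Nonempty →
    (∑ j ∈ J, [1, 15180, 28336, 3400320, 32643072, 54405120, 82575360].getD (j : ℕ) 0) ∣
      (173067389 : ℕ) →
    (∑ j ∈ J, [1, 15180, 28336, 3400320, 32643072, 54405120, 82575360].getD (j : ℕ) 0) = 1 ∨
      (∑ j ∈ J, [1, 15180, 28336, 3400320, 32643072, 54405120, 82575360].getD (j : ℕ) 0) =
        173067389 := by
  decide +kernel

/-- The preimage of `Msub` is a maximal subgroup. -/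
theorem maximal {G : Type*} [Group G] [Finite G] (f : G →* Equiv.Perm Vec)
    (hf : Function.Injective f) (hr : f.range = Gsub) {N N' : Subgroup G}
    (hN : N = Msub.comap f) (hle : N ≤ N') : N' = N ∨ N' = ⊤ := by
  classical
  obtain ⟨hidx, c, hne, hcov, hlist⟩ := suborbits f hf hr hN
  set L : List ℕ := [1, 15180, 28336, 3400320, 32643072, 54405120, 82575360] with hL
  have hlen : ∀ j : Fin 7, (MulAction.orbit ↥N (c j)).ncard = L.getD (j : ℕ) 0 := fun j => by
    rw [← hlist, List.getD_eq_getElem _ _ (by simp), List.getElem_ofFn]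
  let b : G ⧸ N := QuotientGroup.mk 1
  have hcard : (MulAction.orbit ↥N' b).ncard = N.relIndex N' := by
    have hst : MulAction.stabilizer ↥N' b = N.subgroupOf N' := by
      ext x
      rw [MulAction.mem_stabilizer_iff, Subgroup.mem_subgroupOf]
      show (QuotientGroup.mk ((x : G) * 1) : G ⧸ N) = QuotientGroup.mk 1 ↔ _
      rw [mul_one, eq_comm, QuotientGroup.eq, inv_one, one_mul]
    rw [← MulAction.index_stabilizer, hst]
    rfl
  let J := Finset.univ.filter fun j : Fin 7 => c j ∈ MulAction.orbit ↥N' b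
  have hmove : ∀ {q q' : G ⧸ N}, q' ∈ MulAction.orbit ↥N q →
      (q' ∈ MulAction.orbit ↥N' b ↔ q ∈ MulAction.orbit ↥N' b) := by
    rintro q _ ⟨⟨m, hm⟩, rfl⟩
    refine ⟨?_, ?_⟩
    · rintro ⟨x, hx⟩
      refine ⟨⟨m, hle hm⟩⁻¹ * x, ?_⟩
      show (((⟨m, hle hm⟩⁻¹ * x : N') : G)) • b = q
      rw [Subgroup.coe_mul, mul_smul, Subgroup.coe_inv]
      exact inv_smul_eq_iff.2 hx
    · rintro ⟨x, rfl⟩
      refine ⟨⟨m, hle hm⟩ * x, ?_⟩
      exact mul_smul m (x : G) b
  have hunion : MulAction.orbit ↥N' b = ⋃ j ∈ J, MulAction.orbit ↥N (c j) := by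
    ext q
    simp only [Set.mem_iUnion, exists_prop, J, Finset.mem_filter, Finset.mem_univ, true_and]
    refine ⟨fun hq => ?_, fun ⟨j, hj, hq⟩ => (hmove hq).2 hj⟩
    obtain ⟨j, hj⟩ := hcov q
    exact ⟨j, (hmove hj).1 hq, hj⟩
  have hsum : N.relIndex N' = ∑ j ∈ J, L.getD (j : ℕ) 0 := by
    rw [← hcard, hunion]
    refine ((Set.Finite.ncard_biUnion J.finite_toSet (fun j _ => Set.toFinite _) ?_).trans
      (finsum_mem_coe_finset _ _)).trans ?_
    swap
    · exact Finset.sum_congr rfl fun j _ => hlen j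
    · intro i _ j _ hij
      refine Set.disjoint_left.2 fun q hi hj => hne i j hij ?_
      rw [← MulAction.orbit_eq_iff.2 hi, MulAction.orbit_eq_iff.2 hj]
  have hJ : J.Nonempty := by
    obtain ⟨j, hj⟩ := hcov b
    exact ⟨j, Finset.mem_filter.2 ⟨Finset.mem_univ _, (hmove hj).1 (MulAction.mem_orbit_self b)⟩⟩
  have hmul := Subgroup.relIndex_mul_index hle
  have hdvd : (∑ j ∈ J, L.getD (j : ℕ) 0) ∣ (173067389 : ℕ) := by
    rw [← hsum, ← hidx]; exact ⟨_, hmul.symm⟩
  rcases block_sums J hJ hdvd with h | h <;> rw [← hsum] at h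
  · exact Or.inl (le_antisymm (Subgroup.relIndex_eq_one.1 h) hle)
  · right
    rw [h, hidx] at hmul
    exact Subgroup.index_eq_one.1 (by omega)

/-- The normal subgroup of order 2048 is elementary abelian and `Msub` normalises it. -/
theorem Esub_facts : Cfsg.IsElementaryAbelian 2 Esub ∧
    Msub ≤ Subgroup.normalizer (Esub : Set (Equiv.Perm Vec)) := by
  refine ⟨⟨⟨⟨?_⟩⟩, ?_⟩, ?_⟩
  · rintro ⟨x, hx⟩ ⟨y, hy⟩
    obtain ⟨a, -, rfl⟩ := mem_Esub hx
    obtain ⟨b, -, rfl⟩ := mem_Esub hy
    exact Subtype.ext (show eW a * eW b = eW b * eW a by rw [eW_mul, eW_mul, Nat.xor_comm])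
  · intro x hx
    obtain ⟨a, -, rfl⟩ := mem_Esub hx
    rw [pow_two, eW_sq]
  · intro x hx
    obtain ⟨m, s, hs, rfl⟩ := hx
    exact mul_mem (Subgroup.le_normalizer (eW_mem m)) (Ksub_le_normalizer hs)

end Cfsg.Lib.J4Real
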