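import Cfsg.Agent.Lib.J4Real.Suborbits
import Cfsg.Agent.S5566

/-!
# The rank seven action of a group of Janko-four type

Given an isomorphism onto the group generated by the three letters, the normaliser of an
elementary abelian subgroup of order `2^11` corresponds to a conjugate of `Msub`.
-/

set_option autoImplicit false
set_option maxRecDepth 20000

namespace Cfsg.Lib.J4Real

open scoped Pointwise

theorem suborbits_of_type {G : Type*} [Group G] [Finite G] [IsSimpleGroup G]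
    (hG : ¬ IsMulCommutative G) (hJ : Cfsg.IsOfJankoFourType G) (e : G ≃* ↥Gsub)
    (V : Subgroup G) (hV : Cfsg.IsElementaryAbelian 2 V) (hcard : Nat.card ↥V = 2 ^ 11) :
    (Subgroup.normalizer (V : Set G)).index = 173067389 ∧
      ∃ c : Fin 7 → G ⧸ Subgroup.normalizer (V : Set G),
      (∀ i j : Fin 7, i ≠ j → MulAction.orbit ↥(Subgroup.normalizer (V : Set G)) (c i) ≠
        MulAction.orbit ↥(Subgroup.normalizer (V : Set G)) (c j)) ∧
      (∀ q : G ⧸ Subgroup.normalizer (V : Set G), ∃ i : Fin 7,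
        q ∈ MulAction.orbit ↥(Subgroup.normalizer (V : Set G)) (c i)) ∧
      (List.ofFn fun i => (MulAction.orbit ↥(Subgroup.normalizer (V : Set G)) (c i)).ncard) =
        [1, 15180, 28336, 3400320, 32643072, 54405120, 82575360] := by
  classical
  haveI : Fact (Nat.Prime 2) := ⟨Nat.prime_two⟩
  obtain ⟨hEab, hEnorm⟩ := Esub_facts
  let f₀ : G →* Equiv.Perm Vec := Gsub.subtype.comp e.toMonoidHom
  have hf₀ : Function.Injective f₀ := Subtype.val_injective.comp e.injective
  have hr₀ : f₀.range = Gsub := by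
    rw [MonoidHom.range_comp, MonoidHom.range_eq_top.2 e.surjective, ← MonoidHom.range_eq_map,
      Subgroup.range_subtype]
  have hEle : Esub ≤ Gsub := fun x hx => M_le_G (by
    obtain ⟨m, -, rfl⟩ := mem_Esub hx; exact eW_mem_M m)
  let V₀ : Subgroup G := Esub.comap f₀
  have hV₀ : Cfsg.IsElementaryAbelian 2 V₀ := by
    refine ⟨⟨⟨fun x y => Subtype.ext (hf₀ ?_)⟩⟩, fun x hx => hf₀ ?_⟩
    · have := hEab.1
      have h : (⟨f₀ x, x.2⟩ : Esub) * ⟨f₀ y, y.2⟩ = ⟨f₀ y, y.2⟩ * ⟨f₀ x, x.2⟩ := mul_comm' _ _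
      simpa using congrArg Subtype.val h
    · rw [map_pow, map_one]; exact hEab.2 _ hx
  have hV₀card : Nat.card ↥V₀ = 2 ^ 11 := by
    have hmap : V₀.map f₀ = Esub := Subgroup.map_comap_eq_self (hr₀ ▸ hEle)
    rw [Nat.card_congr (V₀.equivMapOfInjective f₀ hf₀).toEquiv, hmap, card_Esub]
    norm_num
  obtain ⟨T, hT⟩ := (IsPGroup.of_card hcard).exists_le_sylow
  obtain ⟨T₀, hT₀⟩ := (IsPGroup.of_card hV₀card).exists_le_sylow
  obtain ⟨g, hg⟩ := MulAction.exists_smul_eq G T T₀
  let φ : G ≃* G := MulAut.conj g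
  have hφ : V.map φ.toMonoidHom = V₀ := by
    obtain ⟨W, -, huniq⟩ := Cfsg.Agent.S5566.result hG hJ T₀
    refine (huniq _ ⟨?_, ⟨⟨⟨fun x y => Subtype.ext ?_⟩⟩, ?_⟩, ?_⟩).trans
      (huniq _ ⟨hT₀, hV₀, hV₀card⟩).symm
    · rintro _ ⟨v, hv, rfl⟩
      rw [← hg, Sylow.smul_def, Sylow.pointwise_smul_def]
      exact Subgroup.smul_mem_pointwise_smul v (MulAut.conj g) _ (hT hv)
    · obtain ⟨_, a, ha, rfl⟩ := x
      obtain ⟨_, b, hb, rfl⟩ := y
      have := hV.1
      have h : (⟨a, ha⟩ : V) * ⟨b, hb⟩ = ⟨b, hb⟩ * ⟨a, ha⟩ := mul_comm' _ _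
      show φ a * φ b = φ b * φ a
      rw [← map_mul, ← map_mul, show a * b = b * a from congrArg Subtype.val h]
    · rintro _ ⟨v, hv, rfl⟩
      rw [← map_pow, hV.2 v hv, map_one]
    · rw [Subgroup.card_map_of_injective φ.injective, hcard]
  let f : G →* Equiv.Perm Vec := f₀.comp φ.toMonoidHom
  have hf : Function.Injective f := hf₀.comp φ.injective
  have hr : f.range = Gsub := by
    rw [MonoidHom.range_comp, MonoidHom.range_eq_top.2 φ.surjective, ← MonoidHom.range_eq_map, hr₀]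
  have hmem : ∀ v : G, v ∈ V ↔ f v ∈ Esub := by
    intro v
    show _ ↔ φ v ∈ V₀
    rw [← hφ]
    exact (Subgroup.mem_map_iff_mem φ.injective).symm
  have hle : Msub.comap f ≤ Subgroup.normalizer (V : Set G) := by
    intro x hx
    rw [Subgroup.mem_normalizer_iff]
    intro v
    rw [hmem, hmem, map_mul, map_mul, map_inv]
    exact Subgroup.mem_normalizer_iff.1 (hEnorm hx) (f v)
  rcases maximal f hf hr rfl hle with h | h
  · exact suborbits f hf hr h
  · exfalso
    rcases (Subgroup.normalizer_eq_top_iff.1 h).eq_bot_or_eq_top with hb | hb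
    · rw [hb, Subgroup.card_bot] at hcard; norm_num at hcard
    · apply hG
      refine ⟨⟨fun a b => ?_⟩⟩
      have := hV.1
      have hab : (⟨a, hb ▸ Subgroup.mem_top a⟩ : V) * ⟨b, hb ▸ Subgroup.mem_top b⟩ =
          ⟨b, hb ▸ Subgroup.mem_top b⟩ * ⟨a, hb ▸ Subgroup.mem_top a⟩ := mul_comm' _ _
      exact congrArg Subtype.val hab

end Cfsg.Lib.J4Real
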