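import Cfsg.Agent.Lib.J4Real.Hsub
import Cfsg.Agent.Lib.J4Real.DataTrios
import Cfsg.Agent.Lib.J4Real.DataCover

/-!
# The cosets of the trio stabiliser and the orbits of the seven subgroups on them
-/

set_option autoImplicit false
set_option maxRecDepth 20000

namespace Cfsg.Lib.J4Real

open scoped Pointwise
open Cfsg.Lib.CosetEnum
open Cfsg.Lib.J4Pres
open Cfsg.Lib.Concrete

/-- The first mask of a key. -/
def keyA (k : ℕ) : ℕ := k % 16777216

/-- The second mask of a key. -/
def keyB (k : ℕ) : ℕ := k / 16777216 % 16777216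

/-- The third mask of a key. -/
def keyC (k : ℕ) : ℕ := k / 281474976710656

/-- Three masks as one key. -/
def packKey (a b c : ℕ) : ℕ := a + 16777216 * b + 281474976710656 * c

/-- Three masks, sorted, as one key. -/
noncomputable def sortKey (a b c : ℕ) : ℕ :=
  cond (Nat.ble a b)
    (cond (Nat.ble b c) (packKey a b c) (cond (Nat.ble a c) (packKey a c b) (packKey c a b)))
    (cond (Nat.ble a c) (packKey b a c) (cond (Nat.ble b c) (packKey b c a) (packKey c b a)))

/-- The image of a key under a packed permutation. -/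
noncomputable def imgKey (p k : ℕ) : ℕ :=
  force k fun k => force (pimg p (keyA k)) fun a => force (pimg p (keyB k)) fun b =>
    force (pimg p (keyC k)) fun c => force (sortKey a b c) fun x => x

/-- The key of a trio in the table. -/
def tKey (i : ℕ) : ℕ := (trioKeys.getD (i / 64) []).getD (i % 64) 0

/-- The key of the first trio moved by a word. -/
noncomputable def rootKey (w : List ℕ) : ℕ :=
  w.foldr (fun g k => imgKey (letterPerms.getD (pLetter g) 0) k) (tKey trioRoot)

/-- The condition on one step of a covering certificate. -/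
noncomputable def stepOK (ps : List ℕ) (rs : List (ℕ × List ℕ)) (d b a g : ℕ) : Bool :=
  cond (Nat.beq g 9999)
    (rs.any fun r => Nat.beq r.1 b && Nat.beq (tKey b) (rootKey r.2))
    (d.testBit a && Nat.blt g ps.length && Nat.beq (imgKey (ps.getD g 0) (tKey a)) (tKey b))

/-- Run a covering certificate. -/
noncomputable def covGo (ps : List ℕ) (rs : List (ℕ × List ℕ)) (L : List ℕ) : ℕ → Bool :=
  List.rec (motive := fun _ => ℕ → Bool) (fun d => Nat.beq d (2 ^ 3795 - 1))
    (fun e _ ih d => force d fun d => force (e % 4096) fun b => force (e / 4096 % 4096) fun a =>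
      force (e / 16777216) fun g =>
        cond (stepOK ps rs d b a g) (force (d ||| 2 ^ b) fun d' => ih d') false) L

theorem covGo_cons (ps : List ℕ) (rs : List (ℕ × List ℕ)) (e : ℕ) (L : List ℕ) (d : ℕ) :
    covGo ps rs (e :: L) d = cond (stepOK ps rs d (e % 4096) (e / 4096 % 4096) (e / 16777216))
      (covGo ps rs L (d ||| 2 ^ (e % 4096))) false := by
  simp only [covGo, force_eq]

/-- A covering certificate is in order. -/
noncomputable def covCheck (j : ℕ) : Bool :=
  ((covRoots.getD j []).all fun r => kOK r.2) &&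
  Nat.beq (covItems.getD j []).length (4 * (covRoots.getD j []).length) &&
  covGo (hPacks.getD j []) (covRoots.getD j []) (covSteps.getD j []).flatten 0

theorem covCheck0 : covCheck 0 = true := by decide +kernel

theorem covCheck1 : covCheck 1 = true := by decide +kernel

theorem covCheck2 : covCheck 2 = true := by decide +kernel

theorem covCheck3 : covCheck 3 = true := by decide +kernel

theorem covCheck4 : covCheck 4 = true := by decide +kernel

theorem covCheck5 : covCheck 5 = true := by decide +kernel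

theorem covCheck6 : covCheck 6 = true := by decide +kernel

theorem covCheck_all : ∀ j < 7, covCheck j = true := by
  intro j hj
  interval_cases j
  exacts [covCheck0, covCheck1, covCheck2, covCheck3, covCheck4, covCheck5, covCheck6]

theorem table_ok : ((List.range 3795).all fun i =>
    Nat.blt (keyA (tKey i)) (keyB (tKey i)) && Nat.blt (keyB (tKey i)) (keyC (tKey i)) &&
      Nat.blt (keyC (tKey i)) 16777216 &&
      (Nat.beq i 3794 || Nat.blt (tKey i) (tKey (i + 1)))) = true ∧ trioRoot < 3795 :=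
  ⟨by decide +kernel, by decide⟩

theorem stab_ok : ((gensOf 1).all fun p => Nat.beq (rootKey p.2) (tKey trioRoot)) = true ∧
    chainSize (hChains.getD 1 []) = 64512 :=
  ⟨by decide +kernel, by decide +kernel⟩

/-- The set of three point sets of a key. -/
def trioSet (k : ℕ) : Finset (Finset GolayPt) := {mset (keyA k), mset (keyB k), mset (keyC k)}

theorem pimg_lt {g : Equiv.Perm GolayPt} {p : ℕ} (hg : Rep g p) (m : ℕ) : pimg p m < 2 ^ 24 := by
  refine Nat.lt_pow_two_of_testBit _ fun i hi => ?_
  rw [← Bool.not_eq_true, pimg, testBit_orMask]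
  rintro ⟨k, hk, -, rfl⟩
  have := hg.apply ⟨k, mem_bits24.1 hk⟩
  simp only at this
  omega

theorem key_pack {a b c : ℕ} (ha : a < 2 ^ 24) (hb : b < 2 ^ 24) :
    keyA (packKey a b c) = a ∧ keyB (packKey a b c) = b ∧ keyC (packKey a b c) = c := by
  unfold keyA keyB keyC packKey
  refine ⟨?_, ?_, ?_⟩ <;> omega

theorem trioSet_sortKey {a b c : ℕ} (ha : a < 2 ^ 24) (hb : b < 2 ^ 24) (hc : c < 2 ^ 24) :
    trioSet (sortKey a b c) = {mset a, mset b, mset c} := by
  unfold sortKey
  cases Nat.ble a b <;> cases Nat.ble b c <;> cases Nat.ble a c <;>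
    simp only [cond_true, cond_false, trioSet] <;>
    first
      | rw [(key_pack ha hb).1, (key_pack ha hb).2.1, (key_pack ha hb).2.2]
      | (rw [(key_pack ha hc).1, (key_pack ha hc).2.1, (key_pack ha hc).2.2]; ext; simp; tauto)
      | (rw [(key_pack hb ha).1, (key_pack hb ha).2.1, (key_pack hb ha).2.2]; ext; simp; tauto)
      | (rw [(key_pack hb hc).1, (key_pack hb hc).2.1, (key_pack hb hc).2.2]; ext; simp; tauto)
      | (rw [(key_pack hc ha).1, (key_pack hc ha).2.1, (key_pack hc ha).2.2]; ext; simp; tauto)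
      | (rw [(key_pack hc hb).1, (key_pack hc hb).2.1, (key_pack hc hb).2.2]; ext; simp; tauto)

theorem smul_trioSet {g : Equiv.Perm GolayPt} {p : ℕ} (hg : Rep g p) (k : ℕ) :
    g • trioSet k = trioSet (imgKey p k) := by
  simp only [imgKey, force_eq]
  rw [trioSet_sortKey (pimg_lt hg _) (pimg_lt hg _) (pimg_lt hg _), trioSet,
    Finset.smul_finset_insert, Finset.smul_finset_insert, Finset.smul_finset_singleton,
    hg.smul_mset, hg.smul_mset, hg.smul_mset]

/-- The first trio. -/
def tau : Finset (Finset GolayPt) := trioSet (tKey trioRoot)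

theorem smul_root : ∀ {w : List ℕ}, kOK w = true →
    ((w.map pLetter).map gPerm).prod • tau = trioSet (rootKey w)
  | [], _ => one_smul _ _
  | g :: w, h => by
    simp only [kOK, List.all_cons, Bool.and_eq_true, Bool.or_eq_true, Nat.beq_eq] at h
    have ih := smul_root (w := w) (by simpa [kOK] using h.2)
    rw [List.map_cons, List.map_cons, List.prod_cons, mul_smul, ih,
      smul_trioSet (rep_letter (kLetter_pLetter (by omega)).1)]
    rfl

/-- A trio reached from a root by one of the subgroups. -/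
def Reach (j i : ℕ) : Prop :=
  ∃ n < (covRoots.getD j []).length, ∃ s ∈ Sj j,
    s • (((((covRoots.getD j []).getD n (0, [])).2.map pLetter).map gPerm).prod • tau) =
      trioSet (tKey i)

theorem covGo_spec {j : ℕ} (hj : j < 7)
    (hr : ∀ r ∈ covRoots.getD j [], kOK r.2 = true) :
    ∀ (L : List ℕ) (d : ℕ), (∀ i, d.testBit i = true → Reach j i) →
      covGo (hPacks.getD j []) (covRoots.getD j []) L d = true → ∀ i < 3795, Reach j i
  | [], d, hd, h, i, hi => by
    refine hd i ?_
    rw [show d = 2 ^ 3795 - 1 from Nat.eq_of_beq_eq_true h, Nat.testBit_two_pow_sub_one]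
    exact decide_eq_true hi
  | e :: L, d, hd, h, i, hi => by
    rw [covGo_cons] at h
    cases hs : stepOK (hPacks.getD j []) (covRoots.getD j []) d (e % 4096) (e / 4096 % 4096)
        (e / 16777216) with
    | false => rw [hs, cond_false] at h; exact absurd h Bool.false_ne_true
    | true =>
      rw [hs, cond_true] at h
      refine covGo_spec hj hr L _ (fun k hk => ?_) h i hi
      rw [Nat.testBit_or, Bool.or_eq_true] at hk
      rcases hk with hk | hk
      · exact hd k hk
      · have hk' : e % 4096 = k := by simpa [Nat.testBit_two_pow] using hk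
        subst hk'
        rw [stepOK] at hs
        cases he : Nat.beq (e / 16777216) 9999 with
        | true =>
          simp only [he, cond_true, List.any_eq_true, Bool.and_eq_true, Nat.beq_eq] at hs
          obtain ⟨r, hrm, -, hkey⟩ := hs
          obtain ⟨n, hn, rfl⟩ := List.getElem_of_mem hrm
          refine ⟨n, hn, 1, one_mem _, ?_⟩
          rw [one_smul, List.getD_eq_getElem _ _ hn, smul_root (hr _ (List.getElem_mem hn)), hkey]
        | false =>
          simp only [he, cond_false, Bool.and_eq_true, Nat.blt_eq, Nat.beq_eq] at hs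
          obtain ⟨n, hn, t, ht, heq⟩ := hd _ hs.1.1
          obtain ⟨g, hg, hgr⟩ := gen_perm hj hs.1.2
          refine ⟨n, hn, g * t, mul_mem hg ht, ?_⟩
          rw [mul_smul, heq, smul_trioSet hgr, hs.2]

theorem cov_roots {j : ℕ} (hj : j < 7) :
    (∀ r ∈ covRoots.getD j [], kOK r.2 = true) ∧
      (covItems.getD j []).length = 4 * (covRoots.getD j []).length ∧
      ∀ i < 3795, Reach j i := by
  have h := covCheck_all j hj
  simp only [covCheck, Bool.and_eq_true, List.all_eq_true, Nat.beq_eq] at h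
  obtain ⟨⟨h1, h2⟩, h3⟩ := h
  exact ⟨h1, h2, covGo_spec hj h1 _ 0 (fun _ h0 => by simp at h0) h3⟩

theorem table_entry {i : ℕ} (hi : i < 3795) :
    keyA (tKey i) < keyB (tKey i) ∧ keyB (tKey i) < keyC (tKey i) ∧
      keyC (tKey i) < 16777216 ∧ (i ≠ 3794 → tKey i < tKey (i + 1)) := by
  have h := List.all_eq_true.1 table_ok.1 i (List.mem_range.2 hi)
  simp only [Bool.and_eq_true, Bool.or_eq_true, Nat.blt_eq, Nat.beq_eq] at h
  exact ⟨h.1.1.1, h.1.1.2, h.1.2, fun hne => h.2.resolve_left hne⟩

theorem tKey_lt : ∀ {i k : ℕ}, i < k → k < 3795 → tKey i < tKey k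
  | i, k + 1, hik, hk => by
    have h := (table_entry (i := k) (by omega)).2.2.2 (by omega)
    rcases Nat.lt_or_ge i k with h' | h'
    · exact (tKey_lt h' (by omega)).trans h
    · obtain rfl : i = k := by omega
      exact h

theorem trioSet_table_inj {i k : ℕ} (hi : i < 3795) (hk : k < 3795)
    (h : trioSet (tKey i) = trioSet (tKey k)) : i = k := by
  obtain ⟨a1, a2, a3, -⟩ := table_entry hi
  obtain ⟨b1, b2, b3, -⟩ := table_entry hk
  have hmem : ∀ x < 16777216, mset x ∈ trioSet (tKey k) →
      x = keyA (tKey k) ∨ x = keyB (tKey k) ∨ x = keyC (tKey k) := by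
    intro x hx hm
    simp only [trioSet, Finset.mem_insert, Finset.mem_singleton] at hm
    rcases hm with hm | hm | hm
    · exact Or.inl (mset_inj hx (by omega) hm)
    · exact Or.inr (Or.inl (mset_inj hx (by omega) hm))
    · exact Or.inr (Or.inr (mset_inj hx (by omega) hm))
  have hA := hmem (keyA (tKey i)) (by omega) (h ▸ by simp [trioSet])
  have hB := hmem (keyB (tKey i)) (by omega) (h ▸ by simp [trioSet])
  have hC := hmem (keyC (tKey i)) (by omega) (h ▸ by simp [trioSet])
  have he : tKey i = tKey k := by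
    unfold keyA keyB keyC at *
    omega
  rcases Nat.lt_trichotomy i k with h' | h' | h'
  · exact absurd he (tKey_lt h' hk).ne
  · exact h'
  · exact absurd he (tKey_lt h' hi).ne'

theorem card_psi_range : Nat.card psi.range = 244823040 := by
  have e : psi.range = kPts.range := by
    refine le_antisymm ?_ ?_
    · rintro _ ⟨x, rfl⟩
      obtain ⟨a, m, h⟩ := exists_proj_pts x
      exact ⟨a, (psi_eq h).symm⟩
    · rintro _ ⟨a, rfl⟩
      obtain ⟨x, hx⟩ := psi_range a
      exact ⟨x, hx⟩
  obtain ⟨φ⟩ := twoGroup_iso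
  rw [e, ← Nat.card_congr (MonoidHom.ofInjective kPts_spec.1).toEquiv, Nat.card_congr φ.toEquiv,
    card_M24]

theorem Sj_le_range (j : ℕ) : Sj j ≤ psi.range := by
  rintro _ ⟨x, -, rfl⟩
  exact ⟨x, rfl⟩

theorem S1_fixes {s : Equiv.Perm GolayPt} (hs : s ∈ Sj 1) : s • tau = tau := by
  obtain ⟨x, hx, rfl⟩ := hs
  have hle : Hj 1 ≤ ((MulAction.stabilizer (Equiv.Perm GolayPt) tau).comap psi).map
      Msub.subtype := by
    rw [Hj, Subgroup.closure_le]
    rintro _ ⟨p, hp, rfl⟩
    obtain ⟨i, hi, rfl⟩ := List.getElem_of_mem hp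
    have hk := ((hCheck_parts (j := 1) (by norm_num)).1 i hi).1
    rw [List.getD_eq_getElem _ _ hi] at hk
    refine ⟨⟨_, pair_mem hk⟩, ?_, rfl⟩
    have hr := List.all_eq_true.1 stab_ok.1 _ (List.getElem_mem hi)
    rw [Nat.beq_eq] at hr
    simp only [SetLike.mem_coe, Subgroup.mem_comap, MulAction.mem_stabilizer_iff]
    rw [psi_pair hk, smul_root hk, hr]
    rfl
  obtain ⟨y, hy, e⟩ := hle hx
  obtain rfl : y = x := Subtype.ext e
  exact hy

theorem orbit_facts :
    (∀ g ∈ psi.range, ∃ i < 3795, g • tau = trioSet (tKey i)) ∧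
      ∀ g ∈ psi.range, g • tau = tau → g ∈ Sj 1 := by
  let P : Subgroup (Equiv.Perm GolayPt) := psi.range
  have horb : Nat.card (MulAction.orbit P tau) * Nat.card (MulAction.stabilizer P tau)
      = 244823040 := by
    rw [← Nat.card_prod, Nat.card_congr (MulAction.orbitProdStabilizerEquivGroup P tau)]
    exact card_psi_range
  let incl : Sj 1 → MulAction.stabilizer P tau := fun s =>
    ⟨⟨s.1, Sj_le_range 1 s.2⟩, S1_fixes s.2⟩
  have hincl : Function.Injective incl := fun a b h => Subtype.ext (congrArg (fun z => z.1.1) h)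
  have hst : 64512 ≤ Nat.card (MulAction.stabilizer P tau) := by
    refine le_trans ?_ (Nat.card_le_card_of_injective incl hincl)
    exact stab_ok.2 ▸ card_Sj (by norm_num)
  have hmem : ∀ i : Fin 3795, trioSet (tKey i.1) ∈ MulAction.orbit P tau := fun i => by
    obtain ⟨n, hn, s, hs, e⟩ := (cov_roots (j := 0) (by norm_num)).2.2 i.1 i.2
    have hk := (cov_roots (j := 0) (by norm_num)).1 _ (List.getElem_mem hn)
    rw [List.getD_eq_getElem _ _ hn] at e
    refine ⟨⟨s, Sj_le_range 0 hs⟩ * ⟨_, ⟨_, psi_pair (m := 0) hk⟩⟩, ?_⟩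
    rw [← e, ← mul_smul]
    rfl
  let tab : Fin 3795 → MulAction.orbit P tau := fun i => ⟨_, hmem i⟩
  have htab : Function.Injective tab := fun a b h =>
    Fin.ext (trioSet_table_inj a.2 b.2 (congrArg Subtype.val h))
  have hor : 3795 ≤ Nat.card (MulAction.orbit P tau) := by
    simpa using Nat.card_le_card_of_injective tab htab
  have e1 : Nat.card (MulAction.orbit P tau) = 3795 ∧
      Nat.card (MulAction.stabilizer P tau) = 64512 := by
    constructor <;> nlinarith
  have hbij : Function.Bijective tab := htab.bijective_of_nat_card_le (by simp [e1.1])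
  have hS : 64512 ≤ Nat.card (Sj 1) := stab_ok.2 ▸ card_Sj (by norm_num)
  have hibij : Function.Bijective incl := hincl.bijective_of_nat_card_le (by rw [e1.2]; exact hS)
  refine ⟨fun g hg => ?_, fun g hg hfix => ?_⟩
  · obtain ⟨i, hi⟩ := hbij.2 ⟨g • tau, ⟨⟨g, hg⟩, rfl⟩⟩
    exact ⟨i.1, i.2, (congrArg Subtype.val hi).symm⟩
  · obtain ⟨s, hs⟩ := hibij.2 ⟨⟨g, hg⟩, hfix⟩
    have : s.1 = g := congrArg (fun z => z.1.1) hs
    exact this ▸ s.2

theorem fMasks_ok : ((List.range 2048).all fun a => fMasks.any fun f =>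
    (spanList (hSpans.getD 1 [])).any fun s => Nat.beq (f ^^^ s) a) = true ∧ fMasks.length = 4 :=
  ⟨by decide +kernel, rfl⟩

theorem cover {j : ℕ} (hj : j < 7) {m : Equiv.Perm Vec} (hm : m ∈ Msub) :
    ∃ n < (covRoots.getD j []).length, ∃ f < 4, ∃ h ∈ Hj j, ∃ d ∈ Hj 1,
      m = d * eW (fMasks.getD f 0) *
        (wp ((covRoots.getD j []).getD n (0, [])).2)⁻¹ * h := by
  let x : Msub := ⟨m⁻¹, inv_mem hm⟩
  obtain ⟨i, hi, hix⟩ := orbit_facts.1 (psi x) ⟨x, rfl⟩
  obtain ⟨n, hn, s, ⟨h, hh, hs⟩, e⟩ := (cov_roots hj).2.2 i hi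
  have hk := (cov_roots hj).1 _ (List.getElem_mem hn)
  rw [List.getD_eq_getElem _ _ hn] at e
  let r : Msub := ⟨_, pair_mem (m := 0) hk⟩
  have hfix : psi ((h * r)⁻¹ * x) • tau = tau := by
    rw [map_mul, map_inv, map_mul, mul_smul, inv_smul_eq_iff, hix, ← e, hs, psi_pair hk, mul_smul]
  obtain ⟨d, hd, hd'⟩ := orbit_facts.2 _ ⟨_, rfl⟩ hfix
  obtain ⟨c, hc, hce⟩ := psi_eq_one (x := (h * r)⁻¹ * x * d⁻¹)
    (by rw [map_mul, ← hd', map_inv, mul_inv_cancel])
  have hF := List.all_eq_true.1 fMasks_ok.1 c (List.mem_range.2 hc)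
  simp only [List.any_eq_true, Nat.beq_eq] at hF
  obtain ⟨f, hf, s', hs', rfl⟩ := hF
  obtain ⟨fi, hfi, rfl⟩ := List.getElem_of_mem hf
  refine ⟨n, hn, fi, fMasks_ok.2 ▸ hfi, h.1⁻¹, inv_mem hh, (eW s' * d.1)⁻¹,
    inv_mem (mul_mem (span_mem (by norm_num) (fun _ hb => hb) s' hs') hd), ?_⟩
  have e2 : m⁻¹ = h.1 * r.1 * (eW fMasks[fi] * eW s') * d.1 := by
    rw [eW_mul, ← hce]
    simp only [Subgroup.coe_mul, Subgroup.coe_inv, x]
    group
  have er : r.1 = wp ((covRoots.getD j [])[n]).2 := by simp [r, eW_zero]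
  rw [List.getD_eq_getElem _ _ hn, List.getD_eq_getElem _ _ hfi, ← inv_inv m, e2, er]
  simp only [mul_inv_rev, eW_inv, mul_assoc]

end Cfsg.Lib.J4Real
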