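import Cfsg.Agent.Lib.J4Real.Trio
import Cfsg.Agent.Lib.J4Real.Idents

/-!
# The orbit of the coset of `2^11:M24` has at most 173067389 members
-/

set_option autoImplicit false
set_option maxRecDepth 20000

namespace Cfsg.Lib.J4Real

open Cfsg.Lib.CosetEnum
open scoped Pointwise

/-- The group generated by the three letters. -/
noncomputable def Gsub : Subgroup (Equiv.Perm Vec) := Subgroup.closure {jp 0, jp 1, jp 2}

/-- The coset space. -/
abbrev Coset : Type := Equiv.Perm Vec ⧸ Msub

/-- The points of one double coset. -/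
noncomputable def orbitSet (j : ℕ) : Set Coset :=
  Set.range fun m : Msub => (QuotientGroup.mk (m.1 * gRep j) : Coset)

/-- The union of the seven sets. -/
noncomputable def unionSet : Set Coset := {q | ∃ j < 7, q ∈ orbitSet j}

/-- The base point. -/
noncomputable def base : Coset := QuotientGroup.mk 1

theorem mk_mul_M (x : Equiv.Perm Vec) {m : Equiv.Perm Vec} (hm : m ∈ Msub) :
    (QuotientGroup.mk (x * m) : Coset) = QuotientGroup.mk x := by
  rw [QuotientGroup.eq]
  simpa [mul_assoc] using inv_mem hm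

theorem gRep_zero : gRep 0 = 1 := rfl

theorem gRep_one : gRep 1 = jp 2 := wp_single 2

theorem base_mem : base ∈ unionSet :=
  ⟨0, by norm_num, 1, by simp [base, gRep_zero]⟩

theorem t_inv : (jp 2)⁻¹ = jp 2 := by
  have h := sameW_wp (show sameW [2] [5] = true by decide +kernel)
  rw [wp_single, wp_single, show (5 : ℕ) = flipX 2 from rfl, jp_flip (by norm_num)] at h
  exact h.symm

theorem smul_orbitSet {x : Equiv.Perm Vec} (hx : x ∈ Msub) {j : ℕ} {q : Coset}
    (hq : q ∈ orbitSet j) : x • q ∈ orbitSet j := by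
  obtain ⟨m, rfl⟩ := hq
  refine ⟨⟨x * m.1, mul_mem hx m.2⟩, ?_⟩
  show (QuotientGroup.mk (x * m.1 * gRep j) : Coset) = _
  rw [MulAction.Quotient.smul_mk, smul_eq_mul, mul_assoc]

theorem id_wp {j i : ℕ} (hj : j < 7) (hi : i < (covItems.getD j []).length) :
    ∃ k < 7, ∃ a ∈ Msub, ∃ b ∈ Msub,
      jp 2 * eW (fMasks.getD (i % 4) 0) *
          (wp ((covRoots.getD j []).getD (i / 4) (0, [])).2)⁻¹ * gRep j = a * gRep k * b := by
  have h := List.all_eq_true.1 (idCheck_all j hj) i (List.mem_range.2 hi)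
  have hn : i / 4 < (covRoots.getD j []).length := by
    have := (cov_roots hj).2.1
    omega
  have hw : low ((covRoots.getD j []).getD (i / 4) (0, [])).2 = true := by
    rw [List.getD_eq_getElem _ _ hn]
    exact kOK_low ((cov_roots hj).1 _ (List.getElem_mem hn))
  simp only [idOne, Bool.and_eq_true, Nat.blt_eq] at h
  obtain ⟨⟨⟨hk, ha⟩, hb⟩, he⟩ := h
  have he' := sameW_wp he
  simp only [wp_append, wp_single, wp_winv hw] at he'
  exact ⟨_, hk, _, pair_mem (m := ((covItems.getD j []).getD i (7, 0, [], 0, [])).2.1) ha, _,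
    pair_mem (m := ((covItems.getD j []).getD i (7, 0, [], 0, [])).2.2.2.1) hb, by
      simp only [gRep, eW]; rw [he']; group⟩

theorem t_smul_union {q : Coset} (hq : q ∈ unionSet) : jp 2 • q ∈ unionSet := by
  obtain ⟨j, hj, ⟨m, hm⟩, rfl⟩ := hq
  obtain ⟨n, hn, f, hf, h, hh, d, hd, rfl⟩ := cover hj hm
  have hi : 4 * n + f < (covItems.getD j []).length := by
    have := (cov_roots hj).2.1
    omega
  obtain ⟨k, hk, a, ha, b, hb, he⟩ := id_wp hj hi
  rw [show (4 * n + f) % 4 = f by omega, show (4 * n + f) / 4 = n by omega] at he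
  have h1 : jp 2 * d * jp 2 ∈ Msub := by
    have := conj_Hj (j := 1) (by norm_num) hd
    rwa [gRep_one, t_inv] at this
  have h2 : (gRep j)⁻¹ * h * gRep j ∈ Msub := conj_Hj hj hh
  refine ⟨k, hk, ⟨jp 2 * d * jp 2 * a, mul_mem h1 ha⟩, ?_⟩
  show (QuotientGroup.mk (jp 2 * d * jp 2 * a * gRep k) : Coset) = _
  rw [MulAction.Quotient.smul_mk, smul_eq_mul, ← mk_mul_M _ (mul_mem hb h2)]
  congr 1
  have hs : jp 2 * jp 2 = 1 := by
    nth_rewrite 1 [← t_inv]
    exact inv_mul_cancel _
  calc jp 2 * d * jp 2 * a * gRep k * (b * ((gRep j)⁻¹ * h * gRep j))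
      = jp 2 * d * jp 2 * (a * gRep k * b) * ((gRep j)⁻¹ * h * gRep j) := by group
    _ = jp 2 * d * (jp 2 * jp 2) * eW (fMasks.getD f 0) *
          (wp ((covRoots.getD j []).getD n (0, [])).2)⁻¹ * h * gRep j := by rw [← he]; group
    _ = _ := by rw [hs, mul_one]; group

theorem G_smul_union {g : Equiv.Perm Vec} (hg : g ∈ Gsub) {q : Coset} (hq : q ∈ unionSet) :
    g • q ∈ unionSet := by
  have hle : Gsub ≤ MulAction.stabilizer (Equiv.Perm Vec) unionSet := by
    rw [Gsub, Subgroup.closure_le]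
    intro x hx
    have hsub : ∀ q ∈ unionSet, x • q ∈ unionSet := by
      intro q hq
      rcases hx with rfl | rfl | rfl
      · obtain ⟨j, hj, h⟩ := hq
        exact ⟨j, hj, smul_orbitSet (K_le_M (Subgroup.subset_closure (by simp))) h⟩
      · obtain ⟨j, hj, h⟩ := hq
        exact ⟨j, hj, smul_orbitSet (K_le_M (Subgroup.subset_closure (by simp))) h⟩
      · exact t_smul_union hq
    rw [SetLike.mem_coe, MulAction.mem_stabilizer_iff]
    refine Set.eq_of_subset_of_ncard_le ?_ ?_ (Set.toFinite _)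
    · rintro _ ⟨q, hq, rfl⟩
      exact hsub q hq
    · exact le_of_eq (Set.ncard_image_of_injective _ (MulAction.injective x)).symm
  have h := MulAction.mem_stabilizer_iff.1 (hle hg)
  rw [← h]
  exact Set.smul_mem_smul_set hq

theorem Hj_zero : Hj 0 = Msub := by
  refine le_antisymm (Hj_le_M (by norm_num)) ?_
  have hgen : ∀ p ∈ gensOf 0, pW p ∈ Hj 0 := fun p hp => Subgroup.subset_closure ⟨p, hp, rfl⟩
  have hK : Ksub ≤ Hj 0 := by
    rw [Ksub, Subgroup.closure_le]
    rintro _ (rfl | rfl)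
    · simpa [pW, eW_zero, wp_cons, wp_nil] using hgen (0, [0]) (by decide +kernel)
    · simpa [pW, eW_zero, wp_cons, wp_nil] using hgen (0, [1]) (by decide +kernel)
  have hbit : ∀ i < 11, (2 ^ i, []) ∈ gensOf 0 := by decide +kernel
  have hE : ∀ n ≤ 11, ∀ m, wp (eLn n m) ∈ Hj 0 := by
    intro n
    induction n with
    | zero => intro _ m; simp [eLn, wp_nil]
    | succ n ih =>
      intro hn m
      rw [wp_eLn_succ]
      refine mul_mem (ih (by omega) m) ?_
      cases m.testBit n
      · exact one_mem _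
      · rw [cond_true, ← eW_two_pow (show n < 11 by omega)]
        simpa [pW, wp_nil] using hgen _ (hbit n (by omega))
  rintro _ ⟨m, s, hs, rfl⟩
  exact mul_mem (hE 11 le_rfl m) (hK hs)

theorem card_orbitSet {j : ℕ} (hj : j < 7) : (orbitSet j).ncard ≤ cosetNum.getD j 0 := by
  let H := (Hj j).subgroupOf Msub
  let f : Msub ⧸ H → Coset := fun c => Quotient.liftOn' c
    (fun m : Msub => (QuotientGroup.mk (m.1 * gRep j) : Coset)) fun a b hab => by
      rw [QuotientGroup.leftRel_apply] at hab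
      have hh : a.1⁻¹ * b.1 ∈ Hj j := hab
      have := conj_Hj hj hh
      refine (mk_mul_M _ this).symm.trans ?_
      congr 1
      group
  have hsub : orbitSet j ⊆ Set.range f := by
    rintro _ ⟨m, rfl⟩
    exact ⟨QuotientGroup.mk m, rfl⟩
  refine (Set.ncard_le_ncard hsub (Set.toFinite _)).trans ?_
  have h1 : (Set.range f).ncard ≤ Nat.card (Msub ⧸ H) := by
    rw [← Nat.card_coe_set_eq]
    exact Nat.card_le_card_of_surjective _ Set.rangeFactorization_surjective
  refine h1.trans ?_
  have hmul : Nat.card (Msub ⧸ H) * Nat.card (Hj j) = 501397585920 := by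
    rw [← card_Msub, Subgroup.card_eq_card_quotient_mul_card_subgroup H,
      Nat.card_congr (Subgroup.subgroupOfEquivOfLe (Hj_le_M hj)).toEquiv]
  rcases Nat.eq_zero_or_pos j with rfl | hj0
  · rw [Hj_zero, card_Msub] at hmul
    have : Nat.card (Msub ⧸ H) = 1 := by omega
    rw [this]
    rfl
  · have hlow := card_Hj_lower hj
    have hs := List.all_eq_true.1 size_ok j (List.mem_range.2 hj)
    simp only [Bool.and_eq_true, Bool.or_eq_true, Nat.beq_eq] at hs
    have hs' := hs.2.resolve_left (by omega)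
    refine Nat.le_of_mul_le_mul_right ?_ (Nat.card_pos (α := Hj j))
    rw [hmul, ← hs']
    exact Nat.mul_le_mul_left _ hlow

theorem card_union_sel (sel : ℕ → Prop) [DecidablePred sel] :
    {q : Coset | ∃ j < 7, sel j ∧ q ∈ orbitSet j}.ncard ≤
      ∑ j ∈ (Finset.range 7).filter sel, cosetNum.getD j 0 := by
  have e : {q : Coset | ∃ j < 7, sel j ∧ q ∈ orbitSet j} =
      ⋃ j ∈ (Finset.range 7).filter sel, orbitSet j := by
    ext q; simp [and_assoc]
  rw [e]
  refine (Finset.set_ncard_biUnion_le _ _).trans (Finset.sum_le_sum fun j hj => card_orbitSet ?_)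
  simpa using (Finset.mem_filter.1 hj).1

end Cfsg.Lib.J4Real
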